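import Groth.Agent.RG29.PolyIrred
import Groth.Agent.FlatCrit65.GenFree
import Mathlib.RingTheory.RingHom.StandardSmooth
import Mathlib.RingTheory.Smooth.Flat
import Mathlib.RingTheory.Flat.Equalizer
import Mathlib.RingTheory.Flat.TorsionFree
import Mathlib.FieldTheory.PrimitiveElement
import Mathlib.RingTheory.Unramified.Field
import Mathlib.RingTheory.AdjoinRoot
import Mathlib.RingTheory.Polynomial.UniqueFactorization
import Mathlib.RingTheory.TensorProduct.MvPolynomial

/-! Geometric integrality of the generic fibre of a smooth algebra spreads out. -/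

set_option autoImplicit false

universe u

open TensorProduct

namespace Groth.Agent.RG29

/-- The fibre of `P[y]/(F)` over a field is a domain iff the polynomial stays irreducible. -/
theorem isDomain_tensor_adjoinRoot_iff {A : Type u} [CommRing A] {n : ℕ}
    (F : Polynomial (MvPolynomial (Fin n) A)) (L : Type u) [Field L] [Algebra A L]
    (hF : F.Monic) :
    IsDomain (L ⊗[A] AdjoinRoot F) ↔
      Irreducible (F.map (MvPolynomial.map (algebraMap A L))) := by
  let e := MvPolynomial.algebraTensorAlgEquiv A L (σ := Fin n)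
  let q := F.map (Algebra.TensorProduct.includeRight : MvPolynomial (Fin n) A →ₐ[A] L ⊗[A] MvPolynomial (Fin n) A).toRingHom
  let E := AdjoinRoot.tensorAlgEquiv (R := A) (T := L) F q rfl
  let M := Polynomial.mapEquiv e.toRingEquiv
  have hq : M q = F.map (MvPolynomial.map (algebraMap A L)) := by
    show Polynomial.map e.toRingEquiv.toRingHom (F.map _) = _
    rw [Polynomial.map_map]
    congr 1
    refine RingHom.ext fun p => ?_
    show e ((1 : L) ⊗ₜ p) = _
    rw [MvPolynomial.algebraTensorAlgEquiv_tmul, one_smul]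
  rw [← hq]
  have hne : M q ≠ 0 := by rw [hq]; exact (hF.map _).ne_zero
  have hq0 : q ≠ 0 := fun h => hne (by rw [h, map_zero])
  haveI : IsDomain (L ⊗[A] MvPolynomial (Fin n) A) := e.toRingEquiv.toMulEquiv.isDomain
  constructor
  · intro h
    haveI : IsDomain (AdjoinRoot q) := E.symm.toRingEquiv.toMulEquiv.isDomain
    have : Prime q := (Ideal.span_singleton_prime hq0).1 ((Ideal.Quotient.isDomain_iff_prime _).1 this)
    exact (MulEquiv.prime_iff (p := q) M.toMulEquiv).2 this |>.irreducible
  · intro h
    have : Prime q := (MulEquiv.prime_iff (p := q) M.toMulEquiv).1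
      (UniqueFactorizationMonoid.irreducible_iff_prime.1 h)
    haveI : IsDomain (AdjoinRoot q) :=
      (Ideal.Quotient.isDomain_iff_prime _).2 ((Ideal.span_singleton_prime hq0).2 this)
    exact E.toRingEquiv.toMulEquiv.isDomain

/-- If the generic fibre of a smooth algebra over a domain is geometrically integral, so are all
fibres over a nonempty open. -/
theorem exists_domain_spread {A B : Type u} [CommRing A] [IsDomain A] [CommRing B] [Algebra A B]
    [Algebra.Smooth A B]
    (hint : ∀ (L : Type u) [Field L] [Algebra A L], Function.Injective (algebraMap A L) → IsDomain (L ⊗[A] B)) :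
    ∃ a : A, a ≠ 0 ∧ ∀ (L : Type u) [Field L] [Algebra A L], algebraMap A L a ≠ 0 → IsDomain (L ⊗[A] B) := by
  classical
  -- `B` is a domain containing `A`
  let K := FractionRing A
  haveI := hint K (IsFractionRing.injective A K)
  have hincl : ∀ (L : Type u) [Field L] [Algebra A L], Function.Injective (algebraMap A L) →
      Function.Injective (Algebra.TensorProduct.includeRight : B →ₐ[A] L ⊗[A] B) :=
    fun L _ _ h => Algebra.TensorProduct.includeRight_injective h
  haveI : IsDomain B := (hincl K (IsFractionRing.injective A K)).isDomain _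
  -- coordinates
  obtain ⟨g, hg, hgs⟩ := Algebra.IsSmoothAt.exists_notMem_isStandardSmooth (R := A) (⊥ : Ideal B)
  rw [Ideal.mem_bot] at hg
  let B' := Localization.Away g
  haveI := hgs
  obtain ⟨n, φ, hφ, het⟩ := RingHom.IsStandardSmooth.exists_etale_mvPolynomial
    (f := algebraMap A B') (RingHom.isStandardSmooth_algebraMap.2 ‹_›)
  let P := MvPolynomial (Fin n) A
  letI : Algebra P B' := φ.toAlgebra
  haveI : IsScalarTower A P B' := IsScalarTower.of_algebraMap_eq' hφ.symm
  haveI : Algebra.Etale P B' := het.toAlgebra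
  haveI : IsDomain B' := IsLocalization.isDomain_localization (powers_le_nonZeroDivisors_of_noZeroDivisors hg)
  haveI : Module.Flat P B' := inferInstance
  have hPinj : Function.Injective (algebraMap P B') := by
    rw [injective_iff_map_eq_zero]
    intro q hq
    by_contra hq0
    exact one_ne_zero (α := B') ((Module.Flat.isSMulRegular_of_isRegular (M := B')
      (isRegular_iff_ne_zero.2 hq0)).eq_iff.1 (show q • (1 : B') = q • (0 : B') by
        rw [smul_zero, Algebra.smul_def, hq, zero_mul]))
  -- fields
  let K1 := FractionRing P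
  let Q := FractionRing B'
  haveI : FaithfulSMul P Q := (faithfulSMul_iff_algebraMap_injective P Q).2 (by
    rw [IsScalarTower.algebraMap_eq P B' Q]
    exact (IsFractionRing.injective B' Q).comp hPinj)
  letI : Algebra K1 Q := FractionRing.liftAlgebra P Q
  haveI : IsScalarTower P K1 Q := FractionRing.isScalarTower_liftAlgebra P Q
  haveI : Algebra.FormallyEtale B' Q := Algebra.FormallyEtale.of_isLocalization (nonZeroDivisors B')
  haveI : Algebra.FormallyEtale P Q := Algebra.FormallyEtale.comp P B' Q
  haveI : Algebra.FormallyUnramified K1 Q := Algebra.FormallyUnramified.of_restrictScalars P K1 Q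
  haveI : Algebra.EssFiniteType B' Q := Algebra.EssFiniteType.of_isLocalization Q (nonZeroDivisors B')
  haveI : Algebra.EssFiniteType P Q := Algebra.EssFiniteType.comp P B' Q
  haveI : Algebra.EssFiniteType K1 Q := Algebra.EssFiniteType.of_comp P K1 Q
  haveI : Module.Finite K1 Q := Algebra.FormallyUnramified.finite_of_free K1 Q
  haveI : Algebra.IsSeparable K1 Q := Algebra.FormallyUnramified.isSeparable K1 Q
  obtain ⟨θ₀, hθ₀⟩ := Field.exists_primitive_element K1 Q
  -- an element of `B'` generating `Q`, integral over `P`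
  obtain ⟨θ, F, hF, hroot, hgenmin, hgen⟩ : ∃ (θ : B') (F : Polynomial P), F.Monic ∧
      Polynomial.aeval θ F = 0 ∧ (∀ q : Polynomial P, q.degree < F.degree → Polynomial.aeval θ q = 0 → q = 0) ∧
      Algebra.adjoin K1 {algebraMap B' Q θ} = ⊤ := by
    obtain ⟨⟨b, s⟩, hbs⟩ := IsLocalization.surj (nonZeroDivisors B') θ₀
    obtain ⟨c', hc', hmul⟩ : ∃ c' : P, c' ≠ 0 ∧ ∃ θ : B', algebraMap B' Q θ = c' • θ₀ := by
      haveI : Algebra.IsAlgebraic P B' := by
        refine ⟨fun x => ?_⟩
        rw [← isAlgebraic_algebraMap_iff (IsFractionRing.injective B' Q), IsFractionRing.isAlgebraic_iff P K1 Q]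
        exact Algebra.IsAlgebraic.isAlgebraic _
      obtain ⟨r, hr, hdvd⟩ := (Algebra.IsAlgebraic.isAlgebraic (R := P) (s : B')).exists_nonzero_dvd s.2
      obtain ⟨w, hw⟩ := hdvd
      refine ⟨r, hr, b * w, ?_⟩
      rw [map_mul, ← hbs, Algebra.smul_def, IsScalarTower.algebraMap_apply P B' Q, hw, map_mul]
      ring
    obtain ⟨θ, hθ⟩ := hmul
    have halgθ : IsAlgebraic K1 (algebraMap B' Q θ) := Algebra.IsAlgebraic.isAlgebraic _
    let F₀ := minpoly K1 (algebraMap B' Q θ)
    obtain ⟨d, hd⟩ := IsLocalization.exist_integer_multiples_of_finset (nonZeroDivisors P)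
      ((Finset.range F₀.natDegree).image F₀.coeff)
    have hlift : F₀.scaleRoots (algebraMap P K1 d) ∈ Polynomial.lifts (algebraMap P K1) := by
      rw [Polynomial.lifts_iff_coeff_lifts]
      intro i
      rw [Polynomial.coeff_scaleRoots]
      rcases lt_trichotomy i F₀.natDegree with h | rfl | h
      · obtain ⟨v, hv⟩ := hd (F₀.coeff i) (Finset.mem_image_of_mem _ (Finset.mem_range.2 h))
        refine ⟨v * (d : P) ^ (F₀.natDegree - i - 1), ?_⟩
        rw [Algebra.smul_def] at hv
        rw [map_mul, map_pow, hv, mul_comm (algebraMap P K1 d), mul_assoc, ← pow_succ',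
          Nat.sub_add_cancel (Nat.sub_pos_of_lt h)]
      · rw [Nat.sub_self, pow_zero, mul_one]
        exact ⟨1, by rw [map_one, (minpoly.monic halgθ.isIntegral).coeff_natDegree]⟩
      · exact ⟨0, by rw [map_zero, Polynomial.coeff_eq_zero_of_natDegree_lt h, zero_mul]⟩
    obtain ⟨F, hFmap, hFdeg, hFmon⟩ := Polynomial.lifts_and_degree_eq_and_monic hlift
      ((Polynomial.monic_scaleRoots_iff _).2 (minpoly.monic halgθ.isIntegral))
    have hd0 : algebraMap P K1 d ≠ 0 := by
      intro h
      exact nonZeroDivisors.ne_zero d.2 (IsFractionRing.injective P K1 (h.trans (map_zero _).symm))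
    have hval : algebraMap B' Q ((d : P) • θ) = algebraMap P K1 d • algebraMap B' Q θ := by
      rw [Algebra.smul_def, map_mul, ← IsScalarTower.algebraMap_apply, Algebra.smul_def (algebraMap P K1 (d : P)),
        ← IsScalarTower.algebraMap_apply]
    have hgen : Algebra.adjoin K1 {algebraMap B' Q ((d : P) • θ)} = ⊤ := by
      rw [eq_top_iff, ← IntermediateField.top_toSubalgebra, ← hθ₀,
        IntermediateField.adjoin_simple_toSubalgebra_of_isAlgebraic (Algebra.IsAlgebraic.isAlgebraic θ₀),
        Algebra.adjoin_le_iff, Set.singleton_subset_iff]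
      have hc : algebraMap P K1 (d * c') ≠ 0 := by
        rw [map_mul]
        exact mul_ne_zero hd0 fun h => hc' (IsFractionRing.injective P K1 (h.trans (map_zero _).symm))
      have : θ₀ = (algebraMap P K1 (d * c'))⁻¹ • algebraMap B' Q ((d : P) • θ) := by
        rw [hval, hθ, ← algebraMap_smul K1 c' θ₀, ← mul_smul (algebraMap P K1 (d : P)), ← map_mul, inv_smul_smul₀ hc]
      rw [this]
      exact Subalgebra.smul_mem _ (Algebra.subset_adjoin (Set.mem_singleton _)) _
    refine ⟨(d : P) • θ, F, hFmon, IsFractionRing.injective B' Q ?_, ?_, hgen⟩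
    · rw [map_zero, ← Polynomial.aeval_algebraMap_apply, hval, ← Polynomial.aeval_map_algebraMap K1, hFmap,
        Algebra.smul_def]
      exact Polynomial.scaleRoots_aeval_eq_zero (minpoly.aeval K1 _)
    · intro q hq hq0
      rw [hFdeg, Polynomial.degree_scaleRoots] at hq
      by_contra hne
      have h1 : Polynomial.aeval (algebraMap B' Q θ)
          ((q.map (algebraMap P K1)).comp (Polynomial.C (algebraMap P K1 d) * Polynomial.X)) = 0 := by
        rw [Polynomial.aeval_comp, map_mul, Polynomial.aeval_C, Polynomial.aeval_X, ← Algebra.smul_def, ← hval,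
          Polynomial.aeval_map_algebraMap, Polynomial.aeval_algebraMap_apply, hq0, map_zero]
      have hqm : q.map (algebraMap P K1) ≠ 0 :=
        (Polynomial.map_ne_zero_iff (IsFractionRing.injective P K1)).2 hne
      have h2 : (q.map (algebraMap P K1)).comp (Polynomial.C (algebraMap P K1 d) * Polynomial.X) ≠ 0 := by
        rw [Ne, Polynomial.comp_eq_zero_iff]
        rintro (h | ⟨-, h⟩)
        · exact hqm h
        · have := congrArg (fun r => Polynomial.coeff r 1) h
          simp [Polynomial.coeff_C] at this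
      have h3 := Polynomial.natDegree_le_of_dvd (minpoly.dvd K1 _ h1) h2
      rw [Polynomial.natDegree_comp, Polynomial.natDegree_C_mul_X _ hd0, mul_one,
        Polynomial.natDegree_map_eq_of_injective (IsFractionRing.injective P K1)] at h3
      rw [Polynomial.degree_eq_natDegree hne,
        Polynomial.degree_eq_natDegree (minpoly.ne_zero halgθ.isIntegral), Nat.cast_lt] at hq
      exact absurd h3 (not_le.2 hq)
  -- comparison ring
  let C := AdjoinRoot F
  haveI : Module.Free P C := hF.free_adjoinRoot
  let η : C →ₐ[P] B' := AdjoinRoot.liftAlgHom F (Algebra.ofId P B') θ hroot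
  have hη : Function.Injective η := by
    rw [injective_iff_map_eq_zero]
    intro x hx
    obtain ⟨q, rfl⟩ := AdjoinRoot.mk_surjective x
    have hmod : AdjoinRoot.mk F q = AdjoinRoot.mk F (q %ₘ F) := by
      rw [AdjoinRoot.mk_eq_mk]
      exact ⟨q /ₘ F, by rw [sub_eq_iff_eq_add']; exact (Polynomial.modByMonic_add_div q F).symm⟩
    have h0 : Polynomial.aeval θ (q %ₘ F) = 0 := by
      rw [hmod] at hx
      exact hx
    rw [hmod, hgenmin _ (Polynomial.degree_modByMonic_lt q hF) h0, map_zero]
  obtain ⟨h, hh0, hhgen⟩ : ∃ h : P, h ≠ 0 ∧ ∀ b : B', ∃ k : ℕ, h ^ k • b ∈ η.range := by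
    have hone : ∀ b : B', ∃ h : P, h ≠ 0 ∧ h • b ∈ η.range := by
      intro b
      have hmem : algebraMap B' Q b ∈ Algebra.adjoin K1 {algebraMap B' Q θ} := by rw [hgen]; trivial
      rw [Algebra.adjoin_singleton_eq_range_aeval] at hmem
      obtain ⟨q, hq⟩ := hmem
      obtain ⟨v, hv⟩ := IsLocalization.integerNormalization_map_to_map (nonZeroDivisors P) q
      refine ⟨v, nonZeroDivisors.ne_zero v.2,
        AdjoinRoot.mk F (IsLocalization.integerNormalization (nonZeroDivisors P) q), ?_⟩
      apply IsFractionRing.injective B' Q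
      show algebraMap B' Q (Polynomial.aeval θ _) = _
      rw [← Polynomial.aeval_algebraMap_apply, ← Polynomial.aeval_map_algebraMap K1, hv,
        ← algebraMap_smul K1 (v : P) q, map_smul]
      erw [hq]
      rw [algebraMap_smul, Algebra.smul_def, Algebra.smul_def, map_mul, ← IsScalarTower.algebraMap_apply]
    haveI : Algebra.FiniteType P B' := inferInstance
    obtain ⟨s, hs⟩ := (Algebra.FiniteType.out : (⊤ : Subalgebra P B').FG)
    choose hh hhne hhmem using hone
    refine ⟨∏ b ∈ s, hh b, Finset.prod_ne_zero_iff.2 fun b _ => hhne b, fun b => ?_⟩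
    have hb : b ∈ Algebra.adjoin P (s : Set B') := by rw [hs]; trivial
    induction hb using Algebra.adjoin_induction with
    | mem b hb =>
      refine ⟨1, ?_⟩
      obtain ⟨w, hw⟩ := Finset.dvd_prod_of_mem hh hb
      rw [pow_one, hw, mul_comm, mul_smul]
      exact Subalgebra.smul_mem _ (hhmem b) w
    | algebraMap r => exact ⟨0, by rw [pow_zero, one_smul]; exact Subalgebra.algebraMap_mem _ r⟩
    | add x y _ _ hx hy =>
      obtain ⟨i, hi⟩ := hx
      obtain ⟨j, hj⟩ := hy
      refine ⟨i + j, ?_⟩
      rw [smul_add]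
      refine Subalgebra.add_mem _ ?_ ?_
      · rw [add_comm i j, pow_add, mul_smul]; exact Subalgebra.smul_mem _ hi _
      · rw [pow_add, mul_smul]; exact Subalgebra.smul_mem _ hj _
    | mul x y _ _ hx hy =>
      obtain ⟨i, hi⟩ := hx
      obtain ⟨j, hj⟩ := hy
      refine ⟨i + j, ?_⟩
      rw [pow_add, ← smul_mul_smul_comm]
      exact Subalgebra.mul_mem _ hi hj
  -- the common localisation
  let h' : B' := algebraMap P B' h
  have hh' : h' ≠ 0 := fun e => hh0 (hPinj (e.trans (map_zero _).symm))
  let W := Localization.Away h'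
  have hB'W : Function.Injective (algebraMap B' W) :=
    IsLocalization.injective W (powers_le_nonZeroDivisors_of_noZeroDivisors hh')
  letI algC : Algebra C W := ((algebraMap B' W).comp η.toRingHom).toAlgebra
  haveI : IsScalarTower P C W := IsScalarTower.of_algebraMap_eq fun x => by
    show algebraMap P W x = algebraMap B' W (η (algebraMap P C x))
    rw [η.commutes, ← IsScalarTower.algebraMap_apply]
  haveI : IsScalarTower A C W := IsScalarTower.of_algebraMap_eq fun x => by
    rw [IsScalarTower.algebraMap_apply A P W, IsScalarTower.algebraMap_apply A P C,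
      ← IsScalarTower.algebraMap_apply P C W]
  haveI hWC : IsLocalization.Away (algebraMap P C h) W := by
    refine IsLocalization.Away.mk _ ?_ ?_ ?_
    · rw [← IsScalarTower.algebraMap_apply, IsScalarTower.algebraMap_apply P B' W]
      exact IsLocalization.Away.algebraMap_isUnit h'
    · intro w
      obtain ⟨m, b, hb⟩ := IsLocalization.Away.surj h' w
      obtain ⟨k, c, hc⟩ := hhgen b
      refine ⟨k + m, c, ?_⟩
      show w * algebraMap C W (algebraMap P C h) ^ (k + m) = algebraMap B' W (η c)
      replace hc : η c = h ^ k • b := hc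
      rw [hc, ← IsScalarTower.algebraMap_apply, IsScalarTower.algebraMap_apply P B' W, Algebra.smul_def,
        map_mul, ← hb, map_pow, map_pow]
      ring
    · intro c c' e
      exact ⟨0, by rw [hη (hB'W e)]⟩
  -- the localisation of `B`
  let g₀ := (IsLocalization.Away.sec g h').1
  haveI hWB : IsLocalization.Away (g * g₀) W :=
    IsLocalization.Away.mul_of_associated g g₀ h' (IsLocalization.Away.associated_sec_fst g h')
  let G := g * g₀
  have hg₀ : g₀ ≠ 0 := by
    intro e
    have := IsLocalization.Away.associated_sec_fst g h'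
    rw [show (IsLocalization.Away.sec g h').1 = 0 from e, map_zero] at this
    exact hh' ((associated_zero_iff_eq_zero _).1 this.symm)
  have hG : G ≠ 0 := mul_ne_zero hg hg₀
  -- the two base changes
  have hbcB : ∀ (L : Type u) [Field L] [Algebra A L],
      letI := RingHom.toAlgebra (R := L ⊗[A] B) (S := L ⊗[A] W)
        (Algebra.TensorProduct.map (AlgHom.id L L) (IsScalarTower.toAlgHom A B W)).toRingHom
      IsLocalization.Away ((1 : L) ⊗ₜ[A] G) (L ⊗[A] W) := by
    intro L _ _
    letI := RingHom.toAlgebra (R := L ⊗[A] B) (S := L ⊗[A] W)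
        (Algebra.TensorProduct.map (AlgHom.id L L) (IsScalarTower.toAlgHom A B W)).toRingHom
    haveI : IsScalarTower L (L ⊗[A] B) (L ⊗[A] W) := IsScalarTower.of_algebraMap_eq fun x => by
      show _ = (Algebra.TensorProduct.map (AlgHom.id L L) (IsScalarTower.toAlgHom A B W)) (x ⊗ₜ 1)
      simp
    have := IsLocalization.tensorProduct_tensorProduct_right A L (A := B) (Submonoid.powers G) W
      (RingHom.ext fun x => by
        show (Algebra.TensorProduct.map (AlgHom.id L L) (IsScalarTower.toAlgHom A B W)) ((1 : L) ⊗ₜ x) = _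
        simp)
    rwa [Submonoid.map_powers] at this
  have hbcC : ∀ (L : Type u) [Field L] [Algebra A L],
      letI := RingHom.toAlgebra (R := L ⊗[A] C) (S := L ⊗[A] W)
        (Algebra.TensorProduct.map (AlgHom.id L L) (IsScalarTower.toAlgHom A C W)).toRingHom
      IsLocalization.Away ((1 : L) ⊗ₜ[A] algebraMap P C h) (L ⊗[A] W) := by
    intro L _ _
    letI := RingHom.toAlgebra (R := L ⊗[A] C) (S := L ⊗[A] W)
        (Algebra.TensorProduct.map (AlgHom.id L L) (IsScalarTower.toAlgHom A C W)).toRingHom
    haveI : IsScalarTower L (L ⊗[A] C) (L ⊗[A] W) := IsScalarTower.of_algebraMap_eq fun x => by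
      show _ = (Algebra.TensorProduct.map (AlgHom.id L L) (IsScalarTower.toAlgHom A C W)) (x ⊗ₜ 1)
      simp
    have := IsLocalization.tensorProduct_tensorProduct_right A L (A := C) (Submonoid.powers (algebraMap P C h)) W
      (RingHom.ext fun x => by
        show (Algebra.TensorProduct.map (AlgHom.id L L) (IsScalarTower.toAlgHom A C W)) ((1 : L) ⊗ₜ x) = _
        simp)
    rwa [Submonoid.map_powers] at this
  -- multiplication by `h` on the base change of `C`
  have hCnzd : ∀ (L : Type u) [Field L] [Algebra A L], MvPolynomial.map (algebraMap A L) h ≠ 0 →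
      (1 : L) ⊗ₜ[A] algebraMap P C h ∈ nonZeroDivisors (L ⊗[A] C) := by
    intro L _ _ hL
    let e := MvPolynomial.algebraTensorAlgEquiv A L (σ := Fin n)
    let q := F.map (Algebra.TensorProduct.includeRight : P →ₐ[A] L ⊗[A] P).toRingHom
    let E := AdjoinRoot.tensorAlgEquiv (R := A) (T := L) F q rfl
    haveI : IsDomain (L ⊗[A] P) := e.toRingEquiv.toMulEquiv.isDomain
    haveI : Module.Free (L ⊗[A] P) (AdjoinRoot q) := (hF.map _).free_adjoinRoot
    refine mem_nonZeroDivisors_iff_right.2 fun y hy => E.injective ?_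
    have h1 : E ((1 : L) ⊗ₜ[A] algebraMap P C h) = algebraMap (L ⊗[A] P) (AdjoinRoot q) (1 ⊗ₜ h) :=
      AdjoinRoot.tensorAlgEquiv_of F q rfl
    have h2 := congrArg E hy
    rw [map_mul, h1, map_zero, mul_comm, ← Algebra.smul_def] at h2
    rw [map_zero]
    refine ((smul_eq_zero (R := L ⊗[A] P) (M := AdjoinRoot q)).1 h2).resolve_left fun h0 => hL ?_
    have := congrArg e h0
    rwa [MvPolynomial.algebraTensorAlgEquiv_tmul, one_smul, map_zero] at this
  -- irreducibility
  have hirr : ∀ (L : Type u) [Field L] (φ : A →+* L), Function.Injective φ →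
      Irreducible (F.map (MvPolynomial.map φ)) := by
    intro L _ φ hφ
    letI := φ.toAlgebra
    haveI := hint L hφ
    have hinjB : Function.Injective (Algebra.TensorProduct.includeRight : B →ₐ[A] L ⊗[A] B) := hincl L hφ
    have hG' : (1 : L) ⊗ₜ[A] G ≠ 0 := fun e => hG (hinjB (e.trans (map_zero _).symm))
    haveI : IsDomain (L ⊗[A] W) := by
      letI := RingHom.toAlgebra (R := L ⊗[A] B) (S := L ⊗[A] W)
        (Algebra.TensorProduct.map (AlgHom.id L L) (IsScalarTower.toAlgHom A B W)).toRingHom
      haveI := hbcB L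
      haveI := IsLocalization.isDomain_localization (M := Submonoid.powers ((1 : L) ⊗ₜ[A] G))
        (powers_le_nonZeroDivisors_of_noZeroDivisors hG')
      exact (IsLocalization.algEquiv (Submonoid.powers ((1 : L) ⊗ₜ[A] G)) (L ⊗[A] W)
        (Localization (Submonoid.powers ((1 : L) ⊗ₜ[A] G)))).toRingEquiv.toMulEquiv.isDomain
    have hmap : MvPolynomial.map φ h ≠ 0 := fun e =>
      hh0 (MvPolynomial.map_injective φ hφ (e.trans (map_zero _).symm))
    have : IsDomain (L ⊗[A] C) := by
      letI := RingHom.toAlgebra (R := L ⊗[A] C) (S := L ⊗[A] W)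
        (Algebra.TensorProduct.map (AlgHom.id L L) (IsScalarTower.toAlgHom A C W)).toRingHom
      haveI := hbcC L
      exact (IsLocalization.injective (M := Submonoid.powers ((1 : L) ⊗ₜ[A] algebraMap P C h)) (L ⊗[A] W)
        (Submonoid.powers_le.2 (hCnzd L hmap))).isDomain _
    exact (isDomain_tensor_adjoinRoot_iff F L hF).1 this
  obtain ⟨a₁, ha₁, hspread⟩ := exists_irreducible_spread F hF hirr
  obtain ⟨m, hm⟩ := MvPolynomial.ne_zero_iff.1 hh0
  obtain ⟨a₂, ha₂, hfree, -⟩ := FlatCrit65.generic_freeness (R := A) (S := B) (M := B ⧸ Ideal.span {G})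
  refine ⟨a₁ * (a₂ * MvPolynomial.coeff m h), mul_ne_zero ha₁ (mul_ne_zero ha₂ hm), fun L _ _ hL => ?_⟩
  rw [map_mul, map_mul, mul_ne_zero_iff, mul_ne_zero_iff] at hL
  obtain ⟨hL1, hL2, hL3⟩ := hL
  have hmap : MvPolynomial.map (algebraMap A L) h ≠ 0 := fun e => hL3 (by
    rw [← MvPolynomial.coeff_map, e, MvPolynomial.coeff_zero])
  haveI : IsDomain (L ⊗[A] C) := (isDomain_tensor_adjoinRoot_iff F L hF).2 (hspread L _ hL1)
  haveI : IsDomain (L ⊗[A] W) := by
    letI := RingHom.toAlgebra (R := L ⊗[A] C) (S := L ⊗[A] W)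
        (Algebra.TensorProduct.map (AlgHom.id L L) (IsScalarTower.toAlgHom A C W)).toRingHom
    haveI := hbcC L
    haveI := IsLocalization.isDomain_localization (M := Submonoid.powers ((1 : L) ⊗ₜ[A] algebraMap P C h))
      (Submonoid.powers_le.2 (hCnzd L hmap))
    exact (IsLocalization.algEquiv (Submonoid.powers ((1 : L) ⊗ₜ[A] algebraMap P C h)) (L ⊗[A] W)
      (Localization (Submonoid.powers ((1 : L) ⊗ₜ[A] algebraMap P C h)))).toRingEquiv.toMulEquiv.isDomain
  -- `G` is a nonzerodivisor on the base change of `B`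
  have hmulG : Function.Injective ((LinearMap.mulLeft A G).lTensor L) := by
    let Af := Localization.Away a₂
    haveI : Module.Free Af (Af ⊗[A] (B ⧸ Ideal.span {G})) := hfree Af (IsLocalization.Away.algebraMap_isUnit a₂)
    letI : Algebra Af L := (IsLocalization.Away.lift a₂ (isUnit_iff_ne_zero.2 hL2)).toAlgebra
    haveI : IsScalarTower A Af L :=
      IsScalarTower.of_algebraMap_eq fun x => (IsLocalization.Away.lift_eq a₂ _ x).symm
    let g₁ : B →ₗ[A] B := LinearMap.mulLeft A G
    let f₁ : B →ₗ[A] B ⧸ Ideal.span {G} := (Ideal.Quotient.mkₐ A _).toLinearMap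
    haveI : Module.Flat A Af := IsLocalization.flat _ (Submonoid.powers a₂)
    have hg₁ : Function.Injective (g₁.baseChange Af) := by
      rw [LinearMap.baseChange_eq_ltensor]
      exact Module.Flat.lTensor_preserves_injective_linearMap g₁ (mul_right_injective₀ hG)
    have hf₁ : Function.Surjective (f₁.baseChange Af) := by
      rw [LinearMap.baseChange_eq_ltensor]
      exact LinearMap.lTensor_surjective Af Ideal.Quotient.mk_surjective
    have hex : Function.Exact (g₁.baseChange Af) (f₁.baseChange Af) := by
      rw [LinearMap.baseChange_eq_ltensor, LinearMap.baseChange_eq_ltensor]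
      refine lTensor_exact Af ?_ Ideal.Quotient.mk_surjective
      intro x
      show Ideal.Quotient.mk _ x = 0 ↔ _
      rw [Ideal.Quotient.eq_zero_iff_mem, Ideal.mem_span_singleton']
      exact ⟨fun ⟨y, hy⟩ => ⟨y, (mul_comm _ _).trans hy⟩, fun ⟨y, hy⟩ => ⟨y, (mul_comm _ _).trans hy⟩⟩
    have key := LinearMap.lTensor_injective_of_exact_of_flat (R := Af) _ hf₁ _ hg₁ hex L
    let E := AlgebraTensorModule.cancelBaseChange A Af Af L B
    have hcomm : ∀ z, E ((g₁.baseChange Af).lTensor L z) = g₁.lTensor L (E z) := fun z => by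
      induction z using TensorProduct.induction_on with
      | zero => simp
      | tmul x y =>
        induction y using TensorProduct.induction_on with
        | zero => simp
        | tmul u v => simp [E]
        | add u v hu hv => simp only [tmul_add, map_add, hu, hv]
      | add u v hu hv => simp only [map_add, hu, hv]
    intro x y hxy
    obtain ⟨x, rfl⟩ := E.surjective x
    obtain ⟨y, rfl⟩ := E.surjective y
    rw [← hcomm, ← hcomm] at hxy
    exact congrArg E (key (E.injective hxy))
  letI := RingHom.toAlgebra (R := L ⊗[A] B) (S := L ⊗[A] W)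
        (Algebra.TensorProduct.map (AlgHom.id L L) (IsScalarTower.toAlgHom A B W)).toRingHom
  haveI := hbcB L
  refine (IsLocalization.injective (M := Submonoid.powers ((1 : L) ⊗ₜ[A] G)) (L ⊗[A] W)
    (Submonoid.powers_le.2 (mem_nonZeroDivisors_iff_right.2 fun z hz => hmulG ?_))).isDomain _
  rw [map_zero, ← hz]
  clear hz
  induction z using TensorProduct.induction_on with
  | zero => simp
  | tmul x y => simp [mul_comm]
  | add u v hu hv => rw [map_add, hu, hv, add_mul]

end Groth.Agent.RG29
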