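import Groth.Agent.RG29.SectionOpen
import Groth.Agent.AlgGrp79.SepPoint

/-!
Two points in the same connected component of a fibre of a smooth algebra; separable points.
-/

set_option autoImplicit false

universe u

open TensorProduct

namespace Groth.Agent.RG29

section Corner

variable {k : Type u} [Field k]

/-- If the corner of an idempotent is geometrically integral, it is the component idempotent of
each field valued point at which it has value one. -/
theorem isCompIdem_tensor_of_corner {G : Type u} [CommRing G] [Algebra k G] {e : G} (he : IsIdempotentElem e)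
    (K : Type u) [Field K] [Algebra k K] [IsDomain (K ⊗[k] (G ⧸ Ideal.span {1 - e}))]
    (s : K ⊗[k] G →+* K) (hs : s ((1 : K) ⊗ₜ e) = 1) : IsCompIdem s ((1 : K) ⊗ₜ[k] e) := by
  let π := Algebra.TensorProduct.map (AlgHom.id k K) (Ideal.Quotient.mkₐ k (Ideal.span {1 - e}))
  refine isCompIdem_of_isDomain s ?_ hs π.toRingHom (fun x hx => ?_) ?_
  · exact he.map (Algebra.TensorProduct.includeRight (R := k) (A := K) (B := G))
  · have hk := Algebra.TensorProduct.lTensor_ker (R := k) (A := K) (Ideal.Quotient.mkₐ k (Ideal.span {1 - e}))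
      Ideal.Quotient.mk_surjective
    have hx' : x ∈ RingHom.ker π := hx
    rw [hk, show RingHom.ker (Ideal.Quotient.mkₐ k (Ideal.span {1 - e})) = Ideal.span {1 - e} from Ideal.mk_ker,
      Ideal.map_span, Set.image_singleton, Ideal.mem_span_singleton'] at hx'
    obtain ⟨c, rfl⟩ := hx'
    show (1 : K) ⊗ₜ[k] e * (c * (1 : K) ⊗ₜ[k] (1 - e)) = 0
    rw [mul_left_comm, Algebra.TensorProduct.tmul_mul_tmul, he.mul_one_sub_self, tmul_zero, mul_zero]
  · show π _ = 1
    rw [Algebra.TensorProduct.map_tmul, map_one, show Ideal.Quotient.mkₐ k (Ideal.span {1 - e}) e = 1 from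
      (Ideal.Quotient.eq.2 (Ideal.mem_span_singleton'.2 ⟨-1, by ring⟩)).trans (map_one _)]
    rfl

/-- A nonzero smooth algebra over a field has a point with finite separable residue field. -/
theorem exists_separable_point (C : Type u) [CommRing C] [Algebra k C] [Algebra.Smooth k C] [Nontrivial C] :
    ∃ (k₁ : Type u) (_ : Field k₁) (_ : Algebra k k₁), FiniteDimensional k k₁ ∧ Algebra.IsSeparable k k₁ ∧
      Nonempty (C →ₐ[k] k₁) := by
  classical
  let Ks := SeparableClosure k
  haveI : Nontrivial (Ks ⊗[k] C) :=
    (Algebra.TensorProduct.includeRight_injective (R := k) (A := Ks) (B := C) (algebraMap k Ks).injective).nontrivial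
  obtain ⟨s, hs, hss⟩ := AlgGrp79.exists_standardSmooth_localization Ks (Ks ⊗[k] C)
  haveI := hs
  haveI := hss
  obtain ⟨ψ⟩ := AlgGrp79.exists_point_of_standardSmooth Ks (Localization.Away s)
  let f : C →ₐ[k] Ks := ((ψ.comp (IsScalarTower.toAlgHom Ks (Ks ⊗[k] C) (Localization.Away s))).restrictScalars k).comp
    Algebra.TensorProduct.includeRight
  obtain ⟨G, hG⟩ := (inferInstance : Algebra.FiniteType k C).out
  let k₁ := IntermediateField.adjoin k (f '' (G : Set C))
  have hmem : ∀ c, f c ∈ k₁ := by
    intro c
    have hc : c ∈ Algebra.adjoin k (G : Set C) := by rw [hG]; trivial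
    induction hc using Algebra.adjoin_induction with
    | mem b hb => exact IntermediateField.subset_adjoin _ _ ⟨b, hb, rfl⟩
    | algebraMap r => rw [AlgHom.commutes]; exact k₁.algebraMap_mem r
    | add x y _ _ hx hy => rw [map_add]; exact k₁.add_mem hx hy
    | mul x y _ _ hx hy => rw [map_mul]; exact k₁.mul_mem hx hy
  haveI : FiniteDimensional k k₁ := by
    haveI : Finite (f '' (G : Set C)) := (G.finite_toSet.image f).to_subtype
    exact IntermediateField.finiteDimensional_adjoin fun x _ => (Algebra.IsSeparable.isSeparable k x).isIntegral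
  haveI : Algebra.IsSeparable k k₁ := Algebra.isSeparable_tower_bot_of_isSeparable k k₁ Ks
  exact ⟨k₁, inferInstance, inferInstance, inferInstance, inferInstance,
    ⟨f.codRestrict k₁.toSubalgebra hmem⟩⟩

end Corner

variable {R B : Type u} [CommRing R] [CommRing B] [Algebra R B]

/-- Two field valued points lie in the same component of the fibre. -/
def SameComp {L : Type u} [Field L] [Algebra R L] (τ₁ τ₂ : B →ₐ[R] L) : Prop :=
  ∃ e : L ⊗[R] B, IsCompIdem (ptMap τ₁).toRingHom e ∧ ptMap τ₂ e = 1

theorem SameComp.eval {L : Type u} [Field L] [Algebra R L] {τ₁ τ₂ : B →ₐ[R] L} (h : SameComp τ₁ τ₂)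
    {e : L ⊗[R] B} (he : IsCompIdem (ptMap τ₁).toRingHom e) : ptMap τ₂ e = 1 := by
  obtain ⟨e', he', h1⟩ := h
  rwa [he.unique he']

variable [Algebra.Smooth R B]

theorem exists_isCompIdem_ptMap {L : Type u} [Field L] [Algebra R L] (τ : B →ₐ[R] L) :
    ∃ e : L ⊗[R] B, IsCompIdem (ptMap τ).toRingHom e := by
  haveI : IsNoetherianRing (L ⊗[R] B) := Algebra.FiniteType.isNoetherianRing L _
  exact exists_isCompIdem _

/-- Component idempotents of points are compatible with field extensions. -/
theorem IsCompIdem.baseMap_pt {L L' : Type u} [Field L] [Field L'] [Algebra R L] [Algebra R L']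
    (j : L →ₐ[R] L') (τ : B →ₐ[R] L) {e : L ⊗[R] B} (h : IsCompIdem (ptMap τ).toRingHom e) :
    IsCompIdem (ptMap (j.comp τ)).toRingHom (RG29.baseMap B j e) := by
  letI : Algebra L L' := j.toRingHom.toAlgebra
  haveI : IsScalarTower R L L' := IsScalarTower.of_algHom j
  let E := Algebra.TensorProduct.cancelBaseChange R L L' L' B
  have hE : ∀ x : L ⊗[R] B, E ((1 : L') ⊗ₜ x) = RG29.baseMap B j x := by
    intro x
    induction x using TensorProduct.induction_on with
    | zero => simp [E]
    | tmul a b =>
      simp only [E, Algebra.TensorProduct.cancelBaseChange_tmul, baseMap_tmul]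
      rw [Algebra.smul_def, mul_one]
      rfl
    | add x y hx hy => simp only [TensorProduct.tmul_add, map_add, hx, hy]
  have h1 := IsCompIdem.map_extension (ptMap τ) h L' ((ptMap (j.comp τ)).toRingHom.comp E.toAlgHom.toRingHom)
    fun g => by
      show ptMap (j.comp τ) (E ((1 : L') ⊗ₜ g)) = _
      rw [hE, ptMap_baseMap]
      rfl
  have h2 := h1.of_ringEquiv E.toRingEquiv (ptMap (j.comp τ)).toRingHom fun _ => rfl
  rwa [show E.toRingEquiv ((1 : L') ⊗ₜ[L] e) = RG29.baseMap B j e from hE e] at h2

omit [Algebra.Smooth R B] in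
/-- An idempotent with geometrically integral corner over a field `k` is the component idempotent
of any point of an extension at which it has value one. -/
theorem isCompIdem_baseMap_of_corner {k : Type u} [Field k] [Algebra R k] {e : k ⊗[R] B} (he : IsIdempotentElem e)
    (hdom : ∀ (K : Type u) [Field K] [Algebra k K], IsDomain (K ⊗[k] ((k ⊗[R] B) ⧸ Ideal.span {1 - e})))
    {L : Type u} [Field L] [Algebra R L] (j : k →ₐ[R] L) (τ : B →ₐ[R] L) (h : ptMap τ (baseMap B j e) = 1) :
    IsCompIdem (ptMap τ).toRingHom (baseMap B j e) := by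
  letI : Algebra k L := j.toRingHom.toAlgebra
  haveI : IsScalarTower R k L := IsScalarTower.of_algHom j
  haveI := hdom L
  let E := Algebra.TensorProduct.cancelBaseChange R k L L B
  have hE : ∀ x : k ⊗[R] B, E ((1 : L) ⊗ₜ x) = baseMap B j x := by
    intro x
    induction x using TensorProduct.induction_on with
    | zero => simp [E]
    | tmul a b =>
      simp only [E, Algebra.TensorProduct.cancelBaseChange_tmul, baseMap_tmul]
      rw [Algebra.smul_def, mul_one]
      rfl
    | add x y hx hy => simp only [TensorProduct.tmul_add, map_add, hx, hy]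
  have h1 := isCompIdem_tensor_of_corner he L ((ptMap τ).toRingHom.comp E.toAlgHom.toRingHom)
    (show ptMap τ (E ((1 : L) ⊗ₜ e)) = 1 by rw [hE, h])
  have h2 := h1.of_ringEquiv E.toRingEquiv (ptMap τ).toRingHom fun _ => rfl
  rwa [show E.toRingEquiv ((1 : L) ⊗ₜ[k] e) = baseMap B j e from hE e] at h2

/-- Points of the component of a base changed section, through points of `B`. -/
theorem mem_compSet_ptMap_iff {S : Type u} [CommRing S] [Algebra R S] (σB : B →ₐ[R] S)
    {L : Type u} [Field L] [Algebra R L] (φ : S →ₐ[R] L) (τ : B →ₐ[R] L) (z : PrimeSpectrum (S ⊗[R] B))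
    (hz : ∀ x, Algebra.TensorProduct.lift φ τ (fun _ _ => .all _ _) x = 0 ↔ x ∈ z.asIdeal) :
    z ∈ compSet (ptMap σB) ↔ SameComp (φ.comp σB) τ := by
  letI : Algebra S L := φ.toRingHom.toAlgebra
  haveI : IsScalarTower R S L := IsScalarTower.of_algHom φ
  let τS : S ⊗[R] B →ₐ[S] L := Algebra.TensorProduct.lift (Algebra.ofId S L) τ fun _ _ => .all _ _
  rw [mem_compSet_iff (ptMap σB) z τS fun x => hz x]
  let Ψ := Algebra.TensorProduct.cancelBaseChange R S L L B
  have hs : ∀ x, ptMap (φ.comp σB) (Ψ x) = secMap (ptMap σB) L x := fun x => by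
    induction x using TensorProduct.induction_on with
    | zero => simp
    | tmul l w =>
      induction w using TensorProduct.induction_on with
      | zero => simp
      | tmul s b =>
        simp only [Ψ, Algebra.TensorProduct.cancelBaseChange_tmul, ptMap_tmul, secMap_tmul, map_mul]
        rw [Algebra.smul_def, mul_assoc, mul_left_comm]
        rfl
      | add u v hu hv => simp only [TensorProduct.tmul_add, map_add, hu, hv]
    | add u v hu hv => simp only [map_add, hu, hv]
  have hp : ∀ x, ptMap τ (Ψ x) = ptMap τS x := fun x => by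
    induction x using TensorProduct.induction_on with
    | zero => simp
    | tmul l w =>
      induction w using TensorProduct.induction_on with
      | zero => simp
      | tmul s b =>
        simp only [Ψ, Algebra.TensorProduct.cancelBaseChange_tmul, ptMap_tmul, τS, Algebra.TensorProduct.lift_tmul]
        rw [Algebra.smul_def, mul_assoc, mul_left_comm]
        rfl
      | add u v hu hv => simp only [TensorProduct.tmul_add, map_add, hu, hv]
    | add u v hu hv => simp only [map_add, hu, hv]
  obtain ⟨e, he⟩ := exists_isCompIdem_secMap (ptMap σB) L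
  have he' : IsCompIdem (ptMap (φ.comp σB)).toRingHom (Ψ e) := he.of_ringEquiv Ψ.toRingEquiv _ hs
  constructor
  · intro h
    exact ⟨Ψ e, he', by rw [hp]; exact h.eval he⟩
  · intro h
    exact ⟨e, he, by rw [← hp]; exact h.eval he'⟩

end Groth.Agent.RG29
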