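import Groth.Agent.RG29.StepFlat
import Groth.Agent.Hensel20.FlatUnram
import Mathlib

/-!
Transfer of flatness over the base along étale neighbourhoods, closed immersions and finite maps with
one point over a point; at a point and on basic open neighbourhoods.
-/

set_option autoImplicit false

universe u

open TensorProduct

namespace Groth.Agent.RG29

section Basic

variable {R S : Type u} [CommRing R] [CommRing S] [Algebra R S] {M : Type u} [AddCommGroup M] [Module S M]
  [Module R M] [IsScalarTower R S M]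

/-- Flatness of a localization, elementwise. -/
theorem flat_localized_iff (T : Submonoid S) :
    Module.Flat R (LocalizedModule T M) ↔
      ∀ (I : Ideal R) (z : M ⊗[R] I), I.subtype.lTensor M z = 0 → ∃ t ∈ T, t • z = 0 := by
  constructor
  · intro h I z hz
    exact FlatCrit65.exists_smul_eq_zero_of_injective T _
      (Module.Flat.lTensor_preserves_injective_linearMap _ Subtype.val_injective) z hz
  · intro h
    rw [Module.Flat.iff_lTensor_injective']
    exact fun I => FlatCrit65.injective_lTensor_localized T _ fun z hz => h I z hz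

end Basic

/-- Flatness on a basic open neighbourhood may be tested over a smaller algebra. -/
theorem exists_flat_powers_iff_of_algebra {R D C M : Type u} [CommRing R] [CommRing D] [CommRing C] [Algebra R D]
    [Algebra R C] [Algebra D C] [AddCommGroup M] [Module C M] [Module D M] [Module R M]
    [IsScalarTower D C M] [IsScalarTower R C M] [IsScalarTower R D M]
    (z : Ideal C) [z.IsPrime] (y : Ideal D) [y.IsPrime] (hzy : z.comap (algebraMap D C) = y)
    (h : ∀ J : Ideal C, ¬ J ≤ z → ∃ d : D, d ∉ y ∧ algebraMap D C d ∈ J) :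
    (∃ c : C, c ∉ z ∧ Module.Flat R (LocalizedModule (Submonoid.powers c) M)) ↔
      ∃ d : D, d ∉ y ∧ Module.Flat R (LocalizedModule (Submonoid.powers d) M) := by
  constructor
  · rintro ⟨c, hc, hflat⟩
    obtain ⟨d, hd, hdc⟩ := h (Ideal.span {c}) fun hle => hc (hle (Ideal.mem_span_singleton_self c))
    obtain ⟨e, he⟩ := Ideal.mem_span_singleton'.1 hdc
    refine ⟨d, hd, (flat_localized_iff _).2 fun I x hx => ?_⟩
    obtain ⟨_, ⟨n, rfl⟩, hn⟩ := (flat_localized_iff _).1 hflat I x hx
    refine ⟨d ^ n, ⟨n, rfl⟩, ?_⟩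
    dsimp only at hn
    rw [← algebraMap_smul C (d ^ n) x, map_pow, ← he, mul_pow, mul_smul, hn, smul_zero]
  · rintro ⟨d, hd, hflat⟩
    refine ⟨algebraMap D C d, fun h' => hd (hzy.le h'), (flat_localized_iff _).2 fun I x hx => ?_⟩
    obtain ⟨_, ⟨n, rfl⟩, hn⟩ := (flat_localized_iff _).1 hflat I x hx
    dsimp only at hn
    exact ⟨algebraMap D C d ^ n, ⟨n, rfl⟩, by rw [← map_pow, algebraMap_smul, hn]⟩

section BaseChange

variable {R S S' : Type u} [CommRing R] [CommRing S] [CommRing S'] [Algebra R S] [Algebra S S'] [Algebra R S']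
  [IsScalarTower R S S'] {N M : Type u} [AddCommGroup N] [Module S N] [Module R N] [IsScalarTower R S N]
  [AddCommGroup M] [Module S' M] [Module S M] [IsScalarTower S S' M] [Module R M] [IsScalarTower R S' M]
  [IsScalarTower R S M] {f : N →ₗ[S] M}

/-- Comparison of tensor products with the base change. -/
noncomputable def bcTensorEquiv (hf : IsBaseChange S' f) (P : Type u) [AddCommGroup P] [Module R P] :
    S' ⊗[S] (N ⊗[R] P) ≃ₗ[S'] M ⊗[R] P :=
  (AlgebraTensorModule.assoc R S S' S' N P).symm.trans
    (AlgebraTensorModule.congr hf.equiv (LinearEquiv.refl R P))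

omit [IsScalarTower R S M] in
theorem bcTensorEquiv_tmul (hf : IsBaseChange S' f) (P : Type u) [AddCommGroup P] [Module R P] (s : S') (n : N)
    (p : P) : bcTensorEquiv hf P (s ⊗ₜ[S] (n ⊗ₜ[R] p)) = (s • f n) ⊗ₜ[R] p := by
  simp [bcTensorEquiv, IsBaseChange.equiv_tmul]

theorem bcTensorEquiv_natural (hf : IsBaseChange S' f) {P Q : Type u} [AddCommGroup P] [Module R P] [AddCommGroup Q]
    [Module R Q] (φ : P →ₗ[R] Q) (w : S' ⊗[S] (N ⊗[R] P)) :
    bcTensorEquiv hf Q ((AlgebraTensorModule.lTensor S N φ).lTensor S' w) =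
      φ.lTensor M (bcTensorEquiv hf P w) := by
  induction w using TensorProduct.induction_on with
  | zero => simp
  | tmul s x =>
    induction x using TensorProduct.induction_on with
    | zero => simp
    | tmul n p => simp [bcTensorEquiv_tmul]
    | add a b ha hb => simp only [tmul_add, map_add, ha, hb]
  | add a b ha hb => simp only [map_add, ha, hb]

/-- Flatness over the base of a localization passes to a flat base change of the algebra. -/
theorem flat_localized_baseChange [Module.Flat S S'] (hf : IsBaseChange S' f) (T : Submonoid S)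
    (T' : Submonoid S') (hT : ∀ t ∈ T, algebraMap S S' t ∈ T')
    (h : Module.Flat R (LocalizedModule T N)) : Module.Flat R (LocalizedModule T' M) := by
  rw [flat_localized_iff] at h ⊢
  intro I z hz
  let ι : N ⊗[R] I →ₗ[S] N ⊗[R] R := AlgebraTensorModule.lTensor S N I.subtype
  obtain ⟨w, rfl⟩ := (bcTensorEquiv hf I).surjective z
  rw [← bcTensorEquiv_natural, LinearEquiv.map_eq_zero_iff] at hz
  obtain ⟨u, rfl⟩ := (Module.Flat.lTensor_exact S' (LinearMap.exact_subtype_ker_map ι) w).1 hz
  suffices ∃ t ∈ T, t • bcTensorEquiv hf I ((LinearMap.ker ι).subtype.lTensor S' u) = 0 by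
    obtain ⟨t, ht, h0⟩ := this
    exact ⟨_, hT t ht, by rw [algebraMap_smul, h0]⟩
  induction u using TensorProduct.induction_on with
  | zero => exact ⟨1, T.one_mem, by simp⟩
  | tmul s k =>
    obtain ⟨t, ht, htk⟩ := h I k k.2
    refine ⟨t, ht, ?_⟩
    show t • (bcTensorEquiv hf I).toLinearMap _ = 0
    rw [← LinearMap.map_smul_of_tower, LinearMap.lTensor_tmul, Submodule.subtype_apply,
      ← TensorProduct.tmul_smul, htk, tmul_zero, map_zero]
  | add a b ha hb =>
    obtain ⟨t₁, ht₁, h₁⟩ := ha (by
      simpa using LinearMap.congr_fun ((Module.Flat.lTensor_exact S' (LinearMap.exact_subtype_ker_map ι)).linearMap_comp_eq_zero) a)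
    obtain ⟨t₂, ht₂, h₂⟩ := hb (by
      simpa using LinearMap.congr_fun ((Module.Flat.lTensor_exact S' (LinearMap.exact_subtype_ker_map ι)).linearMap_comp_eq_zero) b)
    refine ⟨t₁ * t₂, T.mul_mem ht₁ ht₂, ?_⟩
    rw [map_add, map_add, smul_add, mul_smul t₁ t₂ (bcTensorEquiv hf I ((LinearMap.ker ι).subtype.lTensor S' b)), h₂,
      smul_zero, add_zero, mul_comm, mul_smul, h₁, smul_zero]

/-- The annihilator of a kernel element after base change is generated by its annihilator. -/
theorem mem_map_annihilator [Module.Flat S S'] (hf : IsBaseChange S' f) (I : Ideal R) (z : N ⊗[R] I) (t : S')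
    (h : t • bcTensorEquiv hf I ((1 : S') ⊗ₜ z) = 0) :
    t ∈ Ideal.map (algebraMap S S') (LinearMap.ker (LinearMap.toSpanSingleton S _ z)) := by
  rw [← map_smul, LinearEquiv.map_eq_zero_iff, TensorProduct.smul_tmul', smul_eq_mul, mul_one] at h
  have h' : (LinearMap.toSpanSingleton S _ z).lTensor S' (t ⊗ₜ[S] (1 : S)) = 0 := by
    rw [LinearMap.lTensor_tmul, LinearMap.toSpanSingleton_apply, one_smul, h]
  obtain ⟨u, hu⟩ := (Module.Flat.lTensor_exact S'
    (LinearMap.exact_subtype_ker_map (LinearMap.toSpanSingleton S (N ⊗[R] I) z)) _).1 h'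
  suffices ∀ u : S' ⊗[S] (LinearMap.ker (LinearMap.toSpanSingleton S (N ⊗[R] I) z)),
      TensorProduct.rid S S' ((LinearMap.ker (LinearMap.toSpanSingleton S (N ⊗[R] I) z)).subtype.lTensor S' u) ∈
        Ideal.map (algebraMap S S') (LinearMap.ker (LinearMap.toSpanSingleton S _ z)) by
    simpa [hu] using this u
  intro u
  induction u using TensorProduct.induction_on with
  | zero => simp
  | tmul s k =>
    rw [LinearMap.lTensor_tmul, TensorProduct.rid_tmul, Algebra.smul_def]
    exact Ideal.mul_mem_right _ _ (Ideal.mem_map_of_mem _ k.2)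
  | add a b ha hb => simpa only [map_add] using Ideal.add_mem _ ha hb

theorem kernel_baseChange (hf : IsBaseChange S' f) (I : Ideal R) (z : N ⊗[R] I) (hz : I.subtype.lTensor N z = 0) :
    I.subtype.lTensor M (bcTensorEquiv hf I ((1 : S') ⊗ₜ z)) = 0 := by
  rw [← bcTensorEquiv_natural, LinearMap.lTensor_tmul,
    show AlgebraTensorModule.lTensor S N I.subtype z = 0 from hz, tmul_zero, map_zero]

/-- Flatness over the base at a point descends along a flat base change of the algebra. -/
theorem flatAt_of_baseChange [Module.Flat S S'] (hf : IsBaseChange S' f) (q : Ideal S) [q.IsPrime]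
    (q' : Ideal S') [q'.IsPrime] [hq : q'.LiesOver q] (h : FlatCA.FlatAt R q' M) : FlatCA.FlatAt R q N := by
  unfold FlatCA.FlatAt at *
  rw [flat_localized_iff] at h ⊢
  intro I z hz
  obtain ⟨t, ht, htz⟩ := h I _ (kernel_baseChange hf I z hz)
  by_contra hcon
  push Not at hcon
  refine ht (Ideal.map_le_iff_le_comap.2 (fun s hs => ?_) (mem_map_annihilator hf I z t htz))
  refine hq.over.le ?_
  by_contra hsq
  exact hcon s hsq hs

/-- Flatness over the base near a point descends along an étale base change of the algebra. -/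
theorem exists_flat_powers_of_baseChange [Algebra.Etale S S'] (hf : IsBaseChange S' f) (q : Ideal S) [hqp : q.IsPrime]
    (q' : Ideal S') [hqp' : q'.IsPrime] [hq : q'.LiesOver q]
    (h : ∃ g : S', g ∉ q' ∧ Module.Flat R (LocalizedModule (Submonoid.powers g) M)) :
    ∃ g : S, g ∉ q ∧ Module.Flat R (LocalizedModule (Submonoid.powers g) N) := by
  obtain ⟨g', hg', hflat⟩ := h
  have hopen : IsOpen (PrimeSpectrum.comap (algebraMap S S') '' PrimeSpectrum.basicOpen g') :=
    PrimeSpectrum.isOpenMap_comap_of_hasGoingDown_of_finitePresentation _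
      (PrimeSpectrum.basicOpen g').isOpen
  have hmem : (⟨q, hqp⟩ : PrimeSpectrum S) ∈ PrimeSpectrum.comap (algebraMap S S') '' PrimeSpectrum.basicOpen g' :=
    ⟨⟨q', hqp'⟩, hg', PrimeSpectrum.ext hq.over.symm⟩
  obtain ⟨_, ⟨g, rfl⟩, hgq, hsub⟩ :=
    PrimeSpectrum.isTopologicalBasis_basic_opens.exists_subset_of_mem_open hmem hopen
  refine ⟨g, hgq, (flat_localized_iff _).2 fun I z hz => ?_⟩
  obtain ⟨_, ⟨n, rfl⟩, hn⟩ := (flat_localized_iff _).1 hflat I _ (kernel_baseChange hf I z hz)
  have hrad : g ∈ Ideal.radical (LinearMap.ker (LinearMap.toSpanSingleton S (N ⊗[R] I) z)) := by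
    rw [Ideal.radical_eq_sInf, Ideal.mem_sInf]
    rintro Q ⟨hJQ, hQ⟩
    by_contra hgQ
    obtain ⟨Q', hQ', hQeq⟩ := hsub (show (⟨Q, hQ⟩ : PrimeSpectrum S) ∈ (PrimeSpectrum.basicOpen g : Set _) from hgQ)
    refine hQ' (Q'.isPrime.mem_of_pow_mem n (Ideal.map_le_iff_le_comap.2 (hJQ.trans ?_) (mem_map_annihilator hf I z _ hn)))
    exact (congrArg PrimeSpectrum.asIdeal hQeq).ge
  obtain ⟨m, hm⟩ := hrad
  exact ⟨g ^ m, ⟨m, rfl⟩, hm⟩

end BaseChange

/-- Flatness of a localization over the base equals flatness over an étale algebra over the base. -/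
theorem flat_localized_etale_iff {R R' S : Type u} [CommRing R] [CommRing R'] [CommRing S] [Algebra R R']
    [Algebra R' S] [Algebra R S] [IsScalarTower R R' S] [Algebra.Etale R R'] {M : Type u} [AddCommGroup M]
    [Module S M] [Module R M] [Module R' M] [IsScalarTower R S M] [IsScalarTower R' S M] (T : Submonoid S) :
    Module.Flat R (LocalizedModule T M) ↔ Module.Flat R' (LocalizedModule T M) := by
  haveI : IsScalarTower R R' M := IsScalarTower.of_algebraMap_smul fun c m => by
    rw [← algebraMap_smul S (algebraMap R R' c), ← IsScalarTower.algebraMap_apply, algebraMap_smul]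
  haveI : IsScalarTower R R' (LocalizedModule T M) := IsScalarTower.of_algebraMap_smul fun c m => by
    induction m using LocalizedModule.induction_on with
    | _ m s => rw [LocalizedModule.smul'_mk, LocalizedModule.smul'_mk, algebraMap_smul]
  refine ⟨fun h => Hensel20.flat_of_formallyUnramified R R' _, fun h => ?_⟩
  exact Module.Flat.trans R R' _

end Groth.Agent.RG29

namespace Groth.Agent.RG29

set_option maxHeartbeats 800000 in
/-- Flatness along an elementary dévissage. -/
theorem elemDevissage_flat_iff {R S : Type u} [CommRing R] [CommRing S] [Algebra R S]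
    (N : Type u) [AddCommGroup N] [Module S N] [Module R N] [IsScalarTower R S N]
    (p : Ideal R) [p.IsPrime] (q : Ideal S) [q.IsPrime] (n : ℕ) (E : FlatCA.ElemDevissage R S N p q n) :
    [FlatCA.FlatAt R q N, FlatCA.FlatAt E.R' E.z E.G, FlatCA.FlatAt E.R' E.y E.G].TFAE ∧
    [∃ g : S, g ∉ q ∧ Module.Flat R (LocalizedModule (Submonoid.powers g) N),
     ∃ g : E.C, g ∉ E.z ∧ Module.Flat E.R' (LocalizedModule (Submonoid.powers g) E.G),
     ∃ g : E.D, g ∉ E.y ∧ Module.Flat E.R' (LocalizedModule (Submonoid.powers g) E.G)].TFAE := by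
  obtain ⟨_, _, -⟩ := E.etaleR
  obtain ⟨_, hqq, -⟩ := E.etaleS
  haveI := E.finiteDC
  haveI : Algebra.IsIntegral E.D E.C := Algebra.IsIntegral.of_finite E.D E.C
  letI : Module S E.G := Module.compHom E.G (algebraMap S E.S')
  haveI : IsScalarTower S E.S' E.G := IsScalarTower.of_algebraMap_smul fun _ _ => rfl
  letI : Module R E.G := Module.compHom E.G (algebraMap R E.R')
  haveI : IsScalarTower R E.R' E.G := IsScalarTower.of_algebraMap_smul fun _ _ => rfl
  haveI : IsScalarTower E.R' E.S' E.G := IsScalarTower.of_algebraMap_smul fun c m => by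
    rw [← algebraMap_smul E.C (algebraMap E.R' E.S' c) m, ← IsScalarTower.algebraMap_apply, algebraMap_smul]
  haveI : IsScalarTower R E.S' E.G := IsScalarTower.of_algebraMap_smul fun c m => by
    rw [IsScalarTower.algebraMap_apply R E.R' E.S', algebraMap_smul, algebraMap_smul]
  haveI : IsScalarTower R S E.G := IsScalarTower.of_algebraMap_smul fun c m => by
    rw [← algebraMap_smul E.S' (algebraMap R S c) m, ← IsScalarTower.algebraMap_apply, algebraMap_smul]
  let f' : N →ₗ[S] E.G := (E.iso.toLinearMap.restrictScalars S).comp E.f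
  have hf : IsBaseChange E.S' f' := IsBaseChange.of_equiv (E.isBaseChange.equiv.trans E.iso) fun x => by
    simp [f', IsBaseChange.equiv_tmul]
  have hzq : E.z.comap (algebraMap E.S' E.C) = E.q' := E.zOver.over.symm
  have hzy : E.z.comap (algebraMap E.D E.C) = E.y := E.zOverY.over.symm
  have hJC : ∀ J : Ideal E.C, ¬ J ≤ E.z → ∃ d : E.D, d ∉ E.y ∧ algebraMap E.D E.C d ∈ J :=
    fun J hJ => exists_mem_of_unique E.z E.y E.uniq J hJ
  have hJS : ∀ J : Ideal E.C, ¬ J ≤ E.z → ∃ d : E.S', d ∉ E.q' ∧ algebraMap E.S' E.C d ∈ J := fun J hJ =>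
    hzq ▸ exists_mem_of_surjective E.surjC _ J hJ
  refine ⟨?_, ?_⟩
  · have hNz : FlatCA.FlatAt R q N ↔ FlatCA.FlatAt E.R' E.z E.G := by
      rw [flatAt_iff_of_algebra (R := E.R') E.z E.q' hzq hJS]
      refine ⟨fun h => (flat_localized_etale_iff (R := R) E.q'.primeCompl).1
        (flat_localized_baseChange hf q.primeCompl E.q'.primeCompl
          (fun t ht h' => ht (hqq.over.ge h')) h), fun h => ?_⟩
      exact flatAt_of_baseChange hf q E.q' ((flat_localized_etale_iff (R := R) E.q'.primeCompl).2 h)
    tfae_have 1 ↔ 2 := hNz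
    tfae_have 2 ↔ 3 := flatAt_iff_of_algebra E.z E.y hzy hJC
    tfae_finish
  · tfae_have 2 ↔ 3 := exists_flat_powers_iff_of_algebra E.z E.y hzy hJC
    tfae_have 1 → 2 := fun ⟨g, hg, hflat⟩ =>
      (exists_flat_powers_iff_of_algebra (R := E.R') E.z E.q' hzq hJS).2
        ⟨algebraMap S E.S' g, fun h' => hg (hqq.over.ge h'), (flat_localized_etale_iff (R := R) _).1
          (flat_localized_baseChange hf (Submonoid.powers g) _ (by
            rintro _ ⟨m, rfl⟩; exact ⟨m, (map_pow (algebraMap S E.S') g m).symm⟩) hflat)⟩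
    tfae_have 2 → 1 := fun h => by
      obtain ⟨g', hg', hflat⟩ := (exists_flat_powers_iff_of_algebra (R := E.R') E.z E.q' hzq hJS).1 h
      exact exists_flat_powers_of_baseChange hf q E.q'
        ⟨g', hg', (flat_localized_etale_iff (R := R) _).2 hflat⟩
    tfae_finish

end Groth.Agent.RG29
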