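import Groth.Agent.ML3.Dominate
import Groth.Agent.RG29.FlatTransfer
import Groth.Agent.FlatMor67.CountProj
import Groth.Prelude.Def_CAlgX
import Groth.Prelude.Def_Found
import Mathlib

/-!
Projectivity over the base of a localized module from projectivity after a flat extension of the source
whose image contains the basic open, for an element acting universally injectively on the extension.
-/

set_option autoImplicit false

universe u

open TensorProduct
open scoped Pointwise

namespace Groth.Agent.RG29

/-- An element killed in a flat extension is killed by a power of any element whose basic open is in the image. -/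
theorem exists_pow_smul_eq_zero_of_one_tmul {B C Y : Type u} [CommRing B] [CommRing C] [Algebra B C] [Module.Flat B C]
    [AddCommGroup Y] [Module B Y] (g : B)
    (hcov : ∀ (P : Ideal B) [P.IsPrime], g ∉ P → ∃ P' : Ideal C, P'.IsPrime ∧ P'.comap (algebraMap B C) = P)
    (y : Y) (h : (1 : C) ⊗ₜ[B] y = 0) : ∃ m : ℕ, g ^ m • y = 0 := by
  let J : Ideal B := LinearMap.ker (LinearMap.toSpanSingleton B Y y)
  suffices hrad : g ∈ J.radical by
    obtain ⟨m, hm⟩ := hrad
    exact ⟨m, by simpa [J] using hm⟩
  rw [Ideal.radical_eq_sInf, Ideal.mem_sInf]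
  rintro P ⟨hJP, hP⟩
  by_contra hgP
  haveI := hP
  obtain ⟨P', hP', hPP⟩ := hcov P hgP
  have hex : Function.Exact ((J.subtype).lTensor C) ((LinearMap.toSpanSingleton B Y y).lTensor C) :=
    Module.Flat.lTensor_exact C (LinearMap.exact_subtype_ker_map _)
  obtain ⟨w, hw⟩ := (hex ((1 : C) ⊗ₜ[B] (1 : B))).1 (by
    rw [LinearMap.lTensor_tmul, LinearMap.toSpanSingleton_apply, one_smul, h])
  have hmem : ∀ w : C ⊗[B] J, TensorProduct.rid B C (J.subtype.lTensor C w) ∈ P' := fun w => by
    induction w using TensorProduct.induction_on with
    | zero => simp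
    | tmul c j =>
      rw [LinearMap.lTensor_tmul, TensorProduct.rid_tmul, Submodule.coe_subtype, Algebra.smul_def]
      exact Ideal.mul_mem_right _ _ (Ideal.mem_comap.1 (hPP ▸ hJP j.2))
    | add a b ha hb => rw [map_add, map_add]; exact add_mem ha hb
  have h1 := hmem w
  rw [hw, TensorProduct.rid_tmul, one_smul] at h1
  exact hP'.ne_top (P'.eq_top_iff_one.2 h1)

/-- Projective modules are Mittag-Leffler. -/
theorem ml_of_projective {R : Type u} [CommRing R] (M : Type u) [AddCommGroup M] [Module R M] [Module.Projective R M] :
    CAlg.IsMittagLeffler R M := by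
  classical
  obtain ⟨s, hs⟩ := Module.projective_def'.1 (inferInstance : Module.Projective R M)
  rw [ML3.ml_iff_forall]
  intro ι Q _ _ z hz
  have h1 : s.rTensor (∀ i, Q i) z = 0 := by
    refine (TensorProduct.finsuppScalarLeft R (∀ i, Q i) M).injective ?_
    rw [map_zero]
    ext k i
    rw [TensorProduct.finsuppScalarLeft_apply, ← LinearMap.rTensor_comp_apply]
    let c : M →ₗ[R] R := (Finsupp.lapply k).comp s
    have hc : ∀ a : M ⊗[R] (∀ i, Q i), TensorProduct.lid R (∀ i, Q i) (c.rTensor (∀ i, Q i) a) i =
        TensorProduct.lid R (Q i) (c.rTensor (Q i) (TensorProduct.piRightHom R R M Q a i)) := fun a => by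
      induction a using TensorProduct.induction_on with
      | zero => simp
      | tmul m q => simp
      | add a b ha hb => simp only [map_add, Pi.add_apply, ha, hb]
    exact (hc z).trans (by rw [hz, Pi.zero_apply, map_zero, map_zero, Finsupp.coe_zero, Pi.zero_apply, Pi.zero_apply])
  have h2 := congrArg ((Finsupp.linearCombination R (id : M → M)).rTensor (∀ i, Q i)) h1
  rwa [← LinearMap.rTensor_comp_apply, hs, LinearMap.rTensor_id_apply, map_zero] at h2

variable {A B : Type u} [CommRing A] [CommRing B] [Algebra A B]

section Localized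

variable {M M' : Type u} [AddCommGroup M] [Module B M] [Module A M] [IsScalarTower A B M]
  [AddCommGroup M'] [Module B M'] [Module A M'] [IsScalarTower A B M']

/-- Tensors over the base of a localized module have a numerator. -/
theorem exists_numerator (T : Submonoid B) (j : M →ₗ[B] M') [IsLocalizedModule T j] {Q : Type u} [AddCommGroup Q]
    [Module A Q] (z : M' ⊗[A] Q) :
    ∃ (t : T) (w : M ⊗[A] Q), (t : B) • z = (j.restrictScalars A).rTensor Q w := by
  obtain ⟨⟨w, t⟩, h⟩ := IsLocalizedModule.surj T (AlgebraTensorModule.rTensor A Q j) z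
  exact ⟨t, w, h⟩

/-- An element of the denominators acts injectively on tensors with a localized module. -/
theorem eq_zero_of_smul_localized (T : Submonoid B) (j : M →ₗ[B] M') [IsLocalizedModule T j] {Q : Type u}
    [AddCommGroup Q] [Module A Q] (t : T) (z : M' ⊗[A] Q) (h : (t : B) • z = 0) : z = 0 :=
  (((Module.End.isUnit_iff _).1 (IsLocalizedModule.map_units (AlgebraTensorModule.rTensor A Q j) t)).1)
    (show algebraMap B (Module.End B _) t z = algebraMap B (Module.End B _) t 0 by
      rw [Module.algebraMap_end_apply, Module.algebraMap_end_apply, h, smul_zero])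

/-- Universally injective multiplication gives injectivity of tensors of the localization map. -/
theorem eq_zero_of_mk_eq_zero {g : B} (hg : CAlgX.UniversallyInjective A ((LinearMap.lsmul B M g).restrictScalars A))
    (j : M →ₗ[B] M') [IsLocalizedModule (Submonoid.powers g) j] {Q : Type u} [AddCommGroup Q] [Module A Q]
    (w : M ⊗[A] Q) (h : (j.restrictScalars A).rTensor Q w = 0) : w = 0 := by
  obtain ⟨⟨_, n, rfl⟩, hn⟩ := (IsLocalizedModule.eq_zero_iff (Submonoid.powers g)
    (AlgebraTensorModule.rTensor A Q j)).1 h
  rw [Submonoid.smul_def] at hn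
  dsimp only at hn
  have hmul : ∀ a : M ⊗[A] Q, ((LinearMap.lsmul B M g).restrictScalars A).rTensor Q a = g • a := fun a => by
    induction a using TensorProduct.induction_on with
    | zero => simp
    | tmul m q => simp [TensorProduct.smul_tmul']
    | add a b ha hb => simp only [map_add, smul_add, ha, hb]
  clear h
  induction n with
  | zero => rwa [pow_zero, one_smul] at hn
  | succ n ih =>
    refine ih (hg Q ?_)
    rw [map_zero, hmul, smul_smul, ← pow_succ', hn]

/-- Localization by universally injective multiplication preserves the Mittag-Leffler property. -/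
theorem ml_localized_away (g : B) (hg : CAlgX.UniversallyInjective A ((LinearMap.lsmul B M g).restrictScalars A))
    (j : M →ₗ[B] M') [IsLocalizedModule (Submonoid.powers g) j] (hM : CAlg.IsMittagLeffler A M) :
    CAlg.IsMittagLeffler A M' := by
  rw [ML3.ml_iff_forall]
  intro ι Q _ _ z hz
  obtain ⟨t, w, hw⟩ := exists_numerator (A := A) (Submonoid.powers g) j z
  have hlin : ∀ a : M' ⊗[A] (∀ i, Q i),
      ((LinearMap.lsmul B M' (t : B)).restrictScalars A).rTensor (∀ i, Q i) a = (t : B) • a := fun a => by
    induction a using TensorProduct.induction_on with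
    | zero => simp
    | tmul m q => simp [TensorProduct.smul_tmul']
    | add a b ha hb => simp only [map_add, smul_add, ha, hb]
  have hw0 : w = 0 := by
    refine hM ι Q ?_
    rw [map_zero]
    funext i
    refine eq_zero_of_mk_eq_zero hg j _ ?_
    rw [← ML3.piHom_rTensor, ← hw, ← hlin, ML3.piHom_rTensor, hz, Pi.zero_apply, map_zero]
  exact eq_zero_of_smul_localized (Submonoid.powers g) j t z (by rw [hw, hw0, map_zero])

end Localized

/-- A module with a universally injective map into a flat module is flat. -/
theorem flat_of_univInj {R M N : Type u} [CommRing R] [AddCommGroup M] [Module R M] [AddCommGroup N] [Module R N]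
    [Module.Flat R N] (f : M →ₗ[R] N) (hf : CAlgX.UniversallyInjective R f) : Module.Flat R M := by
  rw [Module.Flat.iff_lTensor_preserves_injective_linearMap]
  intro P P' _ _ _ _ φ hφ a b hab
  refine hf P (Module.Flat.lTensor_preserves_injective_linearMap (M := N) φ hφ ?_)
  rw [← LinearMap.comp_apply, ← LinearMap.comp_apply, LinearMap.lTensor_comp_rTensor, ← LinearMap.rTensor_comp_lTensor,
    LinearMap.comp_apply, LinearMap.comp_apply, hab]

/-- Finite modules over finite type algebras are countably generated over the base. -/
theorem countablyGenerated_of_finite (M : Type u) [AddCommGroup M] [Module B M] [Module A M] [IsScalarTower A B M]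
    [Algebra.FiniteType A B] [Module.Finite B M] : CAlg.IsCountablyGenerated A M := by
  obtain ⟨s, hs⟩ := (inferInstance : Algebra.FiniteType A B)
  obtain ⟨t, ht⟩ := (inferInstance : Module.Finite B M)
  refine ⟨Set.image2 (fun b m => b • m) (Submonoid.closure (s : Set B) : Set B) (t : Set M), ?_, ?_⟩
  · haveI : Countable (s : Set B) := s.countable_toSet.to_subtype
    refine Set.Countable.image2 ?_ t.countable_toSet _
    rw [Submonoid.closure_eq_mrange]
    exact Set.countable_range _
  · have hspan : Submodule.span A (Submonoid.closure (s : Set B) : Set B) = ⊤ := by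
      rw [← Algebra.adjoin_eq_span, hs, Algebra.top_toSubmodule]
    show Submodule.span A ((Submonoid.closure (s : Set B) : Set B) • (t : Set M)) = ⊤
    rw [Submodule.span_smul_of_span_eq_top hspan, ht, Submodule.restrictScalars_top]

/-- A localization of a module maps universally injectively into that of a flat extension. -/
theorem univInj_map_localized {C M M' L' : Type u} [CommRing C] [Algebra B C] [Algebra A C] [IsScalarTower A B C]
    [Module.Flat B C] [AddCommGroup M] [Module B M] [Module A M] [IsScalarTower A B M]
    [AddCommGroup M'] [Module B M'] [Module A M'] [IsScalarTower A B M']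
    [AddCommGroup L'] [Module B L'] [Module A L'] [IsScalarTower A B L'] (g : B)
    (hcov : ∀ (P : Ideal B) [P.IsPrime], g ∉ P → ∃ P' : Ideal C, P'.IsPrime ∧ P'.comap (algebraMap B C) = P)
    (hg : CAlgX.UniversallyInjective A ((LinearMap.lsmul B (C ⊗[B] M) g).restrictScalars A))
    (j : M →ₗ[B] M') [IsLocalizedModule (Submonoid.powers g) j]
    (k : C ⊗[B] M →ₗ[B] L') [IsLocalizedModule (Submonoid.powers g) k]
    (ψ : M' →ₗ[B] L') (hψ : ψ.comp j = k.comp (TensorProduct.mk B C M 1)) :
    CAlgX.UniversallyInjective A (ψ.restrictScalars A) := by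
  intro Q _ _
  refine (injective_iff_map_eq_zero _).2 fun z hz => ?_
  obtain ⟨t, w, hw⟩ := exists_numerator (A := A) (Submonoid.powers g) j z
  let ι : M →ₗ[B] C ⊗[B] M := TensorProduct.mk B C M 1
  have h1 : (k.restrictScalars A).rTensor Q ((ι.restrictScalars A).rTensor Q w) = 0 := by
    rw [← LinearMap.rTensor_comp_apply,
      show (k.restrictScalars A).comp (ι.restrictScalars A) = (ψ.restrictScalars A).comp (j.restrictScalars A) from
        LinearMap.ext fun m => (LinearMap.congr_fun hψ m).symm,
      LinearMap.rTensor_comp_apply, ← hw]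
    show (AlgebraTensorModule.rTensor A Q ψ) ((t : B) • z) = 0
    rw [map_smul, show (AlgebraTensorModule.rTensor A Q ψ) z = 0 from hz, smul_zero]
  have h2 : (ι.restrictScalars A).rTensor Q w = 0 := eq_zero_of_mk_eq_zero hg k _ h1
  have h3 : (1 : C) ⊗ₜ[B] w = 0 := by
    let e : (C ⊗[B] M) ⊗[A] Q ≃ₗ[B] C ⊗[B] (M ⊗[A] Q) :=
      TensorProduct.AlgebraTensorModule.assoc A B B C M Q
    have he : ∀ w : M ⊗[A] Q, e ((ι.restrictScalars A).rTensor Q w) = (1 : C) ⊗ₜ[B] w := fun w => by
      induction w using TensorProduct.induction_on with
      | zero => simp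
      | tmul m q => rfl
      | add a b ha hb => rw [map_add, map_add, ha, hb, TensorProduct.tmul_add]
    rw [← he, h2, map_zero]
  obtain ⟨m, hm⟩ := exists_pow_smul_eq_zero_of_one_tmul g hcov w h3
  refine eq_zero_of_smul_localized (Submonoid.powers g) j (⟨g ^ m, m, rfl⟩ * t) z ?_
  rw [Submonoid.coe_mul, mul_smul, hw]
  show g ^ m • (AlgebraTensorModule.rTensor A Q j) w = 0
  rw [← map_smul, hm, map_zero]

/-- The projectivity criterion on abstract localizations. -/
theorem projective_of_isLocalized_cover {C M M' L' : Type u} [CommRing C] [Algebra B C] [Algebra A C]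
    [IsScalarTower A B C] [Module.Flat B C] [AddCommGroup M] [Module B M] [Module A M] [IsScalarTower A B M]
    [AddCommGroup M'] [Module B M'] [Module A M'] [IsScalarTower A B M']
    [AddCommGroup L'] [Module B L'] [Module A L'] [IsScalarTower A B L'] (g : B)
    (hcov : ∀ (P : Ideal B) [P.IsPrime], g ∉ P → ∃ P' : Ideal C, P'.IsPrime ∧ P'.comap (algebraMap B C) = P)
    [Module.Projective A (C ⊗[B] M)] [Module.Flat A L']
    (hg : CAlgX.UniversallyInjective A ((LinearMap.lsmul B (C ⊗[B] M) g).restrictScalars A))
    (j : M →ₗ[B] M') [IsLocalizedModule (Submonoid.powers g) j]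
    (k : C ⊗[B] M →ₗ[B] L') [IsLocalizedModule (Submonoid.powers g) k]
    (hc : CAlg.IsCountablyGenerated A M') : Module.Projective A M' := by
  let ψ : M' →ₗ[B] L' := IsLocalizedModule.map (Submonoid.powers g) j k (TensorProduct.mk B C M 1)
  have hψ : ψ.comp j = k.comp (TensorProduct.mk B C M 1) :=
    LinearMap.ext fun m => IsLocalizedModule.map_apply (Submonoid.powers g) j k _ m
  have hinj := univInj_map_localized g hcov hg j k ψ hψ
  haveI : Module.Flat A M' := flat_of_univInj _ hinj
  exact FlatMor67.projective_of_flat_ml_countable M'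
    (ML3.ml_of_univInj _ hinj (ml_localized_away g hg k (ml_of_projective _))) hc

set_option maxHeartbeats 800000 in
/-- Projectivity over the base of a localization from projectivity of a flat extension. -/
theorem projective_localized_of_cover {C : Type u} [CommRing C] [Algebra B C] [Algebra A C] [IsScalarTower A B C]
    [Module.Flat B C] [Algebra.FiniteType A B] (M : Type u) [AddCommGroup M] [Module B M] [Module A M]
    [IsScalarTower A B M] [Module.Finite B M] (g : B)
    (hcov : ∀ (P : Ideal B) [P.IsPrime], g ∉ P → ∃ P' : Ideal C, P'.IsPrime ∧ P'.comap (algebraMap B C) = P)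
    [Module.Projective A (C ⊗[B] M)]
    (hg : CAlgX.UniversallyInjective A ((LinearMap.lsmul B (C ⊗[B] M) g).restrictScalars A)) :
    Module.Projective A (LocalizedModule (Submonoid.powers g) M) := by
  let T := Submonoid.powers g
  haveI hL : Module.Flat A (LocalizedModule T (C ⊗[B] M)) := (flat_localized_iff T).2 fun I z hz => ⟨1, T.one_mem, by
    rw [one_smul]
    exact Module.Flat.lTensor_preserves_injective_linearMap (M := C ⊗[B] M) I.subtype Subtype.val_injective
      (hz.trans (map_zero _).symm)⟩
  haveI : Algebra.FinitePresentation B (Localization T) := IsLocalization.Away.finitePresentation g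
  haveI : Algebra.FiniteType A (Localization T) := Algebra.FiniteType.trans (S := B) inferInstance inferInstance
  haveI : Module.Finite (Localization T) (LocalizedModule T M) :=
    Module.Finite.of_isLocalizedModule T (LocalizedModule.mkLinearMap T M)
  exact projective_of_isLocalized_cover (L' := LocalizedModule T (C ⊗[B] M)) g hcov hg (LocalizedModule.mkLinearMap T M)
    (LocalizedModule.mkLinearMap T (C ⊗[B] M)) (countablyGenerated_of_finite (B := Localization T) _)

end Groth.Agent.RG29
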