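import Groth.Agent.RG29.SectionML
import Groth.Agent.RG29.OpenDescent
import Groth.Agent.Open62.SmoothRing
import Groth.Agent.FBase64.Products
import Groth.Agent.S2451
import Groth.Agent.Alg80.GeomRedTrans
import Mathlib.AlgebraicGeometry.Geometrically.Integral
import Mathlib

/-!
A flat finitely presented algebra with geometrically integral fibres is a projective module over the base:
after a faithfully flat smooth base change it has a section through the smooth locus, whose basic open is
Mittag-Leffler and receives the algebra universally injectively.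
-/

set_option autoImplicit false

universe u

open TensorProduct AlgebraicGeometry CategoryTheory Limits

namespace Groth.Agent.RG29

/-- Geometrically integral fibres are stable under base change. -/
theorem geomIntegral_baseChange {R R' D : Type u} [CommRing R] [CommRing R'] [CommRing D] [Algebra R R']
    [Algebra R D] (h : FlatCA.GeomIntegralFibres R D) : FlatCA.GeomIntegralFibres R' (R' ⊗[R] D) :=
  MorphismProperty.of_isPullback (P := @GeometricallyIntegral)
    (isPullback_SpecMap_of_isPushout _ _ _ _ (CommRingCat.isPushout_tensorProduct R R' D)).flip h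

/-- Base changes to fields of an algebra with geometrically integral fibres are domains. -/
theorem isDomain_field_tensor {R D L : Type u} [CommRing R] [CommRing D] [Algebra R D] [Field L] [Algebra R L]
    (h : FlatCA.GeomIntegralFibres R D) : IsDomain (L ⊗[R] D) := by
  have hint : IsIntegral (Spec (CommRingCat.of (L ⊗[R] D))) :=
    h.geometrically_isIntegral _ _ _ (isPullback_SpecMap_of_isPushout _ _ _ _
      (CommRingCat.isPushout_tensorProduct R L D)).flip
  exact (affine_isIntegral_iff _).1 hint

/-- A geometrically reduced domain over a field is smooth at its generic point. -/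
theorem isSmoothAt_bot (k F : Type u) [Field k] [CommRing F] [IsDomain F] [Algebra k F]
    [Algebra.IsGeometricallyReduced k F] : Algebra.IsSmoothAt k (⊥ : Ideal F) := by
  haveI : Algebra.IsGeometricallyReduced k (FractionRing F) :=
    Alg80.isGeometricallyReduced_of_isLocalization (FractionRing F) (nonZeroDivisors F)
  haveI : Algebra.FormallySmooth k (FractionRing F) := S2451.result.2 inferInstance
  haveI : IsLocalization (⊥ : Ideal F).primeCompl (FractionRing F) := by
    rw [show (⊥ : Ideal F).primeCompl = nonZeroDivisors F from Submonoid.ext fun x => by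
      rw [Ideal.mem_primeCompl_iff, mem_nonZeroDivisors_iff_ne_zero, Ideal.mem_bot]]
    infer_instance
  exact Algebra.FormallySmooth.of_equiv
    ((IsLocalization.algEquiv (⊥ : Ideal F).primeCompl (FractionRing F)
      (Localization.AtPrime (⊥ : Ideal F))).restrictScalars k)

/-- Every fibre has a point where the algebra is smooth. -/
theorem exists_smooth_point {R D : Type u} [CommRing R] [CommRing D] [Algebra R D]
    [Algebra.FinitePresentation R D] [Module.Flat R D] (h : FlatCA.GeomIntegralFibres R D) (p : Ideal R) [p.IsPrime] :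
    ∃ (q : Ideal D) (g : D), q.IsPrime ∧ q.comap (algebraMap R D) = p ∧ g ∉ q ∧
      Algebra.Smooth R (Localization.Away g) := by
  let κ := p.ResidueField
  let F := p.Fiber D
  haveI hF : IsDomain F := isDomain_field_tensor h
  haveI : Algebra.IsGeometricallyReduced κ F := by
    rw [Algebra.isGeometricallyReduced_field_iff]
    haveI := isDomain_field_tensor (L := AlgebraicClosure κ) h
    exact isReduced_of_injective (Algebra.TensorProduct.cancelBaseChange R κ (AlgebraicClosure κ) (AlgebraicClosure κ) D)
      (AlgEquiv.injective _)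
  haveI : Algebra.IsSmoothAt κ (⊥ : Ideal F) := isSmoothAt_bot κ F
  haveI := Open62.isSmoothAt_of_fibre (S := D) p (⊥ : Ideal F)
  obtain ⟨g, hg, hsm⟩ := Algebra.IsSmoothAt.exists_notMem_smooth R
    ((⊥ : Ideal F).comap (Algebra.TensorProduct.includeRight : D →ₐ[R] p.Fiber D).toRingHom)
  refine ⟨_, g, inferInstance, ?_, hg, hsm⟩
  ext a
  show Algebra.TensorProduct.includeRight (algebraMap R D a) ∈ (⊥ : Ideal F) ↔ a ∈ p
  rw [AlgHom.commutes, IsScalarTower.algebraMap_apply R κ F, Ideal.mem_bot,
    map_eq_zero_iff _ (algebraMap κ F).injective, Ideal.algebraMap_residueField_eq_zero]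

/-- A basic open containing a section of an algebra with geometrically irreducible fibres has geometrically
irreducible fibres. -/
theorem geomIrred_away {R D : Type u} [CommRing R] [CommRing D] [Algebra R D] (hirr : FlatCA.GeomIrredFibres R D)
    (σ : D →ₐ[R] R) (h : D) (hσ : IsUnit (σ h)) : FlatCA.GeomIrredFibres R (Localization.Away h) := by
  let Dh := Localization.Away h
  let σh : Dh →+* R := IsLocalization.Away.lift h (g := σ.toRingHom) hσ
  have hsec : σh.comp (algebraMap R Dh) = RingHom.id R := RingHom.ext fun r => by
    rw [RingHom.comp_apply, IsScalarTower.algebraMap_apply R D Dh, IsLocalization.Away.lift_eq]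
    exact σ.commutes r
  let b : Spec (CommRingCat.of Dh) ⟶ Spec (CommRingCat.of R) := Spec.map (CommRingCat.ofHom (algebraMap R Dh))
  let s : Spec (CommRingCat.of R) ⟶ Spec (CommRingCat.of Dh) := Spec.map (CommRingCat.ofHom σh)
  have hs : s ≫ b = 𝟙 _ := by
    rw [← Spec.map_comp, ← CommRingCat.ofHom_comp, hsec, CommRingCat.ofHom_id, Spec.map_id]
  let a : Spec (CommRingCat.of D) ⟶ Spec (CommRingCat.of R) := Spec.map (CommRingCat.ofHom (algebraMap R D))
  let j : Spec (CommRingCat.of Dh) ⟶ Spec (CommRingCat.of D) := Spec.map (CommRingCat.ofHom (algebraMap D Dh))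
  have hj : j ≫ a = b := by
    rw [← Spec.map_comp, ← CommRingCat.ofHom_comp, ← IsScalarTower.algebraMap_eq]
  haveI : IsOpenImmersion j := IsOpenImmersion.of_isLocalization h
  refine ⟨geometrically_iff_of_isClosedUnderIsomorphisms.2 fun K _ y => ?_⟩
  haveI hW : IrreducibleSpace ↥(pullback a y) :=
    pullback_of_geometrically hirr.geometrically_irreducibleSpace K y
  let m : pullback b y ⟶ pullback a y := pullback.map b y a y j (𝟙 _) (𝟙 _) (by simp [hj]) (by simp)
  haveI : IsOpenImmersion m := inferInstance
  let z : Spec (CommRingCat.of K) ⟶ pullback b y := pullback.lift (y ≫ s) (𝟙 _) (by simp [Category.assoc, hs])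
  haveI : Nonempty ↥(pullback b y) := ⟨z (default : PrimeSpectrum K)⟩
  haveI : PreirreducibleSpace ↥(pullback b y) := ⟨by
    have := (PreirreducibleSpace.isPreirreducible_univ (X := ↥(pullback a y))).preimage m.isOpenEmbedding
    simpa using this⟩
  exact ⟨inferInstance⟩

/-- An element invertible along a section acts universally injectively when the fibres are domains. -/
theorem univInj_lsmul_of_section {R D : Type u} [CommRing R] [CommRing D] [Algebra R D]
    [Algebra.FinitePresentation R D] [Module.Flat R D] (h : FlatCA.GeomIntegralFibres R D) (σ : D →ₐ[R] R) (s : D)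
    (hσ : IsUnit (σ s)) : CAlgX.UniversallyInjective R ((LinearMap.lsmul D D s).restrictScalars R) := by
  intro Q _ _
  refine univInj_of_fibres_fp (B := D) (M := D) _ (fun p _ => ?_) Q
  haveI : IsDomain (p.ResidueField ⊗[R] D) := isDomain_field_tensor h
  have hm : ∀ w : p.ResidueField ⊗[R] D, ((LinearMap.lsmul D D s).restrictScalars R).lTensor p.ResidueField w =
      ((1 : p.ResidueField) ⊗ₜ[R] s) * w := fun w => by
    induction w using TensorProduct.induction_on with
    | zero => simp
    | tmul a d => simp [Algebra.TensorProduct.tmul_mul_tmul]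
    | add a b ha hb => simp only [map_add, mul_add, ha, hb]
  have hne : ((1 : p.ResidueField) ⊗ₜ[R] s) ≠ 0 := fun h0 => by
    let Φ : p.ResidueField ⊗[R] D →ₐ[p.ResidueField] p.ResidueField :=
      Algebra.TensorProduct.lift (AlgHom.id _ _) ((Algebra.ofId R p.ResidueField).comp σ) fun _ _ => Commute.all _ _
    have h1 := congrArg Φ h0
    rw [map_zero, Algebra.TensorProduct.lift_tmul, AlgHom.comp_apply, map_one, one_mul] at h1
    exact (hσ.map (algebraMap R p.ResidueField)).ne_zero h1
  intro a b hab
  rw [hm, hm] at hab
  exact mul_left_cancel₀ hne hab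

/-- Finitely many smooth charts meeting every fibre. -/
theorem exists_smooth_cover {R D : Type u} [CommRing R] [CommRing D] [Algebra R D]
    [Algebra.FinitePresentation R D] [Module.Flat R D] (h : FlatCA.GeomIntegralFibres R D) :
    ∃ (k : ℕ) (g : Fin k → D), (∀ i, Algebra.Smooth R (Localization.Away (g i))) ∧
      ∀ p : PrimeSpectrum R, ∃ (i : Fin k) (q : PrimeSpectrum D),
        PrimeSpectrum.comap (algebraMap R D) q = p ∧ g i ∉ q.asIdeal := by
  choose q g hq hqp hg hsm using fun p : PrimeSpectrum R => exists_smooth_point h p.asIdeal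
  obtain ⟨t, ht⟩ := isCompact_univ.elim_finite_subcover
    (fun p : PrimeSpectrum R => PrimeSpectrum.comap (algebraMap R D) '' PrimeSpectrum.basicOpen (g p))
    (fun p => PrimeSpectrum.isOpenMap_comap_of_hasGoingDown_of_finitePresentation _ (PrimeSpectrum.basicOpen (g p)).isOpen)
    (fun p _ => Set.mem_iUnion.2 ⟨p, ⟨q p, hq p⟩, hg p, PrimeSpectrum.ext (hqp p)⟩)
  refine ⟨t.card, fun i => g (t.equivFin.symm i), fun i => hsm _, fun p => ?_⟩
  obtain ⟨p₀, hp₀, x, hx, hxp⟩ := Set.mem_iUnion₂.1 (ht (Set.mem_univ p))
  exact ⟨t.equivFin ⟨p₀, hp₀⟩, x, hxp, by simpa using hx⟩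

set_option maxHeartbeats 1600000 in
set_option synthInstance.maxHeartbeats 100000 in
/-- A flat finitely presented algebra with geometrically integral fibres is projective. -/
theorem projective_of_geomIntegral {R D : Type u} [CommRing R] [CommRing D] [Algebra R D]
    [Algebra.FinitePresentation R D] [Module.Flat R D] (h : FlatCA.GeomIntegralFibres R D) :
    Module.Projective R D := by
  classical
  obtain ⟨k, g, hsm, hcov⟩ := exists_smooth_cover h
  haveI := hsm
  let R' := ∀ i, Localization.Away (g i)
  haveI : Module.Flat R R' := Module.Flat.of_linearEquiv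
    (DFinsupp.linearEquivFunOnFintype (R := R) (M := fun i => Localization.Away (g i))).symm
  haveI : Module.FaithfullyFlat R R' := Module.FaithfullyFlat.of_comap_surjective fun p => by
    obtain ⟨i, q, hqp, hgq⟩ := hcov p
    have hd : Disjoint (Submonoid.powers (g i) : Set D) (q.asIdeal : Set D) :=
      (Ideal.disjoint_powers_iff_notMem_of_isPrime _).2 hgq
    let P : Ideal (Localization.Away (g i)) := q.asIdeal.map (algebraMap D _)
    haveI : P.IsPrime := IsLocalization.isPrime_of_isPrime_disjoint (Submonoid.powers (g i)) _ q.asIdeal q.2 hd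
    refine ⟨PrimeSpectrum.comap (Pi.evalRingHom (fun i => Localization.Away (g i)) i) ⟨P, inferInstance⟩,
      PrimeSpectrum.ext ?_⟩
    show (P.comap (Pi.evalRingHom (fun i => Localization.Away (g i)) i)).comap (algebraMap R R') = p.asIdeal
    rw [Ideal.comap_comap]
    show P.comap (algebraMap R (Localization.Away (g i))) = p.asIdeal
    rw [IsScalarTower.algebraMap_eq R D (Localization.Away (g i)), ← Ideal.comap_comap,
      show P.comap (algebraMap D (Localization.Away (g i))) = q.asIdeal from
        IsLocalization.under_map_of_isPrime_disjoint (Submonoid.powers (g i)) _ q.2 hd, ← hqp]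
    rfl
  let D' := R' ⊗[R] D
  let j : D →ₐ[R] R' := Pi.algHom R _ fun i => IsScalarTower.toAlgHom R D (Localization.Away (g i))
  let σ : D' →ₐ[R'] R' := Algebra.TensorProduct.lift (AlgHom.id R' R') j fun _ _ => Commute.all _ _
  have hσt : ∀ (r : R') (d : D), σ (r ⊗ₜ d) = r * j d := fun r d => Algebra.TensorProduct.lift_tmul ..
  let hh : D' := ∑ i, (Pi.single i 1 : R') ⊗ₜ[R] g i
  have hσh : IsUnit (σ hh) := by
    have he : σ hh = fun i => algebraMap D (Localization.Away (g i)) (g i) := by
      rw [map_sum]
      funext i
      rw [Finset.sum_apply, Finset.sum_eq_single i (fun l _ hl => by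
        rw [hσt, Pi.mul_apply, Pi.single_eq_of_ne (Ne.symm hl), zero_mul]) (fun hi => absurd (Finset.mem_univ i) hi),
        hσt, Pi.mul_apply, Pi.single_eq_same, one_mul]
      rfl
    rw [he, Pi.isUnit_iff]
    exact fun i => IsLocalization.Away.algebraMap_isUnit (g i)
  have hint : FlatCA.GeomIntegralFibres R' D' := geomIntegral_baseChange h
  haveI : Algebra.FinitePresentation R' D' := inferInstance
  haveI : Module.Flat R' D' := inferInstance
  haveI : Algebra.Smooth R' (Localization.Away hh) := by
    refine Algebra.basicOpen_subset_smoothLocus_iff_smooth.1 fun x hx => ?_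
    obtain ⟨i, hi⟩ : ∃ i, (1 : R') ⊗ₜ[R] g i ∉ x.asIdeal := by
      by_contra hcon
      push Not at hcon
      refine hx (Ideal.sum_mem _ fun i _ => ?_)
      rw [show (Pi.single i 1 : R') ⊗ₜ[R] g i = ((Pi.single i 1 : R') ⊗ₜ[R] (1 : D)) * ((1 : R') ⊗ₜ[R] g i) by
        rw [Algebra.TensorProduct.tmul_mul_tmul, mul_one, one_mul]]
      exact Ideal.mul_mem_left _ _ (hcon i)
    haveI : Algebra.Smooth R' (Localization.Away ((1 : R') ⊗ₜ[R] g i)) :=
      Algebra.Smooth.of_equiv (IsLocalization.Away.tensorProductEquivTMulRight R R' (g i) (Localization.Away (g i)))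
    exact Algebra.basicOpen_subset_smoothLocus_iff_smooth.2 this hi
  haveI hirr' : GeometricallyIrreducible (Spec.map (CommRingCat.ofHom (algebraMap R' D'))) :=
    geomIrred_of_geomIntegral hint
  let σh : Localization.Away hh →ₐ[R'] R' :=
    IsLocalization.liftAlgHom (M := Submonoid.powers hh) (S := Localization.Away hh) (f := σ) (fun y => by
      obtain ⟨n, hn⟩ := y.2
      rw [show ((y : D')) = hh ^ n from hn.symm, map_pow]
      exact hσh.pow n)
  have hmlh : CAlg.IsMittagLeffler R' (Localization.Away hh) :=
    ml_of_section (geomIrred_away hirr' σ hh hσh) σh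
  have hu : CAlgX.UniversallyInjective R' ((LinearMap.lsmul D' D' hh).restrictScalars R') :=
    univInj_lsmul_of_section hint σ hh hσh
  have hml' : CAlg.IsMittagLeffler R' D' := by
    let l : D' →ₗ[D'] Localization.Away hh := Algebra.linearMap D' (Localization.Away hh)
    haveI : IsLocalizedModule (Submonoid.powers hh) l := isLocalizedModule_iff_isLocalization.mpr (by
      rw [show Algebra.algebraMapSubmonoid D' (Submonoid.powers hh) = Submonoid.powers hh from Submonoid.map_id _]
      infer_instance)
    refine ML3.ml_of_univInj (l.restrictScalars R') (fun Q _ _ => ?_) hmlh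
    exact (injective_iff_map_eq_zero _).2 fun w hw => eq_zero_of_mk_eq_zero hu l w hw
  exact FlatMor67.projective_of_flat_ml_countable D (FlatMor67.ml_descent D hml')
    (countablyGenerated_of_finite (B := D) D)

end Groth.Agent.RG29
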