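import Groth.Agent.RG29.DevBasic
import Mathlib

/-!
Base change of the modules and maps entering a dévissage step.
-/

set_option autoImplicit false

universe u

open TensorProduct

namespace Groth.Agent.RG29

/-- In a pushout square of algebras, the base change of a module over one corner is its base change
along the other side. -/
theorem isBaseChange_of_pushout {S S₂ C C₂ : Type u} [CommRing S] [CommRing S₂] [CommRing C] [CommRing C₂]
    [Algebra S S₂] [Algebra S C] [Algebra C C₂] [Algebra S₂ C₂] [Algebra S C₂] [IsScalarTower S C C₂]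
    [IsScalarTower S S₂ C₂] [Algebra.IsPushout S S₂ C C₂] (G : Type u) [AddCommGroup G] [Module C G] [Module S G]
    [IsScalarTower S C G] :
    IsBaseChange S₂ (((TensorProduct.mk C C₂ G) 1).restrictScalars S) :=
  IsBaseChange.of_equiv (Algebra.IsPushout.cancelBaseChange S S₂ C C₂ G).symm fun x => by simp

/-- Base changes of isomorphic modules are isomorphic, compatibly. -/
theorem exists_baseChange_iso {S S₂ : Type u} [CommRing S] [CommRing S₂] [Algebra S S₂] {N G N₂ G₂ : Type u}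
    [AddCommGroup N] [Module S N] [AddCommGroup G] [Module S G] [AddCommGroup N₂] [Module S N₂] [Module S₂ N₂]
    [IsScalarTower S S₂ N₂] [AddCommGroup G₂] [Module S G₂] [Module S₂ G₂] [IsScalarTower S S₂ G₂] (e : N ≃ₗ[S] G)
    {i : N →ₗ[S] N₂} (hi : IsBaseChange S₂ i) {j : G →ₗ[S] G₂} (hj : IsBaseChange S₂ j) :
    ∃ e₂ : N₂ ≃ₗ[S₂] G₂, ∀ n, e₂ (i n) = j (e n) := by
  refine ⟨hi.equiv.symm.trans ((TensorProduct.AlgebraTensorModule.congr (LinearEquiv.refl S₂ S₂) e).trans hj.equiv),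
    fun n => ?_⟩
  simp [IsBaseChange.equiv_tmul]

section

variable {D D₂ : Type u} [CommRing D] [CommRing D₂] [Algebra D D₂] {G G₂ : Type u} [AddCommGroup G] [Module D G]
  [AddCommGroup G₂] [Module D G₂] [Module D₂ G₂] [IsScalarTower D D₂ G₂] {j : G →ₗ[D] G₂} {r : ℕ}

theorem exists_map_baseChange (α : (Fin r → D) →ₗ[D] G) (j : G →ₗ[D] G₂) :
    ∃ α₂ : (Fin r → D₂) →ₗ[D₂] G₂, ∀ i, α₂ (Pi.single i 1) = j (α (Pi.single i 1)) :=
  ⟨(Pi.basisFun D₂ (Fin r)).constr D₂ fun i => j (α (Pi.single i 1)), fun i => by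
    rw [← Pi.basisFun_apply, Module.Basis.constr_basis]⟩

theorem range_baseChange_le {α : (Fin r → D) →ₗ[D] G} {α₂ : (Fin r → D₂) →ₗ[D₂] G₂}
    (hα : ∀ i, α₂ (Pi.single i 1) = j (α (Pi.single i 1))) :
    LinearMap.range α ≤ ((LinearMap.range α₂).restrictScalars D).comap j := by
  rintro _ ⟨v, rfl⟩
  show j (α v) ∈ LinearMap.range α₂
  rw [← (Pi.basisFun D (Fin r)).sum_repr v, map_sum, map_sum]
  refine Submodule.sum_mem _ fun i _ => ?_
  rw [map_smul, map_smul, Pi.basisFun_apply, ← hα, ← IsScalarTower.algebraMap_smul D₂]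
  exact Submodule.smul_mem _ _ ⟨_, rfl⟩

/-- Cokernels commute with base change. -/
theorem isBaseChange_coker (hj : IsBaseChange D₂ j) {α : (Fin r → D) →ₗ[D] G} {α₂ : (Fin r → D₂) →ₗ[D₂] G₂}
    (hα : ∀ i, α₂ (Pi.single i 1) = j (α (Pi.single i 1))) :
    IsBaseChange D₂ ((LinearMap.range α).liftQ (((LinearMap.range α₂).mkQ.restrictScalars D).comp j)
      fun _ hx => (Submodule.Quotient.mk_eq_zero _).2 (range_baseChange_le hα hx) :
        G ⧸ LinearMap.range α →ₗ[D] G₂ ⧸ LinearMap.range α₂) := by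
  refine IsBaseChange.of_lift_unique _ fun Q _ _ _ _ g => ?_
  letI : AddCommGroup Q := Module.addCommMonoidToAddCommGroup D₂
  let g' := g.comp (LinearMap.range α).mkQ
  have hker : LinearMap.range α₂ ≤ LinearMap.ker (hj.lift g') := by
    rintro _ ⟨v, rfl⟩
    show hj.lift g' (α₂ v) = 0
    rw [← (Pi.basisFun D₂ (Fin r)).sum_repr v, map_sum, map_sum]
    refine Finset.sum_eq_zero fun i _ => ?_
    rw [map_smul, map_smul, Pi.basisFun_apply, hα, IsBaseChange.lift_eq]
    show _ • g (Submodule.Quotient.mk (α _)) = 0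
    rw [(Submodule.Quotient.mk_eq_zero (LinearMap.range α)).2 (LinearMap.mem_range_self α _), map_zero, smul_zero]
  refine ⟨(LinearMap.range α₂).liftQ (hj.lift g') hker, LinearMap.ext fun x => ?_, fun g₂ hg₂ => ?_⟩
  · obtain ⟨x, rfl⟩ := Submodule.mkQ_surjective _ x
    show hj.lift g' (j x) = g _
    rw [IsBaseChange.lift_eq]
    rfl
  · refine Submodule.linearMap_qext _ (hj.algHom_ext _ _ fun x => ?_)
    show g₂ (Submodule.Quotient.mk (j x)) = hj.lift g' (j x)
    rw [IsBaseChange.lift_eq]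
    exact LinearMap.congr_fun hg₂ (Submodule.Quotient.mk x)

/-- Bijectivity at a field valued point persists under extension of the field. -/
theorem bijective_baseChange_ext (hj : IsBaseChange D₂ j) {α : (Fin r → D) →ₗ[D] G}
    {α₂ : (Fin r → D₂) →ₗ[D₂] G₂} (hα : ∀ i, α₂ (Pi.single i 1) = j (α (Pi.single i 1))) {k k₂ : Type u} [Field k]
    [Field k₂] [Algebra D k] [Algebra D₂ k₂] [Algebra k k₂] [Algebra D k₂] [IsScalarTower D D₂ k₂]
    [IsScalarTower D k k₂] (hb : Function.Bijective (α.baseChange k)) : Function.Bijective (α₂.baseChange k₂) := by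
  let b : Module.Basis (Fin r) k (k ⊗[D] G) :=
    ((Pi.basisFun D (Fin r)).baseChange k).map (LinearEquiv.ofBijective (α.baseChange k) hb)
  have hb' : ∀ i, b i = (1 : k) ⊗ₜ α (Pi.single i 1) := fun i => by
    simp [b, Module.Basis.baseChange_apply]
  have h₁ := (TensorProduct.isBaseChange D G k).comp (TensorProduct.isBaseChange k (k ⊗[D] G) k₂)
  have h₂ := hj.comp (TensorProduct.isBaseChange D₂ G₂ k₂)
  let E := h₁.equiv.symm.trans h₂.equiv
  let b₂ : Module.Basis (Fin r) k₂ (k₂ ⊗[D₂] G₂) := (b.baseChange k₂).map E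
  have hb₂ : ∀ i, b₂ i = (1 : k₂) ⊗ₜ α₂ (Pi.single i 1) := fun i => by
    have he : E ((1 : k₂) ⊗ₜ[k] ((1 : k) ⊗ₜ[D] α (Pi.single i 1))) =
        (1 : k₂) ⊗ₜ[D₂] j (α (Pi.single i 1)) := by
      show h₂.equiv (h₁.equiv.symm _) = _
      rw [show (1 : k₂) ⊗ₜ[k] ((1 : k) ⊗ₜ[D] α (Pi.single i 1)) =
        ((TensorProduct.mk k k₂ (k ⊗[D] G) 1).restrictScalars D ∘ₗ TensorProduct.mk D k G 1) (α (Pi.single i 1))
        from rfl, IsBaseChange.equiv_symm_apply, IsBaseChange.equiv_tmul, one_smul]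
      rfl
    show E ((b.baseChange k₂) i) = _
    rw [Module.Basis.baseChange_apply, hb', he, hα]
  let src := (Pi.basisFun D₂ (Fin r)).baseChange k₂
  have heq : α₂.baseChange k₂ = (src.equiv b₂ (Equiv.refl _)).toLinearMap := by
    refine src.ext fun i => ?_
    rw [LinearEquiv.coe_coe, Module.Basis.equiv_apply, Equiv.refl_apply, hb₂]
    simp [src, Module.Basis.baseChange_apply]
  rw [heq]
  exact LinearEquiv.bijective _

end

theorem mem_support_of_bijective {D : Type u} [CommRing D] {G : Type u} [AddCommGroup G] [Module D G]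
    [Module.Finite D G] (w : Ideal D) [hw : w.IsPrime] {r : ℕ} (hr : 0 < r) {α : (Fin r → D) →ₗ[D] G}
    (hb : Function.Bijective (α.baseChange w.ResidueField)) : (⟨w, hw⟩ : PrimeSpectrum D) ∈ Module.support D G := by
  rw [Module.mem_support_iff_nontrivial_residueField_tensorProduct]
  let b : Module.Basis (Fin r) w.ResidueField (w.ResidueField ⊗[D] G) :=
    ((Pi.basisFun D (Fin r)).baseChange w.ResidueField).map (LinearEquiv.ofBijective (α.baseChange w.ResidueField) hb)
  exact nontrivial_of_ne _ _ (b.ne_zero ⟨0, hr⟩)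

end Groth.Agent.RG29
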