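import Groth.Agent.Cohen12.ConnectedNormal
import Groth.Agent.FlatMor67.SmoothIsRegular
import Groth.Agent.FBase64.Primary
import Groth.Agent.FBase64.TensorField
import Groth.Agent.WC97.Reduced
import Groth.Prelude.Def_FlatCA

/-!
The idempotent cutting out the connected component of a point of a smooth algebra over a field, and
its invariance under field extensions.
-/

set_option autoImplicit false

universe u v w

open TensorProduct

namespace Groth.Agent.RG29

/-- `e` is the smallest idempotent with value one at the point `s`. -/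
def IsCompIdem {G : Type v} [CommRing G] {M : Type w} [CommRing M] (s : G →+* M) (e : G) : Prop :=
  IsIdempotentElem e ∧ s e = 1 ∧ ∀ f : G, IsIdempotentElem f → s f = 1 → f * e = e

theorem IsCompIdem.unique {G : Type v} [CommRing G] {M : Type w} [CommRing M] {s : G →+* M} {e e' : G}
    (h : IsCompIdem s e) (h' : IsCompIdem s e') : e = e' := by
  rw [← h.2.2 e' h'.1 h'.2.1, mul_comm, h'.2.2 e h.1 h.2.1]

theorem IsCompIdem.of_ringEquiv {G : Type v} [CommRing G] {G' : Type v} [CommRing G'] {M : Type w}
    [CommRing M] {s : G →+* M} {e : G} (h : IsCompIdem s e) (E : G ≃+* G') (s' : G' →+* M)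
    (hs : ∀ x, s' (E x) = s x) : IsCompIdem s' (E e) := by
  refine ⟨h.1.map E, by rw [hs]; exact h.2.1, fun f hf hsf => ?_⟩
  obtain ⟨f, rfl⟩ := E.surjective f
  rw [hs] at hsf
  rw [← map_mul, h.2.2 f (by simpa using hf.map E.symm) hsf]

theorem exists_isCompIdem {G : Type v} [CommRing G] [IsNoetherianRing G] {M : Type w} [CommRing M]
    [IsDomain M] (s : G →+* M) : ∃ e, IsCompIdem s e := by
  let S : Set (Ideal G) := {J | ∃ e : G, IsIdempotentElem e ∧ s e = 1 ∧ J = Ideal.span {1 - e}}
  obtain ⟨J, ⟨e, he, hse, rfl⟩, hmax⟩ := (set_has_maximal_iff_noetherian (R := G) (M := G)).2 (isNoetherianRing_iff.1 inferInstance) S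
    ⟨_, 1, IsIdempotentElem.one, map_one s, rfl⟩
  refine ⟨e, he, hse, fun f hf hsf => ?_⟩
  have hfe : IsIdempotentElem (f * e) := hf.mul he
  have hle : Ideal.span {1 - e} ≤ Ideal.span ({1 - f * e} : Set G) := by
    rw [Ideal.span_singleton_le_iff_mem, Ideal.mem_span_singleton']
    exact ⟨1 - e, by linear_combination f * he.eq⟩
  have heq : Ideal.span {1 - e} = Ideal.span ({1 - f * e} : Set G) :=
    (eq_or_lt_of_le hle).resolve_right (hmax _ ⟨f * e, hfe, by rw [map_mul, hsf, hse, one_mul], rfl⟩)
  have hmem : (1 - f * e : G) ∈ Ideal.span ({1 - e} : Set G) := by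
    rw [heq]; exact Ideal.mem_span_singleton_self _
  obtain ⟨c, hc⟩ := Ideal.mem_span_singleton'.1 hmem
  linear_combination c * he.eq + e * hc - f * he.eq

/-- The corner ring of a component idempotent has connected spectrum. -/
theorem IsCompIdem.connectedSpace {G : Type v} [CommRing G] {M : Type w} [CommRing M] [IsDomain M]
    {s : G →+* M} {e : G} (h : IsCompIdem s e) :
    ConnectedSpace (PrimeSpectrum (G ⧸ Ideal.span {1 - e})) := by
  obtain ⟨he, hse, hmin⟩ := h
  refine (Cohen12.connectedSpace_iff_idempotents _).2 ⟨Ideal.Quotient.nontrivial_iff.2 fun htop => ?_, fun a ha => ?_⟩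
  · obtain ⟨c, hc⟩ := Ideal.mem_span_singleton'.1 (htop ▸ Submodule.mem_top : (1 : G) ∈ _)
    have := congrArg s hc
    rw [map_mul, map_sub, map_one, hse, sub_self, mul_zero] at this
    exact zero_ne_one this
  · obtain ⟨g, rfl⟩ := Ideal.Quotient.mk_surjective a
    have hg : (g * g - g) * e = 0 := by
      obtain ⟨c, hc⟩ := Ideal.mem_span_singleton'.1 (Ideal.Quotient.eq.1 (show Ideal.Quotient.mk (Ideal.span {1 - e}) (g * g) = Ideal.Quotient.mk _ g from by rw [map_mul]; exact ha.eq))
      linear_combination (-e) * hc - c * he.eq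
    have hge : IsIdempotentElem (g * e) := by
      show g * e * (g * e) = g * e
      linear_combination hg + g * g * he.eq
    rcases eq_or_ne (s (g * e)) 0 with h0 | h0
    · left
      have hf : IsIdempotentElem (1 - g * e) := hge.one_sub
      have := hmin _ hf (by rw [map_sub, map_one, h0, sub_zero])
      refine Ideal.Quotient.eq_zero_iff_mem.2 (Ideal.mem_span_singleton'.2 ⟨g, ?_⟩)
      linear_combination this + g * he.eq
    · right
      have h1 : s (g * e) = 1 := (IsIdempotentElem.iff_eq_zero_or_one.1 (hge.map s)).resolve_left h0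
      have := hmin _ hge h1
      refine (Ideal.Quotient.eq.2 (Ideal.mem_span_singleton'.2 ⟨g - 1, ?_⟩)).trans (map_one _)
      linear_combination -this + g * he.eq

section Field

variable {k : Type u} [Field k]

/-- A connected smooth algebra with a point in a primary extension is geometrically integral. -/
theorem isDomain_tensor_of_point (C : Type u) [CommRing C] [Algebra k C] [Algebra.Smooth k C]
    (hc : ConnectedSpace (PrimeSpectrum C)) {M : Type u} [Field M] [Algebra k M]
    (hM : separableClosure k M = ⊥) (τ : C →ₐ[k] M) (K : Type u) [Field K] [Algebra k K] :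
    IsDomain (K ⊗[k] C) := by
  haveI : IsNoetherianRing C := Algebra.FiniteType.isNoetherianRing k C
  haveI := FlatMor67.isRegularRing_of_smooth k C
  obtain ⟨hdom, hic⟩ := Cohen12.isDomain_of_normal C (FlatMor67.isNormalRing_of_regular C) hc
  let L := FractionRing C
  have hL : separableClosure k L = ⊥ := by
    refine bot_unique fun a ha => IntermediateField.mem_bot.2 ?_
    have hai : IsIntegral k a := (mem_separableClosure_iff.1 ha).isIntegral
    obtain ⟨c, rfl⟩ := IsIntegrallyClosed.isIntegral_iff.1 (hai.tower_top : IsIntegral C a)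
    have hc : IsSeparable k c := by
      have := mem_separableClosure_iff.1 ha
      unfold IsSeparable at this ⊢
      rwa [← IsScalarTower.toAlgHom_apply k C L, minpoly.algHom_eq _ (IsFractionRing.injective C L)] at this
    have hτc : IsSeparable k (τ c) := by
      refine Polynomial.Separable.of_dvd hc (minpoly.dvd k _ ?_)
      rw [Polynomial.aeval_algHom_apply, minpoly.aeval, map_zero]
    obtain ⟨r, hr⟩ := IntermediateField.mem_bot.1 (hM ▸ mem_separableClosure_iff.2 hτc : τ c ∈ (⊥ : IntermediateField k M))
    refine ⟨r, ?_⟩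
    rw [IsScalarTower.algebraMap_apply k C L]
    congr 1
    -- an integral element of a domain killed by a point is zero
    by_contra hne
    have hd : algebraMap k C r - c ≠ 0 := sub_ne_zero.2 hne
    have hi : IsIntegral k c := hc.isIntegral
    have hint : IsIntegral k (algebraMap k C r - c) := isIntegral_algebraMap.sub hi
    have hunit : IsUnit (algebraMap k C r - c) := by
      have : IsUnit (⟨algebraMap k C r - c, Algebra.self_mem_adjoin_singleton k _⟩ :
          Algebra.adjoin k {algebraMap k C r - c}) := by
        haveI : Algebra.IsIntegral k (Algebra.adjoin k {algebraMap k C r - c}) :=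
          Algebra.IsIntegral.adjoin fun x hx => by rw [Set.mem_singleton_iff.1 hx]; exact hint
        obtain ⟨b, hb⟩ := (isField_of_isIntegral_of_isField' (Field.toIsField k)).mul_inv_cancel
          (a := (⟨algebraMap k C r - c, Algebra.self_mem_adjoin_singleton k _⟩ :
            Algebra.adjoin k {algebraMap k C r - c})) (fun h => hd (congrArg Subtype.val h))
        exact IsUnit.of_mul_eq_one b hb
      exact this.map (Algebra.adjoin k {algebraMap k C r - c}).val
    refine (hunit.map τ).ne_zero ?_
    rw [map_sub, AlgHom.commutes, hr, sub_self]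
  have hprime := FBase64.isPrime_nilradical_tensor hL K
  have hinj : Function.Injective (Algebra.TensorProduct.map (AlgHom.id k K) (IsScalarTower.toAlgHom k C L)).toRingHom :=
    Module.Flat.lTensor_preserves_injective_linearMap (M := K) (IsScalarTower.toAlgHom k C L).toLinearMap
      (IsFractionRing.injective C L)
  have h2 := FBase64.isPrime_nilradical_of_injective _ hinj hprime
  haveI : IsReduced (K ⊗[k] C) := WC97.isReduced_of_algebraSmooth K _
  rw [nilradical_eq_zero, Ideal.zero_eq_bot] at h2
  exact IsDomain.of_bot_isPrime _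

/-- In a smooth algebra over a field, the component idempotent of a point in a primary extension
cuts out a geometrically integral piece. -/
theorem IsCompIdem.isDomain_tensor {G : Type u} [CommRing G] [Algebra k G] [Algebra.Smooth k G]
    {M : Type u} [Field M] [Algebra k M] (hM : separableClosure k M = ⊥) (s : G →ₐ[k] M) {e : G}
    (h : IsCompIdem s.toRingHom e) (K : Type u) [Field K] [Algebra k K] :
    IsDomain (K ⊗[k] (G ⧸ Ideal.span {1 - e})) := by
  let C := G ⧸ Ideal.span {1 - e}
  haveI : IsLocalization.Away e C := IsLocalization.away_of_isIdempotentElem h.1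
    (by rw [Ideal.Quotient.algebraMap_eq, Ideal.mk_ker]) Ideal.Quotient.mk_surjective
  haveI : Algebra.Etale G C := Algebra.Etale.of_isLocalizationAway e
  haveI : Algebra.Smooth k C := Algebra.Smooth.comp k G C
  exact isDomain_tensor_of_point C h.connectedSpace hM (Ideal.Quotient.liftₐ _ s fun a ha => by
    obtain ⟨c, rfl⟩ := Ideal.mem_span_singleton'.1 ha
    rw [map_mul, map_sub, map_one, show s e = 1 from h.2.1, sub_self, mul_zero]) K

/-- An idempotent whose corner is a domain and which has value one at a point is the component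
idempotent of that point. -/
theorem isCompIdem_of_isDomain {G : Type v} [CommRing G] {M : Type w} [CommRing M] [IsDomain M]
    (s : G →+* M) {e : G} (he : IsIdempotentElem e) (hse : s e = 1) {C : Type*} [CommRing C] [IsDomain C]
    (π : G →+* C) (hker : ∀ x, π x = 0 → e * x = 0) (hπe : π e = 1) : IsCompIdem s e := by
  refine ⟨he, hse, fun f hf hsf => ?_⟩
  rcases IsIdempotentElem.iff_eq_zero_or_one.1 (hf.map π) with h | h
  · have := congrArg s (hker f h)
    rw [map_mul, hse, hsf, one_mul, map_zero] at this
    exact absurd this one_ne_zero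
  · have := hker (f - 1) (by rw [map_sub, h, map_one, sub_self])
    linear_combination this

/-- Component idempotents of rational points are stable under field extension. -/
theorem IsCompIdem.map_extension {G : Type u} [CommRing G] [Algebra k G] [Algebra.Smooth k G]
    (s : G →ₐ[k] k) {e : G} (h : IsCompIdem s.toRingHom e) (K : Type u) [Field K] [Algebra k K]
    (s' : K ⊗[k] G →+* K) (hs : ∀ g, s' ((1 : K) ⊗ₜ g) = algebraMap k K (s g)) :
    IsCompIdem s' ((1 : K) ⊗ₜ[k] e) := by
  have hM : separableClosure k k = ⊥ := bot_unique fun x _ => IntermediateField.mem_bot.2 ⟨x, rfl⟩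
  haveI := IsCompIdem.isDomain_tensor hM s h K
  let π := Algebra.TensorProduct.map (AlgHom.id k K) (Ideal.Quotient.mkₐ k (Ideal.span {1 - e}))
  refine isCompIdem_of_isDomain s' ?_ (by rw [hs, show s e = 1 from h.2.1, map_one]) π.toRingHom
    (fun x hx => ?_) ?_
  · exact h.1.map (Algebra.TensorProduct.includeRight (R := k) (A := K) (B := G))
  · have hk := Algebra.TensorProduct.lTensor_ker (R := k) (A := K) (Ideal.Quotient.mkₐ k (Ideal.span {1 - e}))
      Ideal.Quotient.mk_surjective
    have hx' : x ∈ RingHom.ker π := hx
    rw [hk, show RingHom.ker (Ideal.Quotient.mkₐ k (Ideal.span {1 - e})) = Ideal.span {1 - e} from Ideal.mk_ker, Ideal.map_span, Set.image_singleton, Ideal.mem_span_singleton'] at hx'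
    obtain ⟨c, rfl⟩ := hx'
    show (1 : K) ⊗ₜ[k] e * (c * (1 : K) ⊗ₜ[k] (1 - e)) = 0
    rw [mul_left_comm, Algebra.TensorProduct.tmul_mul_tmul, h.1.mul_one_sub_self, tmul_zero, mul_zero]
  · show π _ = 1
    rw [Algebra.TensorProduct.map_tmul, map_one, show Ideal.Quotient.mkₐ k (Ideal.span {1 - e}) e = 1 from
      (Ideal.Quotient.eq.2 (Ideal.mem_span_singleton'.2 ⟨-1, by ring⟩)).trans (map_one _)]
    rfl

/-- A purely transcendental extension is primary. -/
theorem separableClosure_eq_bot_of_adjoin {M : Type u} [Field M] [Algebra k M] {ι : Type u} {x : ι → M}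
    (hx : AlgebraicIndependent k x) (htop : IntermediateField.adjoin k (Set.range x) = ⊤) :
    separableClosure k M = ⊥ := by
  let E : FractionRing (MvPolynomial ι k) ≃ₐ[k] M :=
    hx.aevalEquivField.trans ((IntermediateField.equivOfEq htop).trans IntermediateField.topEquiv)
  refine bot_unique fun a ha => IntermediateField.mem_bot.2 ?_
  have hai : IsIntegral k (E.symm a) := (mem_separableClosure_iff.1 ha).isIntegral.map E.symm.toAlgHom
  obtain ⟨c, hc⟩ := IsIntegrallyClosed.isIntegral_iff.1 (hai.tower_top : IsIntegral (MvPolynomial ι k) (E.symm a))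
  by_cases hc0 : c = 0
  · exact ⟨0, by rw [map_zero]; exact ((map_eq_zero_iff E.symm E.symm.injective).1 (by rw [← hc, hc0, map_zero])).symm⟩
  have hci : IsIntegral k c := (isIntegral_algHom_iff (IsScalarTower.toAlgHom k (MvPolynomial ι k)
    (FractionRing (MvPolynomial ι k))) (IsFractionRing.injective _ _)).1 (by rwa [← hc] at hai)
  have hunit : IsUnit c := by
    haveI : Algebra.IsIntegral k (Algebra.adjoin k {c}) :=
      Algebra.IsIntegral.adjoin fun y hy => by rw [Set.mem_singleton_iff.1 hy]; exact hci
    obtain ⟨b, hb⟩ := (isField_of_isIntegral_of_isField' (Field.toIsField k)).mul_inv_cancel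
      (a := (⟨c, Algebra.self_mem_adjoin_singleton k c⟩ : Algebra.adjoin k {c}))
      (fun h => hc0 (congrArg Subtype.val h))
    exact IsUnit.of_mul_eq_one (b : MvPolynomial ι k) (congrArg Subtype.val hb)
  refine ⟨MvPolynomial.coeff 0 c, E.symm.injective ?_⟩
  rw [AlgEquiv.commutes, ← hc, IsScalarTower.algebraMap_apply k (MvPolynomial ι k) (FractionRing (MvPolynomial ι k))]
  congr 1
  rw [MvPolynomial.algebraMap_eq, ← MvPolynomial.totalDegree_eq_zero_iff_eq_C.1
    (MvPolynomial.isUnit_iff_totalDegree_of_isReduced.1 hunit).2]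

end Field

end Groth.Agent.RG29

namespace Groth.Agent.RG29

/-- The corner of a component idempotent in a smooth algebra over a field is a domain. -/
theorem IsCompIdem.isDomain_corner {k G : Type u} [Field k] [CommRing G] [Algebra k G] [Algebra.Smooth k G]
    {M : Type w} [CommRing M] [IsDomain M] {s : G →+* M} {e : G} (h : IsCompIdem s e) :
    IsDomain (G ⧸ Ideal.span {1 - e}) := by
  let C := G ⧸ Ideal.span {1 - e}
  haveI : IsLocalization.Away e C := IsLocalization.away_of_isIdempotentElem h.1
    (by rw [Ideal.Quotient.algebraMap_eq, Ideal.mk_ker]) Ideal.Quotient.mk_surjective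
  haveI : Algebra.Etale G C := Algebra.Etale.of_isLocalizationAway e
  haveI : Algebra.Smooth k C := Algebra.Smooth.comp k G C
  haveI : IsNoetherianRing C := Algebra.FiniteType.isNoetherianRing k C
  haveI := FlatMor67.isRegularRing_of_smooth k C
  exact (Cohen12.isDomain_of_normal C (FlatMor67.isNormalRing_of_regular C) h.connectedSpace).1

end Groth.Agent.RG29
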