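import Groth.Agent.RG29.DevBasic
import Groth.Agent.CAlgH2.LocalDimField
import Groth.Agent.Var76.SmoothFibre
import Groth.Agent.RG29.CompIdem
import Mathlib

/-!
The fibres of smooth algebras with geometrically irreducible fibres.
-/

set_option autoImplicit false

universe u

open TensorProduct CategoryTheory AlgebraicGeometry

namespace Groth.Agent.RG29

variable {R D : Type u} [CommRing R] [CommRing D] [Algebra R D]

theorem smooth_of_smoothRelDim {n : ℕ} (h : FlatCA.SmoothRelDim n R D) : Algebra.Smooth R D := by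
  have : Smooth (Spec.map (CommRingCat.ofHom (algebraMap R D))) := SmoothOfRelativeDimension.smooth n _
  rw [HasRingHomProperty.Spec_iff (P := @Smooth)] at this
  exact RingHom.smooth_algebraMap.1 this

theorem geomIrred_of_geomIntegral (h : FlatCA.GeomIntegralFibres R D) : FlatCA.GeomIrredFibres R D := by
  haveI := h
  infer_instance

variable (p : Ideal R) [p.IsPrime]

theorem isPullback_fiber :
    IsPullback (Spec.map (CommRingCat.ofHom (algebraMap p.ResidueField (p.Fiber D))))
      (Spec.map (CommRingCat.ofHom (Algebra.TensorProduct.includeRight (R := R) (A := p.ResidueField) (B := D)).toRingHom))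
      (Spec.map (CommRingCat.ofHom (algebraMap R p.ResidueField))) (Spec.map (CommRingCat.ofHom (algebraMap R D))) :=
  isPullback_SpecMap_of_isPushout _ _ _ _ (CommRingCat.isPushout_tensorProduct R p.ResidueField D)

theorem irreducibleSpace_fiber (hirr : FlatCA.GeomIrredFibres R D) : IrreducibleSpace (PrimeSpectrum (p.Fiber D)) :=
  @GeometricallyIrreducible.geometrically_irreducibleSpace _ _ _ hirr _ _ (Spec.map (CommRingCat.ofHom (algebraMap R p.ResidueField))) _ _ _
    (isPullback_fiber p).flip

theorem isDomain_fiber [Algebra.Smooth R D] (hirr : FlatCA.GeomIrredFibres R D) : IsDomain (p.Fiber D) := by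
  haveI : IsReduced (p.ResidueField ⊗[R] D) := WC97.isReduced_of_algebraSmooth p.ResidueField _
  haveI := irreducibleSpace_fiber p hirr
  haveI : IsReduced (p.Fiber D) := ‹IsReduced (p.ResidueField ⊗[R] D)›
  have hrad : (⊥ : Ideal (p.Fiber D)).IsRadical := fun x hx => by
    obtain ⟨k, hk⟩ := hx
    rw [Ideal.mem_bot] at hk ⊢
    exact IsReduced.eq_zero _ ⟨k, hk⟩
  have hprime : (⊥ : Ideal (p.Fiber D)).IsPrime :=
    (PrimeSpectrum.isIrreducible_zeroLocus_iff_of_radical _ hrad).1 (by
      rw [PrimeSpectrum.zeroLocus_bot]; exact IrreducibleSpace.isIrreducible_univ _)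
  exact IsDomain.of_bot_isPrime _

/-- The extension of `p` to a smooth algebra with geometrically irreducible fibres is prime, the generic
point of the fibre. -/
theorem isPrime_map [Algebra.Smooth R D] (hirr : FlatCA.GeomIrredFibres R D) :
    (p.map (algebraMap R D)).IsPrime := by
  haveI := isDomain_fiber p hirr
  let ι := (Algebra.TensorProduct.includeRight (R := R) (A := p.ResidueField) (B := D))
  have hle : p.map (algebraMap R D) ≤ RingHom.ker ι.toRingHom := Ideal.map_le_iff_le_comap.2 fun r hr => by
    show ι (algebraMap R D r) = 0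
    rw [AlgHom.commutes, IsScalarTower.algebraMap_apply R p.ResidueField (p.Fiber D),
      Ideal.algebraMap_residueField_eq_zero.2 hr, map_zero]
  suffices hker : p.map (algebraMap R D) = RingHom.ker ι.toRingHom by
    rw [hker]; exact RingHom.ker_isPrime _
  refine le_antisymm hle fun d hd => ?_
  have hd' : (1 : p.ResidueField) ⊗ₜ[R] d = 0 := hd
  have hinj : Function.Injective (LinearMap.rTensor D (Algebra.linearMap (R ⧸ p) p.ResidueField |>.restrictScalars R)) :=
    Module.Flat.rTensor_preserves_injective_linearMap _ (IsFractionRing.injective (R ⧸ p) p.ResidueField)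
  have h1 : (Ideal.Quotient.mk p 1) ⊗ₜ[R] d = (0 : (R ⧸ p) ⊗[R] D) := hinj (by
    rw [LinearMap.rTensor_tmul, map_zero]
    show algebraMap (R ⧸ p) p.ResidueField 1 ⊗ₜ[R] d = 0
    rwa [map_one])
  have h2 := congrArg (TensorProduct.quotTensorEquivQuotSMul D p) h1
  rw [map_zero, TensorProduct.quotTensorEquivQuotSMul_mk_tmul, one_smul, Submodule.Quotient.mk_eq_zero,
    Ideal.smul_top_eq_map] at h2
  exact h2

theorem liesOver_map [Algebra.Smooth R D] (hirr : FlatCA.GeomIrredFibres R D) :
    haveI := isPrime_map p hirr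
    (p.map (algebraMap R D)).LiesOver p := by
  haveI := isDomain_fiber p hirr
  refine ⟨le_antisymm Ideal.le_comap_map fun r hr => ?_⟩
  have hle : p.map (algebraMap R D) ≤
      RingHom.ker (Algebra.TensorProduct.includeRight (R := R) (A := p.ResidueField) (B := D)).toRingHom :=
    Ideal.map_le_iff_le_comap.2 fun r hr => by
      show (Algebra.TensorProduct.includeRight : D →ₐ[R] p.Fiber D) (algebraMap R D r) = 0
      rw [AlgHom.commutes, IsScalarTower.algebraMap_apply R p.ResidueField (p.Fiber D),
        Ideal.algebraMap_residueField_eq_zero.2 hr, map_zero]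
  have h0 : (Algebra.TensorProduct.includeRight : D →ₐ[R] p.Fiber D) (algebraMap R D r) = 0 := hle hr
  rw [AlgHom.commutes, IsScalarTower.algebraMap_apply R p.ResidueField (p.Fiber D),
    map_eq_zero_iff _ (algebraMap p.ResidueField (p.Fiber D)).injective] at h0
  exact Ideal.algebraMap_residueField_eq_zero.1 h0

variable {n : ℕ}

theorem topologicalKrullDim_fiber (h : FlatCA.SmoothRelDim n R D) (hirr : FlatCA.GeomIrredFibres R D) :
    topologicalKrullDim (PrimeSpectrum (p.Fiber D)) = (n : WithBot ℕ∞) := by
  haveI := irreducibleSpace_fiber p hirr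
  let g := Spec.map (CommRingCat.ofHom (algebraMap p.ResidueField (p.Fiber D)))
  have hg : SmoothOfRelativeDimension n g :=
    (smoothOfRelativeDimension_isStableUnderBaseChange n).of_isPullback (isPullback_fiber p).flip h
  haveI : IrreducibleSpace (Spec (CommRingCat.of (p.Fiber D))) := ‹IrreducibleSpace (PrimeSpectrum (p.Fiber D))›
  have hu : (Set.univ : Set (Spec (CommRingCat.of (p.Fiber D)))) ∈ irreducibleComponents _ :=
    ⟨IrreducibleSpace.isIrreducible_univ _, fun _ _ _ => Set.subset_univ _⟩
  have hdim := @Var76.SmoothFibre.dim_component _ _ _ g n hg _ hu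
  rw [IsHomeomorph.topologicalKrullDim_eq _ (Homeomorph.Set.univ _).isHomeomorph] at hdim
  exact hdim

theorem dimAt_fiber (h : FlatCA.SmoothRelDim n R D) (hirr : FlatCA.GeomIrredFibres R D) (x : Ideal (p.Fiber D))
    [x.IsPrime] : CAlgH2.dimAt p.ResidueField x = n := by
  haveI := smooth_of_smoothRelDim h
  haveI := isDomain_fiber p hirr
  have hmin : ∀ P ∈ minimalPrimes (p.Fiber D), P = ⊥ := fun P hP => by
    rw [IsDomain.minimalPrimes_eq_singleton_bot] at hP
    exact hP
  obtain ⟨P, hP, -, he⟩ := CAlgH2.exists_dimAt_eq p.ResidueField x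
  rw [he, hmin P hP, CAlgH2.trdegQuot,
    show Algebra.trdeg p.ResidueField (p.Fiber D ⧸ (⊥ : Ideal (p.Fiber D))) = Algebra.trdeg p.ResidueField (p.Fiber D)
      from (AlgEquiv.quotientBot p.ResidueField (p.Fiber D)).trdeg_eq]
  have hd := topologicalKrullDim_fiber p h hirr
  rw [PrimeSpectrum.topologicalKrullDim_eq_ringKrullDim, E4O.ringKrullDim_eq_trdeg p.ResidueField] at hd
  exact_mod_cast hd

theorem localDim_fiber (h : FlatCA.SmoothRelDim n R D) (hirr : FlatCA.GeomIrredFibres R D)
    (x : PrimeSpectrum (p.Fiber D)) : FlatMor.localDim (PrimeSpectrum (p.Fiber D)) x = (n : WithBot ℕ∞) := by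
  haveI := smooth_of_smoothRelDim h
  rw [CAlgH2.localDim_eq_dimAt p.ResidueField x.asIdeal, dimAt_fiber p h hirr x.asIdeal]
  rfl

end Groth.Agent.RG29
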