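import Groth.Agent.RG29.DevShrink
import Groth.Agent.RG29.DevBC
import Groth.Agent.RG29.DevFibre
import Mathlib

/-!
Complete dévissages along a fibre are stable under étale base change.
-/

set_option autoImplicit false

universe u

open TensorProduct CategoryTheory AlgebraicGeometry

namespace Groth.Agent.RG29

theorem geomIrred_baseChange {R R' D : Type u} [CommRing R] [CommRing R'] [CommRing D] [Algebra R R'] [Algebra R D]
    (h : FlatCA.GeomIrredFibres R D) : FlatCA.GeomIrredFibres R' (R' ⊗[R] D) := by
  have hpb : IsPullback (Spec.map (CommRingCat.ofHom (algebraMap R' (R' ⊗[R] D))))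
      (Spec.map (CommRingCat.ofHom (Algebra.TensorProduct.includeRight (R := R) (A := R') (B := D)).toRingHom))
      (Spec.map (CommRingCat.ofHom (algebraMap R R'))) (Spec.map (CommRingCat.ofHom (algebraMap R D))) :=
    isPullback_SpecMap_of_isPushout _ _ _ _ (CommRingCat.isPushout_tensorProduct R R' D)
  exact MorphismProperty.of_isPullback (P := @GeometricallyIrreducible) hpb.flip h

section

variable {R S : Type u} [CommRing R] [CommRing S] [Algebra R S] (N : Type u) [AddCommGroup N] [Module S N]
  (p : Ideal R) [p.IsPrime]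

/-- A complete dévissage over a prime of the base with one step. -/
theorem nonempty_completeDevissage_last {C D G : Type u} [CommRing C] [CommRing D] [Algebra S C] [Algebra R C]
    [IsScalarTower R S C] [Algebra R D] [Algebra D C] [IsScalarTower R D C] [AddCommGroup G] [Module C G] [Module S G]
    [IsScalarTower S C G] [Module D G] [IsScalarTower D C G] [Module R G] [IsScalarTower R D G]
    [hP : (p.map (algebraMap R D)).IsPrime] (isoN : N ≃ₗ[S] G) (hsurj : Function.Surjective (algebraMap S C))
    (hfp : Algebra.FinitePresentation S C) (hfin : Module.Finite D C) (hfinG : Module.Finite C G)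
    (hsm : Algebra.Smooth R D) (hirr : FlatCA.GeomIrredFibres R D) {r : ℕ} (α : (Fin r → D) →ₗ[D] G)
    (hα : Function.Bijective (α.baseChange (p.map (algebraMap R D)).ResidueField))
    (hlast : Function.Surjective α) : Nonempty (FlatCA.CompleteDevissage R S N p) :=
  ⟨{ n := 1
     pos := one_pos
     A := fun _ => C
     B := fun _ => D
     M := fun _ => G
     r := fun _ => r
     α := fun _ => α
     surjSA := hsurj
     fpSA := hfp
     surjBA' := fun i hi => absurd hi (by omega)
     fpBA' := fun i hi => absurd hi (by omega)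
     finiteBA := fun _ _ => hfin
     smooth := fun _ _ => hsm
     geomIrred := fun _ _ => hirr
     finiteM := fun _ _ => hfinG
     isoN := isoN
     isoCoker := fun i hi => absurd hi (by omega)
     fibreIso := fun _ _ => hα
     cokerLast := hlast }⟩

/-- Prepending a step to a complete dévissage over a prime of the base. -/
theorem nonempty_completeDevissage_cons {C D G : Type u} [CommRing C] [CommRing D] [Algebra S C] [Algebra R C]
    [IsScalarTower R S C] [Algebra R D] [Algebra D C] [IsScalarTower R D C] [AddCommGroup G] [Module C G] [Module S G]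
    [IsScalarTower S C G] [Module D G] [IsScalarTower D C G] [Module R G] [IsScalarTower R D G]
    [hP : (p.map (algebraMap R D)).IsPrime] (isoN : N ≃ₗ[S] G) (hsurj : Function.Surjective (algebraMap S C))
    (hfp : Algebra.FinitePresentation S C) (hfin : Module.Finite D C) (hfinG : Module.Finite C G)
    (hsm : Algebra.Smooth R D) (hirr : FlatCA.GeomIrredFibres R D) {r : ℕ} (α : (Fin r → D) →ₗ[D] G)
    (hα : Function.Bijective (α.baseChange (p.map (algebraMap R D)).ResidueField))
    {M : Type u} [AddCommGroup M] [Module D M] (e : (G ⧸ LinearMap.range α) ≃ₗ[D] M)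
    (htail : Nonempty (FlatCA.CompleteDevissage R D M p)) : Nonempty (FlatCA.CompleteDevissage R S N p) := by
  obtain ⟨T₀⟩ := htail
  let A : ℕ → Type u := fun | 0 => C | i + 1 => T₀.A i
  let B : ℕ → Type u := fun | 0 => D | i + 1 => T₀.B i
  let M' : ℕ → Type u := fun | 0 => G | i + 1 => T₀.M i
  let rk : ℕ → ℕ := fun | 0 => r | i + 1 => T₀.r i
  letI cA : ∀ i, CommRing (A i) := fun | 0 => inferInstanceAs (CommRing C) | i + 1 => T₀.cA i
  letI cB : ∀ i, CommRing (B i) := fun | 0 => inferInstanceAs (CommRing D) | i + 1 => T₀.cB i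
  letI aRA : ∀ i, Algebra R (A i) := fun | 0 => inferInstanceAs (Algebra R C) | i + 1 => T₀.aRA i
  letI aRB : ∀ i, Algebra R (B i) := fun | 0 => inferInstanceAs (Algebra R D) | i + 1 => T₀.aRB i
  letI aBA : ∀ i, Algebra (B i) (A i) := fun | 0 => inferInstanceAs (Algebra D C) | i + 1 => T₀.aBA i
  haveI tRBA : ∀ i, IsScalarTower R (B i) (A i) :=
    fun | 0 => inferInstanceAs (IsScalarTower R D C) | i + 1 => T₀.tRBA i
  letI aSA : Algebra S (A 0) := inferInstanceAs (Algebra S C)
  haveI tRSA : IsScalarTower R S (A 0) := inferInstanceAs (IsScalarTower R S C)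
  letI aBA' : ∀ i, Algebra (B i) (A (i + 1)) := fun | 0 => T₀.aSA | i + 1 => T₀.aBA' i
  haveI tRBA' : ∀ i, IsScalarTower R (B i) (A (i + 1)) := fun | 0 => T₀.tRSA | i + 1 => T₀.tRBA' i
  letI gM : ∀ i, AddCommGroup (M' i) := fun | 0 => inferInstanceAs (AddCommGroup G) | i + 1 => T₀.gM i
  letI mAM : ∀ i, Module (A i) (M' i) := fun | 0 => inferInstanceAs (Module C G) | i + 1 => T₀.mAM i
  letI mBM : ∀ i, Module (B i) (M' i) := fun | 0 => inferInstanceAs (Module D G) | i + 1 => T₀.mBM i
  haveI tBAM : ∀ i, IsScalarTower (B i) (A i) (M' i) :=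
    fun | 0 => inferInstanceAs (IsScalarTower D C G) | i + 1 => T₀.tBAM i
  letI mRM : ∀ i, Module R (M' i) := fun | 0 => inferInstanceAs (Module R G) | i + 1 => T₀.mRM i
  haveI tRBM : ∀ i, IsScalarTower R (B i) (M' i) :=
    fun | 0 => inferInstanceAs (IsScalarTower R D G) | i + 1 => T₀.tRBM i
  letI mSM : Module S (M' 0) := inferInstanceAs (Module S G)
  haveI tSAM : IsScalarTower S (A 0) (M' 0) := inferInstanceAs (IsScalarTower S C G)
  letI mB'M : ∀ i, Module (B i) (M' (i + 1)) := fun | 0 => T₀.mSM | i + 1 => T₀.mB'M i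
  haveI tB'AM : ∀ i, IsScalarTower (B i) (A (i + 1)) (M' (i + 1)) := fun | 0 => T₀.tSAM | i + 1 => T₀.tB'AM i
  haveI hpB : ∀ i, (p.map (algebraMap R (B i))).IsPrime := fun | 0 => hP | i + 1 => T₀.hp i
  exact ⟨{ n := T₀.n + 1
           pos := Nat.succ_pos _
           A := A
           B := B
           M := M'
           r := rk
           α := fun | 0 => α | i + 1 => T₀.α i
           surjSA := hsurj
           fpSA := hfp
           surjBA' := fun | 0, _ => T₀.surjSA | i + 1, hi => T₀.surjBA' i (by omega)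
           fpBA' := fun | 0, _ => T₀.fpSA | i + 1, hi => T₀.fpBA' i (by omega)
           finiteBA := fun | 0, _ => hfin | i + 1, hi => T₀.finiteBA i (by omega)
           smooth := fun | 0, _ => hsm | i + 1, hi => T₀.smooth i (by omega)
           geomIrred := fun | 0, _ => hirr | i + 1, hi => T₀.geomIrred i (by omega)
           finiteM := fun | 0, _ => hfinG | i + 1, hi => T₀.finiteM i (by omega)
           isoN := isoN
           isoCoker := fun | 0, _ => e.trans T₀.isoN | i + 1, hi => T₀.isoCoker i (by omega)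
           fibreIso := fun | 0, _ => hα | i + 1, hi => T₀.fibreIso i (by omega)
           cokerLast := by
             obtain ⟨m, hm⟩ := Nat.exists_eq_succ_of_ne_zero T₀.pos.ne'
             have h := T₀.cokerLast
             rw [hm] at h ⊢
             exact h }⟩

/-- A zero module has a complete dévissage over every prime of the base. -/
theorem nonempty_completeDevissage_of_subsingleton [Subsingleton N] : Nonempty (FlatCA.CompleteDevissage R S N p) := by
  haveI : (p.map (algebraMap R R)).IsPrime := by
    simpa using ‹p.IsPrime›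
  have hirr : FlatCA.GeomIrredFibres R R := by
    haveI : IsIso (Spec.map (CommRingCat.ofHom (algebraMap R R))) := by
      rw [show CommRingCat.ofHom (algebraMap R R) = 𝟙 (CommRingCat.of R) from rfl, Spec.map_id]
      infer_instance
    refine ⟨fun K _ y Z fst snd h => ?_⟩
    haveI : IsIso snd := (MorphismProperty.isomorphisms Scheme).of_isPullback h (by assumption)
    haveI : IrreducibleSpace (Spec (CommRingCat.of K)) := inferInstanceAs (IrreducibleSpace (PrimeSpectrum K))
    exact (Scheme.homeoOfIso (asIso snd)).irreducibleSpace_iff.2 inferInstance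
  refine nonempty_completeDevissage_last N p (C := S ⧸ (⊤ : Ideal S)) (D := R) (G := PUnit.{u + 1})
    { toFun := fun _ => PUnit.unit, invFun := fun _ => 0, map_add' := fun _ _ => rfl, map_smul' := fun _ _ => rfl,
      left_inv := fun _ => Subsingleton.elim _ _, right_inv := fun _ => rfl }
    Ideal.Quotient.mk_surjective (Algebra.FinitePresentation.quotient ⟨{1}, by simp⟩) ?_ inferInstance inferInstance
    hirr (r := 0) 0 ?_ fun _ => ⟨0, rfl⟩
  · haveI : Subsingleton (S ⧸ (⊤ : Ideal S)) := Ideal.Quotient.subsingleton_iff.2 rfl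
    exact ⟨⟨∅, Subsingleton.elim _ _⟩⟩
  · exact ⟨fun _ _ _ => Subsingleton.elim _ _, fun v => ⟨0, Subsingleton.elim _ _⟩⟩

variable {N p}

/-- Complete dévissages transfer along isomorphisms of modules. -/
theorem nonempty_completeDevissage_of_linearEquiv {N' : Type u} [AddCommGroup N'] [Module S N'] (e : N' ≃ₗ[S] N)
    (h : Nonempty (FlatCA.CompleteDevissage R S N p)) : Nonempty (FlatCA.CompleteDevissage R S N' p) := by
  obtain ⟨T⟩ := h
  exact ⟨{ T with isoN := e.trans T.isoN }⟩

end

/-- Bijectivity at a point persists at points over it. -/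
theorem bijective_at_extension {D D₂ : Type u} [CommRing D] [CommRing D₂] [Algebra D D₂] {G G₂ : Type u}
    [AddCommGroup G] [Module D G] [AddCommGroup G₂] [Module D G₂] [Module D₂ G₂] [IsScalarTower D D₂ G₂]
    (w : Ideal D) [w.IsPrime] (w₂ : Ideal D₂) [w₂.IsPrime] [hwo : w₂.LiesOver w]
    {j : G →ₗ[D] G₂} (hj : IsBaseChange D₂ j) {r : ℕ} {α : (Fin r → D) →ₗ[D] G} {α₂ : (Fin r → D₂) →ₗ[D₂] G₂}
    (hα : ∀ i, α₂ (Pi.single i 1) = j (α (Pi.single i 1))) (hb : Function.Bijective (α.baseChange w.ResidueField)) :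
    Function.Bijective (α₂.baseChange w₂.ResidueField) := by
  letI : Algebra w.ResidueField w₂.ResidueField :=
    (Ideal.ResidueField.mapₐ _ _ (Algebra.ofId D D₂) hwo.over).toRingHom.toAlgebra
  haveI : IsScalarTower D w.ResidueField w₂.ResidueField :=
    IsScalarTower.of_algHom (Ideal.ResidueField.mapₐ _ _ (Algebra.ofId D D₂) hwo.over)
  exact bijective_baseChange_ext hj hα hb

set_option maxHeartbeats 800000 in
/-- The module part of the base change of one step. -/
theorem step_baseChange_module {R R'' : Type u} [CommRing R] [CommRing R''] [Algebra R R''] [Algebra.Etale R R'']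
    (p : Ideal R) [p.IsPrime] (p'' : Ideal R'') [p''.IsPrime] [p''.LiesOver p]
    {S S'' : Type u} [CommRing S] [CommRing S''] [Algebra S S''] [Algebra R'' S'']
    {N N'' : Type u} [AddCommGroup N] [Module S N] [AddCommGroup N''] [Module S'' N''] [Module S N'']
    [IsScalarTower S S'' N''] {i : N →ₗ[S] N''} (hi : IsBaseChange S'' i)
    {C D G C₁ D₁ : Type u} [CommRing C] [CommRing D] [CommRing C₁] [CommRing D₁] [Algebra S C] [Algebra R D]
    [Algebra D C] [AddCommGroup G] [Module C G] [Module S G] [IsScalarTower S C G] [Module D G]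
    [IsScalarTower D C G] [hP : (p.map (algebraMap R D)).IsPrime] [Module.Finite D C] [Module.Finite C G]
    [Algebra.Smooth R D] (hirr : FlatCA.GeomIrredFibres R D) [Algebra D D₁] [Algebra R'' D₁] [Algebra R D₁]
    [IsScalarTower R R'' D₁] [IsScalarTower R D D₁] [Algebra.Etale D D₁] [Algebra C C₁] [Algebra D₁ C₁]
    [Algebra D C₁] [IsScalarTower D C C₁] [IsScalarTower D D₁ C₁] [Algebra.IsPushout D D₁ C C₁]
    [Algebra S'' C₁] [Algebra S C₁] [IsScalarTower S C C₁] [IsScalarTower S S'' C₁] [Algebra.IsPushout S S'' C C₁]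
    [Algebra R'' C₁] [IsScalarTower R'' D₁ C₁] [IsScalarTower R'' S'' C₁]
    [hsm₁ : Algebra.Smooth R'' D₁] (hirr₁ : FlatCA.GeomIrredFibres R'' D₁)
    (hsurj : Function.Surjective (algebraMap S'' C₁)) (hfp : Algebra.FinitePresentation S'' C₁)
    (isoN : N ≃ₗ[S] G) {r : ℕ} (α : (Fin r → D) →ₗ[D] G)
    (hα : Function.Bijective (α.baseChange (p.map (algebraMap R D)).ResidueField))
    (htail : Function.Surjective α ∨ ∀ (M₂ : Type u) [AddCommGroup M₂]
      [Module D₁ M₂] [Module D M₂] [IsScalarTower D D₁ M₂] (j : (G ⧸ LinearMap.range α) →ₗ[D] M₂),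
      IsBaseChange D₁ j → Nonempty (FlatCA.CompleteDevissage R'' D₁ M₂ p'')) :
    Nonempty (FlatCA.CompleteDevissage R'' S'' N'' p'') := by
  haveI : Module.Finite D₁ C₁ := Module.Finite.equiv (Algebra.IsPushout.equiv D D₁ C C₁).toLinearEquiv
  haveI : (p''.map (algebraMap R'' D₁)).IsPrime := isPrime_map p'' hirr₁
  haveI := liesOver_map p'' hirr₁
  haveI := liesOver_map p hirr
  haveI hwo : (p''.map (algebraMap R'' D₁)).LiesOver (p.map (algebraMap R D)) := comap_map_eq p p''
  -- the module
  haveI : SMulCommClass C D₁ C₁ := ⟨fun c d v => by rw [Algebra.smul_def c, Algebra.smul_def c, mul_smul_comm]⟩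
  haveI : SMulCommClass C S'' C₁ := ⟨fun c d v => by rw [Algebra.smul_def c, Algebra.smul_def c, mul_smul_comm]⟩
  haveI : SMulCommClass C R'' C₁ := ⟨fun c d v => by rw [Algebra.smul_def c, Algebra.smul_def c, mul_smul_comm]⟩
  haveI : SMulCommClass C D C₁ := ⟨fun c d v => by rw [Algebra.smul_def c, Algebra.smul_def c, mul_smul_comm]⟩
  haveI : SMulCommClass C S C₁ := ⟨fun c d v => by rw [Algebra.smul_def c, Algebra.smul_def c, mul_smul_comm]⟩
  let G₁ := C₁ ⊗[C] G
  let jD : G →ₗ[D] G₁ := ((TensorProduct.mk C C₁ G) 1).restrictScalars D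
  have hjD : IsBaseChange D₁ jD := isBaseChange_of_pushout (S := D) (S₂ := D₁) (C := C) (C₂ := C₁) G
  let jS : G →ₗ[S] G₁ := ((TensorProduct.mk C C₁ G) 1).restrictScalars S
  have hjS : IsBaseChange S'' jS := isBaseChange_of_pushout (S := S) (S₂ := S'') (C := C) (C₂ := C₁) G
  have hjN : IsBaseChange S'' ((jS.restrictScalars S).comp isoN.toLinearMap) :=
    (IsBaseChange.ofEquiv isoN).comp hjS
  let e₁ : N'' ≃ₗ[S''] G₁ := hi.equiv.symm.trans hjN.equiv
  obtain ⟨α₁, hα₁⟩ := exists_map_baseChange (D₂ := D₁) (G₂ := G₁) α jD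
  have hbij : Function.Bijective (α₁.baseChange (p''.map (algebraMap R'' D₁)).ResidueField) := by
    exact bijective_at_extension (p.map (algebraMap R D)) (p''.map (algebraMap R'' D₁)) hjD hα₁ hα
  haveI : Module.Finite C₁ G₁ := Module.Finite.base_change C C₁ G
  rcases htail with hlast | hT
  · refine nonempty_completeDevissage_last N'' p'' (C := C₁) (D := D₁) (G := G₁) e₁ hsurj hfp inferInstance
      inferInstance hsm₁ hirr₁ α₁ hbij ?_
    rw [← LinearMap.range_eq_top, eq_top_iff]
    intro v _
    refine hjD.inductionOn v _ (zero_mem _) (fun m => ?_) (fun s m hm => Submodule.smul_mem _ _ hm)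
      fun u v hu hv => add_mem hu hv
    exact range_baseChange_le hα₁ (LinearMap.mem_range.2 (hlast m))
  · exact nonempty_completeDevissage_cons N'' p'' (C := C₁) (D := D₁) (G := G₁) e₁ hsurj hfp inferInstance
      inferInstance hsm₁ hirr₁ α₁ hbij (LinearEquiv.refl D₁ (G₁ ⧸ LinearMap.range α₁))
      (hT _ _ (isBaseChange_coker hjD hα₁))


set_option maxHeartbeats 400000 in
/-- The étale base change of one step. -/
theorem step_baseChange {R R'' : Type u} [CommRing R] [CommRing R''] [Algebra R R''] [Algebra.Etale R R'']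
    (p : Ideal R) [p.IsPrime] (p'' : Ideal R'') [p''.IsPrime] [p''.LiesOver p]
    {S : Type u} [CommRing S] [Algebra R S] {N : Type u} [AddCommGroup N] [Module S N]
    {C D G : Type u} [CommRing C] [CommRing D] [Algebra S C] [Algebra R C] [IsScalarTower R S C] [Algebra R D]
    [Algebra D C] [IsScalarTower R D C] [AddCommGroup G] [Module C G] [Module S G] [IsScalarTower S C G] [Module D G]
    [IsScalarTower D C G] [hP : (p.map (algebraMap R D)).IsPrime] (isoN : N ≃ₗ[S] G)
    (hsurjC : Function.Surjective (algebraMap S C)) [Algebra.FinitePresentation S C] [Module.Finite D C]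
    [Module.Finite C G] [Algebra.Smooth R D] (hirr : FlatCA.GeomIrredFibres R D) {r : ℕ} (α : (Fin r → D) →ₗ[D] G)
    (hα : Function.Bijective (α.baseChange (p.map (algebraMap R D)).ResidueField))
    (htail : Function.Surjective α ∨ ∀ (D₁ : Type u) [CommRing D₁] [Algebra D D₁] [Algebra R'' D₁] [Algebra R D₁]
      [IsScalarTower R R'' D₁] [IsScalarTower R D D₁] [Algebra.IsPushout R D R'' D₁] (M₂ : Type u) [AddCommGroup M₂]
      [Module D₁ M₂] [Module D M₂] [IsScalarTower D D₁ M₂] (j : (G ⧸ LinearMap.range α) →ₗ[D] M₂),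
      IsBaseChange D₁ j → Nonempty (FlatCA.CompleteDevissage R'' D₁ M₂ p''))
    (S'' : Type u) [CommRing S''] [Algebra S S''] [Algebra R'' S''] [Algebra R S''] [IsScalarTower R R'' S'']
    [IsScalarTower R S S''] [Algebra.IsPushout R S R'' S''] (N'' : Type u) [AddCommGroup N''] [Module S'' N'']
    [Module S N''] [IsScalarTower S S'' N''] (i : N →ₗ[S] N'') (hi : IsBaseChange S'' i) :
    Nonempty (FlatCA.CompleteDevissage R'' S'' N'' p'') := by
  haveI : Algebra.IsPushout R R'' S S'' := Algebra.IsPushout.symm inferInstance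
  -- base changes
  let D₁ := R'' ⊗[R] D
  letI aDD₁ : Algebra D D₁ := Algebra.TensorProduct.rightAlgebra
  haveI : IsScalarTower R D D₁ := IsScalarTower.of_algebraMap_eq (R := R) (S := D) (A := D₁) fun r =>
    ((Algebra.TensorProduct.includeRight : D →ₐ[R] D₁).commutes r).symm
  haveI : Algebra.IsPushout R D R'' D₁ := TensorProduct.isPushout'
  let C₁ := D₁ ⊗[D] C
  letI aCC₁ : Algebra C C₁ := Algebra.TensorProduct.rightAlgebra
  haveI : IsScalarTower D C C₁ := IsScalarTower.of_algebraMap_eq (R := D) (S := C) (A := C₁) fun d =>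
    ((Algebra.TensorProduct.includeRight : C →ₐ[D] C₁).commutes d).symm
  haveI pDC : Algebra.IsPushout D C D₁ C₁ := TensorProduct.isPushout'
  haveI : IsScalarTower R D C₁ := IsScalarTower.of_algebraMap_eq (R := R) (S := D) (A := C₁) fun r => by
    exact ((IsScalarTower.algebraMap_apply R D₁ C₁ r).trans
      (congrArg (algebraMap D₁ C₁) (IsScalarTower.algebraMap_apply R D D₁ r))).trans
      (IsScalarTower.algebraMap_apply D D₁ C₁ (algebraMap R D r)).symm
  haveI : IsScalarTower R C C₁ := IsScalarTower.of_algebraMap_eq (R := R) (S := C) (A := C₁) fun r => by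
    rw [IsScalarTower.algebraMap_apply R D C, ← IsScalarTower.algebraMap_apply D C C₁,
      ← IsScalarTower.algebraMap_apply R D C₁]
  haveI : IsScalarTower R R'' C₁ := IsScalarTower.of_algebraMap_eq (R := R) (S := R'') (A := C₁) fun r => by
    rw [IsScalarTower.algebraMap_apply R'' D₁ C₁, ← IsScalarTower.algebraMap_apply R R'' D₁,
      ← IsScalarTower.algebraMap_apply R D₁ C₁]
  haveI pRC : Algebra.IsPushout R C R'' C₁ := (Algebra.IsPushout.comp_iff R D R'' D₁ (T := C) (T' := C₁)).2 pDC
  letI aSC₁ : Algebra S C₁ := ((algebraMap C C₁).comp (algebraMap S C)).toAlgebra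
  haveI : IsScalarTower S C C₁ := IsScalarTower.of_algebraMap_eq (R := S) (S := C) (A := C₁) fun _ => rfl
  haveI : IsScalarTower R S C₁ := IsScalarTower.of_algebraMap_eq (R := R) (S := S) (A := C₁) fun r => by
    rw [IsScalarTower.algebraMap_apply R C C₁, IsScalarTower.algebraMap_apply R S C,
      ← IsScalarTower.algebraMap_apply S C C₁]
  let ψ₁ : S'' →ₐ[S] C₁ := (Algebra.TensorProduct.lift (Algebra.ofId S C₁) (IsScalarTower.toAlgHom R R'' C₁)
    fun _ _ => .all _ _).comp (Algebra.IsPushout.equiv R S R'' S'').symm.toAlgHom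
  letI aS''C₁ : Algebra S'' C₁ := ψ₁.toRingHom.toAlgebra
  haveI : IsScalarTower S S'' C₁ := IsScalarTower.of_algHom ψ₁
  have hψR : ∀ r, algebraMap S'' C₁ (algebraMap R'' S'' r) = algebraMap R'' C₁ r := fun r => by
    show (Algebra.TensorProduct.lift (Algebra.ofId S C₁) (IsScalarTower.toAlgHom R R'' C₁)
      fun _ _ => .all _ _) ((Algebra.IsPushout.equiv R S R'' S'').symm (algebraMap R'' S'' r)) = _
    rw [Algebra.IsPushout.equiv_symm_algebraMap_right, Algebra.TensorProduct.lift_tmul, map_one, one_mul]
    rfl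
  haveI : IsScalarTower R'' S'' C₁ := IsScalarTower.of_algebraMap_eq (R := R'') (S := S'') (A := C₁) fun r => (hψR r).symm
  haveI : IsScalarTower R S'' C₁ := IsScalarTower.of_algebraMap_eq (R := R) (S := S'') (A := C₁) fun r => by
    rw [IsScalarTower.algebraMap_apply R S S'', ← IsScalarTower.algebraMap_apply S S'' C₁,
      ← IsScalarTower.algebraMap_apply R S C₁]
  haveI pSC : Algebra.IsPushout S C S'' C₁ :=
    (Algebra.IsPushout.comp_iff R S R'' S'' (T := C) (T' := C₁)).1 pRC
  haveI : Algebra.IsPushout S S'' C C₁ := Algebra.IsPushout.symm pSC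
  haveI : Algebra.IsPushout D D₁ C C₁ := Algebra.IsPushout.symm pDC
  have hsurj : Function.Surjective (algebraMap S'' C₁) := fun c => by
    obtain ⟨u, rfl⟩ := (Algebra.IsPushout.equiv S C S'' C₁).surjective c
    induction u using TensorProduct.induction_on with
    | zero => exact ⟨0, by simp⟩
    | tmul c s =>
      obtain ⟨s', rfl⟩ := hsurjC c
      refine ⟨algebraMap S S'' s' * s, ?_⟩
      rw [Algebra.IsPushout.equiv_tmul, map_mul, ← IsScalarTower.algebraMap_apply, ← IsScalarTower.algebraMap_apply]
    | add u v hu hv =>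
      obtain ⟨a, ha⟩ := hu
      obtain ⟨b, hb⟩ := hv
      exact ⟨a + b, by rw [map_add, map_add, ha, hb]⟩
  have hfp : Algebra.FinitePresentation S'' C₁ :=
    Algebra.FinitePresentation.equiv (Algebra.IsPushout.equiv S S'' C C₁)
  haveI : Algebra.Smooth R'' D₁ := inferInstance
  haveI : Algebra.Etale D D₁ := RingHom.etale_algebraMap.1 (etale_includeRight R R'' D)
  exact step_baseChange_module p p'' hi (C := C) (D := D) (C₁ := C₁) (D₁ := D₁) hirr (geomIrred_baseChange hirr)
    hsurj hfp isoN α hα (htail.imp_right fun hT M₂ _ _ _ _ j hj => hT D₁ M₂ j hj)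

theorem completeDevissage_baseChange_aux {R R'' : Type u} [CommRing R] [CommRing R''] [Algebra R R'']
    [Algebra.Etale R R''] (p : Ideal R) [p.IsPrime] (p'' : Ideal R'') [p''.IsPrime] [p''.LiesOver p] :
    ∀ (k : ℕ) {S : Type u} [CommRing S] [Algebra R S] {N : Type u} [AddCommGroup N] [Module S N]
      (T : FlatCA.CompleteDevissage R S N p), T.n = k + 1 → ∀ (S'' : Type u) [CommRing S''] [Algebra S S'']
      [Algebra R'' S''] [Algebra R S''] [IsScalarTower R R'' S''] [IsScalarTower R S S'']
      [Algebra.IsPushout R S R'' S''] (N'' : Type u) [AddCommGroup N''] [Module S'' N''] [Module S N'']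
      [IsScalarTower S S'' N''] (i : N →ₗ[S] N''), IsBaseChange S'' i →
      Nonempty (FlatCA.CompleteDevissage R'' S'' N'' p'') := by
  intro k
  induction k with
  | zero =>
    intro S _ _ N _ _ T hn S'' _ _ _ _ _ _ _ N'' _ _ _ _ i hi
    haveI := T.finiteBA 0 (by omega)
    haveI := T.finiteM 0 (by omega)
    haveI := T.smooth 0 (by omega)
    haveI := T.fpSA
    refine step_baseChange p p'' (D := T.B 0) T.isoN T.surjSA (T.geomIrred 0 (by omega)) (T.α 0)
      (T.fibreIso 0 (by omega)) (Or.inl ?_) S'' N'' i hi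
    have h := T.cokerLast
    rw [show T.n - 1 = 0 by omega] at h
    exact h
  | succ k IH =>
    intro S _ _ N _ _ T hn S'' _ _ _ _ _ _ _ N'' _ _ _ _ i hi
    haveI := T.finiteBA 0 (by omega)
    haveI := T.finiteM 0 (by omega)
    haveI := T.smooth 0 (by omega)
    haveI := T.fpSA
    let D := T.B 0
    let G := T.M 0
    let T' : FlatCA.CompleteDevissage R D (G ⧸ LinearMap.range (T.α 0)) p :=
      { n := T.n - 1
        pos := by omega
        A := fun i => T.A (i + 1)
        B := fun i => T.B (i + 1)
        M := fun i => T.M (i + 1)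
        r := fun i => T.r (i + 1)
        aSA := T.aBA' 0
        tRSA := T.tRBA' 0
        aBA' := fun i => T.aBA' (i + 1)
        tRBA' := fun i => T.tRBA' (i + 1)
        mSM := T.mB'M 0
        tSAM := T.tB'AM 0
        mB'M := fun i => T.mB'M (i + 1)
        tB'AM := fun i => T.tB'AM (i + 1)
        hp := fun i => T.hp (i + 1)
        α := fun i => T.α (i + 1)
        surjSA := T.surjBA' 0 (by omega)
        fpSA := T.fpBA' 0 (by omega)
        surjBA' := fun i hi => T.surjBA' (i + 1) (by omega)
        fpBA' := fun i hi => T.fpBA' (i + 1) (by omega)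
        finiteBA := fun i hi => T.finiteBA (i + 1) (by omega)
        smooth := fun i hi => T.smooth (i + 1) (by omega)
        geomIrred := fun i hi => T.geomIrred (i + 1) (by omega)
        finiteM := fun i hi => T.finiteM (i + 1) (by omega)
        isoN := T.isoCoker 0 (by omega)
        isoCoker := fun i hi => T.isoCoker (i + 1) (by omega)
        fibreIso := fun i hi => T.fibreIso (i + 1) (by omega)
        cokerLast := by
          have h := T.cokerLast
          rw [show T.n - 1 = T.n - 1 - 1 + 1 by omega] at h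
          exact h }
    exact step_baseChange p p'' (D := T.B 0) T.isoN T.surjSA (T.geomIrred 0 (by omega)) (T.α 0)
      (T.fibreIso 0 (by omega)) (Or.inr fun D₁ _ _ _ _ _ _ _ M₂ _ _ _ _ j hj =>
        IH T' (show T.n - 1 = k + 1 by omega) D₁ M₂ j hj) S'' N'' i hi

/-- The étale base change of a complete dévissage. -/
theorem completeDevissage_baseChange {R R'' S S'' : Type u} [CommRing R] [CommRing R''] [CommRing S] [CommRing S'']
    [Algebra R R''] [Algebra.Etale R R''] [Algebra R S] [Algebra S S''] [Algebra R'' S''] [Algebra R S'']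
    [IsScalarTower R R'' S''] [IsScalarTower R S S''] [Algebra.IsPushout R S R'' S''] {p : Ideal R} [p.IsPrime]
    (p'' : Ideal R'') [p''.IsPrime] [p''.LiesOver p] {N N'' : Type u} [AddCommGroup N] [Module S N] [AddCommGroup N'']
    [Module S'' N''] [Module S N''] [IsScalarTower S S'' N''] {i : N →ₗ[S] N''} (hi : IsBaseChange S'' i)
    (h : Nonempty (FlatCA.CompleteDevissage R S N p)) : Nonempty (FlatCA.CompleteDevissage R'' S'' N'' p'') := by
  obtain ⟨T⟩ := h
  obtain ⟨k, hk⟩ := Nat.exists_eq_succ_of_ne_zero T.pos.ne'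
  exact completeDevissage_baseChange_aux p p'' k T hk S'' N'' i hi

end Groth.Agent.RG29
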