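import Groth.Agent.RG29.DevExist
import Groth.Agent.RG29.DevBaseChange
import Mathlib

/-!
Étale covers of a fibre carrying complete dévissages.
-/

set_option autoImplicit false

universe u

open TensorProduct

namespace Groth.Agent.RG29

/-- A chart with a complete dévissage over an étale neighbourhood of the base. -/
structure DevChart (A B : Type u) [CommRing A] [CommRing B] [Algebra A B] (N : Type u) [AddCommGroup N] [Module B N]
    (p : Ideal A) [p.IsPrime] : Type (u + 1) where
  /-- the base -/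
  R : Type u
  /-- the chart -/
  S : Type u
  [cR : CommRing R] [cS : CommRing S] [aAR : Algebra A R] [aBS : Algebra B S] [aRS : Algebra R S] [aAS : Algebra A S]
  [tARS : IsScalarTower A R S] [tABS : IsScalarTower A B S]
  /-- the point of the base -/
  pR : Ideal R
  [hpR : pR.IsPrime]
  nhd : FlatCA.IsEtaleNhd A R p pR
  etale : Algebra.Etale B S
  dev : Nonempty (FlatCA.CompleteDevissage R S (S ⊗[B] N) pR)

attribute [instance] DevChart.cR DevChart.cS DevChart.aAR DevChart.aBS DevChart.aRS DevChart.aAS DevChart.tARS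
  DevChart.tABS DevChart.hpR

variable {A B : Type u} [CommRing A] [CommRing B] [Algebra A B] {N : Type u} [AddCommGroup N] [Module B N]
  {p : Ideal A} [p.IsPrime]

/-- The primes of `B` seen by a chart over the chosen point. -/
def DevChart.Sees (T : DevChart A B N p) (q : PrimeSpectrum B) : Prop :=
  ∃ s : PrimeSpectrum T.S, s.asIdeal.comap (algebraMap T.R T.S) = T.pR ∧ PrimeSpectrum.comap (algebraMap B T.S) s = q

theorem exists_devChart_sees [Algebra.FiniteType A B] [Module.Finite B N] (q : Ideal B) [hq : q.IsPrime]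
    [q.LiesOver p] : ∃ T : DevChart A B N p, T.Sees ⟨q, hq⟩ := by
  by_cases h : (⟨q, hq⟩ : PrimeSpectrum B) ∈ Module.support B N
  · obtain ⟨x, hxq, hxc⟩ := exists_fiber_point p q
    have hx : x ∈ Module.support (p.Fiber B) (FlatCA.fiberMod p B N) := by
      refine (mem_support_fiberMod_iff p N x).2 ?_
      convert h using 2
      exact hxc
    obtain ⟨R', S', _, _, _, _, _, _, _, _, p', q', _, _, hnR, hnS, hqp, hdev⟩ :=
      exists_hasCompleteDevissageAt N p q ⟨x, hx, hxq⟩
    obtain ⟨het, hoq, -⟩ := hnS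
    obtain ⟨T, -⟩ := hdev (S' ⊗[B] N) _ (TensorProduct.isBaseChange B N S')
    exact ⟨{ R := R', S := S', pR := p', nhd := hnR, etale := het, dev := ⟨T⟩ },
      ⟨q', inferInstance⟩, (hqp.over).symm, PrimeSpectrum.ext hoq.over.symm⟩
  · obtain ⟨a, ha, hkill⟩ := exists_smul_eq_zero_of_notMem_support N ⟨q, hq⟩ h
    let S := Localization.Away a
    haveI : Subsingleton (S ⊗[B] N) := ⟨fun u v => by
      suffices h0 : ∀ z : S ⊗[B] N, z = 0 from (h0 u).trans (h0 v).symm
      intro z
      have hu : IsUnit (algebraMap B S a) := IsLocalization.Away.algebraMap_isUnit a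
      have h0 : algebraMap B S a • z = 0 := by
        induction z using TensorProduct.induction_on with
        | zero => exact smul_zero _
        | tmul s n => rw [algebraMap_smul, ← TensorProduct.tmul_smul, hkill, TensorProduct.tmul_zero]
        | add u v hu hv => rw [smul_add, hu, hv, add_zero]
      exact hu.smul_eq_zero.1 h0⟩
    have hdisj : Disjoint (Submonoid.powers a : Set B) (q : Set B) :=
      (Ideal.disjoint_powers_iff_notMem_of_isPrime _).2 ha
    refine ⟨{ R := A, S := S, pR := p, nhd := isEtaleNhd_refl p, etale := Algebra.Etale.of_isLocalizationAway a,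
              dev := nonempty_completeDevissage_of_subsingleton _ p },
      ⟨q.map (algebraMap B S), IsLocalization.isPrime_of_isPrime_disjoint (Submonoid.powers a) S q hq hdisj⟩, ?_, ?_⟩
    · show (q.map (algebraMap B S)).comap (algebraMap A S) = p
      rw [IsScalarTower.algebraMap_eq A B S, ← Ideal.comap_comap,
        show (q.map (algebraMap B S)).comap (algebraMap B S) = q from
          IsLocalization.under_map_of_isPrime_disjoint (Submonoid.powers a) S hq hdisj]
      exact (Ideal.over_def q p).symm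
    · exact PrimeSpectrum.ext (IsLocalization.under_map_of_isPrime_disjoint (Submonoid.powers a) S hq hdisj)

/-- The primes over the given one seen by a chart are cut out by an open set. -/
theorem DevChart.exists_open (T : DevChart A B N p) :
    ∃ V : Set (PrimeSpectrum B), IsOpen V ∧ ∀ q : PrimeSpectrum B, q.asIdeal.comap (algebraMap A B) = p →
      (q ∈ V ↔ T.Sees q) := by
  classical
  obtain ⟨het, hover, -⟩ := T.nhd
  haveI := het
  haveI := hover
  haveI := T.etale
  have hfin : (p.primesOver T.R).Finite := Algebra.QuasiFinite.finite_primesOver p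
  have hc : ∀ P ∈ hfin.toFinset.erase T.pR, ∃ c : T.R, c ∈ P ∧ c ∉ T.pR := fun P hP => by
    obtain ⟨hne, hmem⟩ := Finset.mem_erase.1 hP
    rw [Set.Finite.mem_toFinset] at hmem
    obtain ⟨hPp, hPo⟩ := hmem
    haveI := hPp; haveI := hPo
    by_contra hcon
    push Not at hcon
    exact hne (Algebra.QuasiFinite.eq_of_le_of_under_eq (R := A) _ _ hcon
      ((Ideal.over_def P p).symm.trans (Ideal.over_def T.pR p)))
  choose c hc₁ hc₂ using hc
  let cc : T.R := ∏ P ∈ (hfin.toFinset.erase T.pR).attach, c P.1 P.2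
  have hcc : cc ∉ T.pR := fun h => by
    obtain ⟨P, -, hP⟩ := (Ideal.IsPrime.prod_mem_iff).1 h
    exact hc₂ _ _ hP
  refine ⟨PrimeSpectrum.comap (algebraMap B T.S) '' (PrimeSpectrum.basicOpen (algebraMap T.R T.S cc) : Set _),
    PrimeSpectrum.isOpenMap_comap_of_hasGoingDown_of_finitePresentation _ (PrimeSpectrum.basicOpen _).isOpen,
    fun q hq => ⟨?_, ?_⟩⟩
  · rintro ⟨s, hs, rfl⟩
    refine ⟨s, ?_, rfl⟩
    by_contra hne
    haveI : (s.asIdeal.comap (algebraMap T.R T.S)).LiesOver p := ⟨by
      refine hq.symm.trans ?_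
      rw [Ideal.under_def, PrimeSpectrum.comap_asIdeal, Ideal.comap_comap, Ideal.comap_comap,
        ← IsScalarTower.algebraMap_eq, ← IsScalarTower.algebraMap_eq]⟩
    have hmem : s.asIdeal.comap (algebraMap T.R T.S) ∈ hfin.toFinset.erase T.pR :=
      Finset.mem_erase.2 ⟨hne, hfin.mem_toFinset.2 ⟨inferInstance, inferInstance⟩⟩
    exact hs (show cc ∈ s.asIdeal.comap (algebraMap T.R T.S) from
      Ideal.mem_of_dvd _ (Finset.dvd_prod_of_mem _ (Finset.mem_attach _ ⟨_, hmem⟩)) (hc₁ _ hmem))
  · rintro ⟨s, hs, rfl⟩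
    refine ⟨s, fun h => hcc ?_, rfl⟩
    rw [← hs]
    exact h

/-- Finitely many étale neighbourhoods of a point are dominated by one. -/
theorem exists_common_nhd {ι : Type*} (T : ι → DevChart A B N p) (t : Finset ι) :
    ∃ (A' : Type u) (_ : CommRing A') (_ : Algebra A A') (p' : Ideal A') (_ : p'.IsPrime),
      FlatCA.IsEtaleNhd A A' p p' ∧ ∀ i ∈ t, ∃ φ : (T i).R →ₐ[A] A', p'.comap φ.toRingHom = (T i).pR := by
  classical
  induction t using Finset.induction_on with
  | empty => exact ⟨A, inferInstance, inferInstance, p, inferInstance, isEtaleNhd_refl p, by simp⟩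
  | @insert a t ha ih =>
    obtain ⟨A', _, _, p', _, hn', hall⟩ := ih
    have hn'' := hn'
    obtain ⟨het', ho', hb'⟩ := hn''
    obtain ⟨het, ho, hb⟩ := (T a).nhd
    haveI := het'; haveI := ho'; haveI := het; haveI := ho
    let U := (T a).R ⊗[A] A'
    letI : Algebra A' U := Algebra.TensorProduct.rightAlgebra
    haveI : IsScalarTower A A' U := IsScalarTower.of_algebraMap_eq fun r =>
      ((Algebra.TensorProduct.includeRight : A' →ₐ[A] U).commutes r).symm
    haveI : Algebra.IsPushout A (T a).R A' U := TensorProduct.isPushout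
    obtain ⟨u, _, hu', hua⟩ := pushout_exists_prime (S := (T a).R) (S' := U) (p' := p') hb' (T a).pR
    haveI := hua; haveI := hu'
    haveI : Algebra.Etale (T a).R U := Algebra.Etale.baseChange _ _ _
    refine ⟨U, inferInstance, inferInstance, u, inferInstance,
      isEtaleNhd_trans (T a).nhd ⟨inferInstance, hua,
        pushout_bijective_mapₐ (S := (T a).R) (S' := U) (p' := p') hb' (T a).pR u⟩, ?_⟩
    intro i hi
    rcases Finset.mem_insert.1 hi with rfl | hi
    · exact ⟨IsScalarTower.toAlgHom A (T i).R U, hua.over.symm⟩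
    · obtain ⟨φ, hφ⟩ := hall i hi
      refine ⟨(IsScalarTower.toAlgHom A A' U).comp φ, ?_⟩
      rw [← hφ]
      show u.comap ((algebraMap A' U).comp φ.toRingHom) = _
      rw [← Ideal.comap_comap, show u.comap (algebraMap A' U) = p' from hu'.over.symm]

set_option maxHeartbeats 800000 in
/-- A chart over a dominating neighbourhood. -/
theorem DevChart.exists_baseChange (T : DevChart A B N p) {A' : Type u} [CommRing A'] [Algebra A A'] {p' : Ideal A'}
    [p'.IsPrime] (hn : FlatCA.IsEtaleNhd A A' p p') (φ : T.R →ₐ[A] A') (hφ : p'.comap φ.toRingHom = T.pR)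
    {BA NA : Type u} [CommRing BA] [Algebra B BA] [Algebra A' BA] [Algebra A BA] [IsScalarTower A B BA]
    [IsScalarTower A A' BA] [Algebra.IsPushout A B A' BA] [AddCommGroup NA] [Module BA NA] [Module B NA]
    [IsScalarTower B BA NA] {fA : N →ₗ[B] NA} (hfA : IsBaseChange BA fA) :
    ∃ (C : Type u) (_ : CommRing C) (_ : Algebra BA C) (_ : Algebra A' C) (_ : IsScalarTower A' BA C)
      (Nc : Type u) (_ : AddCommGroup Nc) (_ : Module C Nc) (_ : Module BA Nc) (_ : IsScalarTower BA C Nc)
      (g : NA →ₗ[BA] Nc),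
      (Algebra.Etale BA C ∧ IsBaseChange C g ∧ Nonempty (FlatCA.CompleteDevissage A' C Nc p')) ∧
      ∀ (Q : Ideal BA) [Q.IsPrime], Q.LiesOver p' → T.Sees (PrimeSpectrum.comap (algebraMap B BA) ⟨Q, ‹_›⟩) →
        ∃ Q' : Ideal C, Q'.IsPrime ∧ Q'.comap (algebraMap BA C) = Q := by
  obtain ⟨het', ho', hb'⟩ := hn
  obtain ⟨het, ho, hb⟩ := T.nhd
  haveI := het'; haveI := ho'; haveI := het; haveI := ho; haveI := T.etale
  letI aRA' : Algebra T.R A' := φ.toRingHom.toAlgebra
  haveI : IsScalarTower A T.R A' := IsScalarTower.of_algHom φ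
  haveI hRo : p'.LiesOver T.pR := ⟨hφ.symm⟩
  haveI : Algebra.Etale T.R A' := Algebra.Etale.of_restrictScalars (R := A) (A := T.R) (B := A')
  have hbR : Function.Bijective (Ideal.ResidueField.mapₐ T.pR p' (Algebra.ofId T.R A') hRo.over) := by
    refine ⟨RingHom.injective (Ideal.ResidueField.mapₐ T.pR p' (Algebra.ofId T.R A') hRo.over).toRingHom, fun b => ?_⟩
    obtain ⟨a, ha⟩ := hb'.2 b
    exact ⟨_, (mapₐ_trans p T.pR p' a).trans ha⟩
  let C := A' ⊗[T.R] T.S
  letI aSC : Algebra T.S C := Algebra.TensorProduct.rightAlgebra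
  haveI : IsScalarTower T.R T.S C := IsScalarTower.of_algebraMap_eq fun r =>
    ((Algebra.TensorProduct.includeRight : T.S →ₐ[T.R] C).commutes r).symm
  haveI : Algebra.IsPushout T.R T.S A' C := TensorProduct.isPushout'
  haveI : Algebra.Etale T.S C := RingHom.etale_algebraMap.1 (etale_includeRight T.R A' T.S)
  letI aBC : Algebra B C := ((algebraMap T.S C).comp (algebraMap B T.S)).toAlgebra
  haveI : IsScalarTower B T.S C := IsScalarTower.of_algebraMap_eq (R := B) (S := T.S) (A := C) fun _ => rfl
  haveI : IsScalarTower A B C := IsScalarTower.of_algebraMap_eq fun r => by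
    rw [IsScalarTower.algebraMap_apply B T.S C, ← IsScalarTower.algebraMap_apply A B T.S,
      IsScalarTower.algebraMap_apply A T.R T.S, ← IsScalarTower.algebraMap_apply T.R T.S C,
      IsScalarTower.algebraMap_apply A A' C, IsScalarTower.algebraMap_apply A T.R A',
      ← IsScalarTower.algebraMap_apply T.R A' C]
  let ψ : BA →ₐ[B] C := (Algebra.TensorProduct.lift (Algebra.ofId B C) (IsScalarTower.toAlgHom A A' C)
    fun _ _ => .all _ _).comp (Algebra.IsPushout.equiv A B A' BA).symm.toAlgHom
  letI aBAC : Algebra BA C := ψ.toRingHom.toAlgebra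
  haveI : IsScalarTower B BA C := IsScalarTower.of_algHom ψ
  haveI : IsScalarTower A' BA C := IsScalarTower.of_algebraMap_eq fun r => Eq.symm <| by
    show (Algebra.TensorProduct.lift (Algebra.ofId B C) (IsScalarTower.toAlgHom A A' C)
      fun _ _ => .all _ _) ((Algebra.IsPushout.equiv A B A' BA).symm (algebraMap A' BA r)) = _
    rw [Algebra.IsPushout.equiv_symm_algebraMap_right, Algebra.TensorProduct.lift_tmul, map_one, one_mul]
    rfl
  haveI : Algebra.Etale B BA := Algebra.Etale.of_equiv (Algebra.IsPushout.equiv A B A' BA)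
  haveI : Algebra.Etale B C := Algebra.Etale.comp B T.S C
  haveI : Algebra.Etale BA C := Algebra.Etale.of_restrictScalars (R := B) (A := BA) (B := C)
  let Nc := C ⊗[BA] NA
  haveI : SMulCommClass BA B C := ⟨fun c d v => by rw [Algebra.smul_def c, Algebra.smul_def c, mul_smul_comm]⟩
  let g : NA →ₗ[BA] Nc := TensorProduct.mk BA C NA 1
  have hg : IsBaseChange C g := TensorProduct.isBaseChange BA NA C
  have hgN : IsBaseChange C ((g.restrictScalars B).comp fA) := hfA.comp hg
  haveI : SMulCommClass BA T.S C := ⟨fun c d v => by rw [Algebra.smul_def c, Algebra.smul_def c, mul_smul_comm]⟩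
  let i : T.S ⊗[B] N →ₗ[T.S] Nc := (TensorProduct.isBaseChange B N T.S).lift ((g.restrictScalars B).comp fA)
  have hi : IsBaseChange C i := by
    refine IsBaseChange.of_comp (TensorProduct.isBaseChange B N T.S) ?_
    rwa [IsBaseChange.lift_comp]
  refine ⟨C, inferInstance, inferInstance, inferInstance, inferInstance, Nc, inferInstance, inferInstance,
    inferInstance, inferInstance, g,
    ⟨inferInstance, hg, completeDevissage_baseChange (R := T.R) (R'' := A') (S := T.S) (S'' := C) p' hi T.dev⟩,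
    fun Q _ hQ hsee => ?_⟩
  obtain ⟨s, hsR, hsq⟩ := hsee
  haveI := hQ
  haveI : s.asIdeal.LiesOver T.pR := ⟨hsR.symm⟩
  obtain ⟨Q', hQ', hQ'p, hQ's⟩ := pushout_exists_prime (S := T.S) (S' := C) (p' := p') hbR s.asIdeal
  haveI := hQ'; haveI := hQ'p; haveI := hQ's
  haveI : (Q'.under BA).LiesOver p' := ⟨(Ideal.over_def Q' p').trans (Ideal.under_under (A := A') (B := BA) Q').symm⟩
  refine ⟨Q', hQ', pushout_prime_le (R := A) (S := B) (R' := A') (S' := BA) hb' (Q'.under BA) Q ?_⟩
  have h2 : s.asIdeal.comap (algebraMap B T.S) = Q.under B := congrArg PrimeSpectrum.asIdeal hsq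
  rw [Ideal.under_under, ← h2, Ideal.over_def Q' s.asIdeal, Ideal.under_def, Ideal.under_def, Ideal.comap_comap,
    ← IsScalarTower.algebraMap_eq]

/-- An étale cover of the fibre by charts with complete dévissages over a common base. -/
theorem exists_etale_cover [Algebra.FiniteType A B] (N : Type u) [AddCommGroup N] [Module B N] [Module.Finite B N]
    (p : Ideal A) [p.IsPrime] :
    ∃ (A' : Type u) (_ : CommRing A') (_ : Algebra A A') (p' : Ideal A') (_ : p'.IsPrime), FlatCA.IsEtaleNhd A A' p p' ∧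
      ∀ (BA NA : Type u) [CommRing BA] [Algebra B BA] [Algebra A' BA] [Algebra A BA] [IsScalarTower A B BA] [IsScalarTower A A' BA]
        [Algebra.IsPushout A B A' BA]
        [AddCommGroup NA] [Module BA NA] [Module B NA] [IsScalarTower B BA NA]
        (fA : N →ₗ[B] NA), IsBaseChange BA fA →
        ∃ (k : ℕ) (C : Fin k → Type u) (_ : ∀ i, CommRing (C i)) (_ : ∀ i, Algebra BA (C i)) (_ : ∀ i, Algebra A' (C i))
          (_ : ∀ i, IsScalarTower A' BA (C i))
          (Nc : Fin k → Type u) (_ : ∀ i, AddCommGroup (Nc i)) (_ : ∀ i, Module (C i) (Nc i)) (_ : ∀ i, Module BA (Nc i))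
          (_ : ∀ i, IsScalarTower BA (C i) (Nc i)) (g : ∀ i, NA →ₗ[BA] Nc i),
          (∀ i, Algebra.Etale BA (C i) ∧ IsBaseChange (C i) (g i) ∧ Nonempty (FlatCA.CompleteDevissage A' (C i) (Nc i) p')) ∧
          ∀ (Q : Ideal BA) [Q.IsPrime], Q.LiesOver p' → ∃ (i : Fin k) (Q' : Ideal (C i)), Q'.IsPrime ∧ Q'.comap (algebraMap BA (C i)) = Q := by
  classical
  let Y : Set (PrimeSpectrum B) := {q | q.asIdeal.comap (algebraMap A B) = p}
  have hY : IsCompact Y := by
    have hrange : Y = Set.range (PrimeSpectrum.comap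
        (Algebra.TensorProduct.includeRight (R := A) (A := p.ResidueField) (B := B)).toRingHom) := by
      ext q
      constructor
      · intro hq
        haveI : q.asIdeal.LiesOver p := ⟨hq.symm⟩
        obtain ⟨x, -, hx⟩ := exists_fiber_point p q.asIdeal
        exact ⟨x, PrimeSpectrum.ext hx⟩
      · rintro ⟨x, rfl⟩
        exact ((PrimeSpectrum.primesOverOrderIsoFiber A B p).symm x).2.2.over.symm
    rw [hrange]
    exact isCompact_range (PrimeSpectrum.continuous_comap _)
  have hex : ∀ q : Y, ∃ T : DevChart A B N p, T.Sees q.1 := fun q => by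
    haveI : q.1.asIdeal.LiesOver p := ⟨q.2.symm⟩
    exact exists_devChart_sees q.1.asIdeal
  choose T hT using hex
  choose V hVo hV using fun q => (T q).exists_open
  obtain ⟨t, ht⟩ := hY.elim_finite_subcover V hVo fun q hq => Set.mem_iUnion.2 ⟨⟨q, hq⟩, (hV _ q hq).2 (hT ⟨q, hq⟩)⟩
  obtain ⟨A', _, _, p', _, hn, hall⟩ := exists_common_nhd T t
  refine ⟨A', inferInstance, inferInstance, p', inferInstance, hn,
    fun BA NA _ _ _ _ _ _ _ _ _ _ _ fA hfA => ?_⟩
  choose φ hφ using hall
  let e := t.equivFin.symm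
  choose C i1 i2 i3 i4 Nc i5 i6 i7 i8 g hmain hcov using fun j : Fin t.card =>
    (T (e j).1).exists_baseChange hn (φ _ (e j).2) (hφ _ (e j).2) (BA := BA) (NA := NA) hfA
  refine ⟨t.card, C, i1, i2, i3, i4, Nc, i5, i6, i7, i8, g, hmain, fun Q _ hQ => ?_⟩
  obtain ⟨-, ho, -⟩ := hn
  haveI := ho
  haveI := hQ
  let q := PrimeSpectrum.comap (algebraMap B BA) (⟨Q, ‹_›⟩ : PrimeSpectrum BA)
  have hq : q ∈ Y := by
    show (Q.comap (algebraMap B BA)).comap (algebraMap A B) = p
    rw [Ideal.comap_comap, ← IsScalarTower.algebraMap_eq]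
    haveI : Q.LiesOver p := Ideal.LiesOver.trans Q p' p
    exact (Ideal.over_def Q p).symm
  obtain ⟨i, hi, hqi⟩ := Set.mem_iUnion₂.1 (ht hq)
  have hj : (e (e.symm ⟨i, hi⟩)).1 = i := by rw [Equiv.apply_symm_apply]
  refine ⟨e.symm ⟨i, hi⟩, hcov _ Q hQ ?_⟩
  rw [hj]
  exact (hV i q hq).1 hqi

end Groth.Agent.RG29
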