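import Groth.Agent.CAlgH2.LocalDimField
import Groth.Prelude.Def_FlatCA
import Mathlib

/-!
A finite type algebra is quasi-finite at a given prime over a polynomial ring in as many variables
as the local dimension of the fibre, with purely transcendental residue field below.
-/

set_option autoImplicit false

universe u

open TensorProduct

namespace Groth.Agent.RG29

variable {R T : Type u} [CommRing R] [CommRing T] [Algebra R T]

/-- A prime `q` is isolated in its fibre over `P` if it is minimal over `y := q ∩ P` and `T/q` is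
algebraic over `P`. -/
theorem quasiFiniteAt_of_minimal_of_isAlgebraic {P : Type u} [CommRing P] [Algebra P T]
    [Algebra.FiniteType P T] (q : Ideal T) [q.IsPrime]
    (hmin : ∀ q₁ : Ideal T, q₁.IsPrime → q₁.under P = q.under P → q₁ ≤ q → q₁ = q)
    (halg : ∀ t : T, t ∉ q → ∃ a : P, a ∉ q.under P ∧ ∃ w : T, algebraMap P T a - t * w ∈ q) :
    Algebra.QuasiFiniteAt P q := by
  let y := q.under P
  let e := PrimeSpectrum.primesOverOrderIsoFiber P T y
  let x : PrimeSpectrum (y.Fiber T) := e ⟨q, ‹_›, ⟨rfl⟩⟩
  have hx : x.asIdeal.comap Algebra.TensorProduct.includeRight.toRingHom = q :=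
    congrArg Subtype.val (e.symm_apply_apply ⟨q, ‹_›, ⟨rfl⟩⟩)
  haveI : IsNoetherianRing (y.Fiber T) := Algebra.FiniteType.isNoetherianRing y.ResidueField _
  haveI : IsJacobsonRing (y.Fiber T) := isJacobsonRing_of_finiteType (A := y.ResidueField)
  have hmax : ∀ z : y.primesOver T, q ≤ z.1 → z.1 ≤ q := by
    rintro ⟨z, hz, hzy⟩ hqz t ht
    by_contra htq
    obtain ⟨a, ha, w, hw⟩ := halg t htq
    refine ha ?_
    have h1 : algebraMap P T a ∈ z := by
      have := z.add_mem (hqz hw) (z.mul_mem_right w ht)
      rwa [sub_add_cancel] at this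
    exact (SetLike.ext_iff.1 hzy.over a).2 h1
  have hclopen : IsClosed ({x} : Set (PrimeSpectrum (y.Fiber T))) ∧
      StableUnderGeneralization ({x} : Set (PrimeSpectrum (y.Fiber T))) := by
    constructor
    · rw [PrimeSpectrum.isClosed_singleton_iff_isMaximal, ← PrimeSpectrum.isMax_iff]
      intro x' hx'
      obtain ⟨z, rfl⟩ := e.surjective x'
      refine e.le_iff_le.2 (show z.1 ≤ q from hmax z ?_)
      exact e.le_iff_le.1 hx'
    · rw [PrimeSpectrum.stableUnderGeneralization_singleton, ← PrimeSpectrum.isMin_iff]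
      intro x' hx'
      obtain ⟨z, rfl⟩ := e.surjective x'
      have hzq : z.1 ≤ q := e.le_iff_le.1 hx'
      have := hmin z.1 z.2.1 z.2.2.over.symm hzq
      exact e.le_iff_le.2 (show q ≤ z.1 from this.ge)
  have hopen : IsOpen ({x} : Set (PrimeSpectrum (y.Fiber T))) :=
    ((PrimeSpectrum.isOpen_singleton_tfae_of_isNoetherian_of_isJacobsonRing x).out 0 2).2 hclopen
  haveI : Algebra.QuasiFiniteAt y.ResidueField x.asIdeal := Algebra.QuasiFiniteAt.of_isOpen_singleton x hopen
  haveI : q.LiesOver y := ⟨rfl⟩
  haveI := Algebra.WeaklyQuasiFiniteAt.of_quasiFiniteAt_residueField y q x.asIdeal hx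
  exact Algebra.QuasiFiniteAt.of_weaklyQuasiFiniteAt q

set_option maxHeartbeats 1000000 in
theorem exists_quasiFiniteAt_pureTrans_aux [Algebra.FiniteType R T] (p : Ideal R) [p.IsPrime] (q : Ideal T)
    [q.IsPrime] [q.LiesOver p] {F : Type u} [CommRing F] [Algebra p.ResidueField F]
    [Algebra.FiniteType p.ResidueField F] (ι : T →+* F)
    (hι : ∀ r : R, ι (algebraMap R T r) = algebraMap p.ResidueField F (algebraMap R p.ResidueField r))
    (hscale : ∀ z : F, ∃ (u : p.ResidueFieldˣ) (t : T), ι t = (u : p.ResidueField) • z)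
    (Q : Ideal F) [Q.IsPrime] (hQ : Q.comap ι = q) (n : ℕ) (hd : CAlgH2.dimAt p.ResidueField Q = n)
    (hlift : ∀ q₁ : Ideal T, q₁.IsPrime → q₁.LiesOver p → q₁ ≤ q →
      ∃ z : Ideal F, z.IsPrime ∧ z.comap ι = q₁ ∧ z ≤ Q) :
    ∃ (_ : Algebra (MvPolynomial (Fin n) R) T) (_ : IsScalarTower R (MvPolynomial (Fin n) R) T)
      (_ : (q.under (MvPolynomial (Fin n) R)).LiesOver p),
      Algebra.QuasiFiniteAt (MvPolynomial (Fin n) R) q ∧
        FlatCA.PurelyTranscendental p (q.under (MvPolynomial (Fin n) R)) := by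
  classical
  haveI : IsNoetherianRing F := Algebra.FiniteType.isNoetherianRing p.ResidueField _
  let σ : T →+* Q.ResidueField := (algebraMap F Q.ResidueField).comp ι
  have hσ : ∀ t, σ t = 0 ↔ t ∈ q := fun t => by
    show algebraMap F Q.ResidueField (ι t) = 0 ↔ _
    rw [Ideal.algebraMap_residueField_eq_zero, ← hQ]
    rfl
  -- transcendence basis inside the image of `T`
  have himage : ∀ z : F, algebraMap F Q.ResidueField z ∈ Algebra.adjoin p.ResidueField (Set.range σ) := by
    intro z
    obtain ⟨u, t, ht⟩ := hscale z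
    have : algebraMap F Q.ResidueField z = (↑u⁻¹ : p.ResidueField) • σ t := by
      show _ = (↑u⁻¹ : p.ResidueField) • algebraMap F Q.ResidueField (ι t)
      rw [ht, Algebra.smul_def (u : p.ResidueField), map_mul, ← IsScalarTower.algebraMap_apply, ← Algebra.smul_def, smul_smul, Units.inv_mul, one_smul]
    rw [this]
    exact Subalgebra.smul_mem _ (Algebra.subset_adjoin (Set.mem_range_self t)) _
  haveI : Algebra.IsAlgebraic (Algebra.adjoin p.ResidueField (Set.range σ)) Q.ResidueField := ⟨fun z => by
    obtain ⟨a, b, hb, rfl⟩ := IsFractionRing.div_surjective (A := F ⧸ Q) (K := Q.ResidueField) z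
    obtain ⟨a, rfl⟩ := Ideal.Quotient.mk_surjective a
    obtain ⟨b, rfl⟩ := Ideal.Quotient.mk_surjective b
    rw [div_eq_mul_inv]
    refine IsAlgebraic.mul ?_ (IsAlgebraic.inv ?_)
    · exact isAlgebraic_algebraMap (⟨_, himage a⟩ : Algebra.adjoin p.ResidueField (Set.range σ))
    · exact isAlgebraic_algebraMap (⟨_, himage b⟩ : Algebra.adjoin p.ResidueField (Set.range σ))⟩
  obtain ⟨B, hBsub, hB⟩ := exists_isTranscendenceBasis_subset (R := p.ResidueField) (A := Q.ResidueField) (Set.range σ)
  -- dimensions
  have hcard := hB.cardinalMk_eq_trdeg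
  rw [CAlgH2.trdeg_residueField p.ResidueField Q] at hcard
  haveI : Algebra.FiniteType p.ResidueField (F ⧸ Q) :=
    Algebra.FiniteType.of_surjective (Ideal.Quotient.mkₐ p.ResidueField _) Ideal.Quotient.mk_surjective
  rw [E4O.trdeg_eq_natCast p.ResidueField (F ⧸ Q)] at hcard
  haveI : Finite B := Cardinal.lt_aleph0_iff_finite.1 (hcard.trans_lt Cardinal.natCast_lt_aleph0)
  have hnum : Q.height + (Nat.card B : ℕ∞) = n := by
    have h1 : Nat.card B = CAlgH2.trdegQuot p.ResidueField Q := by
      rw [Nat.card, hcard, Cardinal.toNat_natCast]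
      rfl
    rw [h1, CAlgH2.height_add_trdegQuot_eq_dimAt, hd]
  obtain ⟨s, hs, hscard⟩ := Ideal.exists_finset_card_eq_height_of_isNoetherianRing Q
  have hn : Nat.card (B ⊕ s) = n := by
    rw [← hscard] at hnum
    rw [Nat.card_sum, Nat.card_eq_finsetCard]
    have : s.card + Nat.card B = n := by exact_mod_cast hnum
    omega
  let e : Fin n ≃ B ⊕ s := (finCongr hn.symm).trans (Finite.equivFin _).symm
  -- lifts
  choose xB hxB using fun b : B => hBsub b.2
  choose us ts hts using fun z : s => hscale z.1
  let v : Fin n → T := fun i => Sum.elim xB ts (e i)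
  let φ : MvPolynomial (Fin n) R →ₐ[R] T := MvPolynomial.aeval v
  letI : Algebra (MvPolynomial (Fin n) R) T := φ.toRingHom.toAlgebra
  haveI hst : IsScalarTower R (MvPolynomial (Fin n) R) T :=
    IsScalarTower.of_algebraMap_eq fun r => (φ.commutes r).symm
  let y := q.under (MvPolynomial (Fin n) R)
  haveI hyp : y.LiesOver p := ⟨by rw [Ideal.under_under]; exact Ideal.LiesOver.over⟩
  have htsq : ∀ z : s, ts z ∈ q := fun z => by
    rw [← hσ]
    show algebraMap F Q.ResidueField (ι (ts z)) = 0
    rw [hts, Ideal.algebraMap_residueField_eq_zero, Algebra.smul_def]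
    exact Ideal.mul_mem_left _ _ (hs.1.2 (Ideal.subset_span z.2))
  have hvB : ∀ b : B, φ (MvPolynomial.X (e.symm (.inl b))) = xB b := fun b => by
    simp [φ, v]
  have hvs : ∀ z : s, φ (MvPolynomial.X (e.symm (.inr z))) = ts z := fun z => by
    simp [φ, v]
  -- the residue field of `y` inside `Q.ResidueField`
  have hyker : y ≤ RingHom.ker (σ.comp φ.toRingHom) := fun a ha => (hσ _).2 ha
  have hyunit : y.primeCompl ≤ (IsUnit.submonoid Q.ResidueField).comap (σ.comp φ.toRingHom) := fun a ha =>
    isUnit_iff_ne_zero.2 fun h => ha ((hσ _).1 h)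
  let j : y.ResidueField →+* Q.ResidueField := Ideal.ResidueField.lift y (σ.comp φ.toRingHom) hyker hyunit
  letI : Algebra p.ResidueField y.ResidueField :=
    (Ideal.ResidueField.mapₐ p y (Algebra.ofId R (MvPolynomial (Fin n) R)) hyp.over).toRingHom.toAlgebra
  have hk : ∀ r : R, algebraMap p.ResidueField y.ResidueField (algebraMap R p.ResidueField r) =
      algebraMap (MvPolynomial (Fin n) R) y.ResidueField (MvPolynomial.C r) := fun r => by
    show Ideal.ResidueField.mapₐ p y _ _ (algebraMap R p.ResidueField r) = _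
    rw [AlgHom.commutes, IsScalarTower.algebraMap_apply R (MvPolynomial (Fin n) R) y.ResidueField]
    rfl
  have hjk : ∀ c : p.ResidueField, j (algebraMap p.ResidueField y.ResidueField c) = algebraMap p.ResidueField Q.ResidueField c := by
    intro c
    refine RingHom.congr_fun (Ideal.ResidueField.ringHom_ext (f := j.comp (algebraMap p.ResidueField y.ResidueField))
      (g := algebraMap p.ResidueField Q.ResidueField) (RingHom.ext fun r => ?_)) c
    show j (algebraMap p.ResidueField y.ResidueField (algebraMap R p.ResidueField r)) = algebraMap p.ResidueField Q.ResidueField (algebraMap R p.ResidueField r)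
    rw [hk, Ideal.ResidueField.lift_algebraMap]
    show algebraMap F Q.ResidueField (ι (φ (MvPolynomial.C r))) = _
    rw [MvPolynomial.aeval_C, hι, ← IsScalarTower.algebraMap_apply p.ResidueField F Q.ResidueField]
  let jA : y.ResidueField →ₐ[p.ResidueField] Q.ResidueField := { j with commutes' := hjk }
  let xx : B → y.ResidueField := fun b =>
    algebraMap (MvPolynomial (Fin n) R) y.ResidueField (MvPolynomial.X (e.symm (.inl b)))
  have hjx : (jA ∘ xx) = ((↑) : B → Q.ResidueField) := by
    funext b
    show j (algebraMap _ _ _) = _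
    rw [Ideal.ResidueField.lift_algebraMap]
    show σ (φ _) = _
    rw [hvB, hxB]
  have hind : AlgebraicIndependent p.ResidueField xx := AlgebraicIndependent.of_comp jA (hjx ▸ hB.1)
  have hmem : ∀ a : MvPolynomial (Fin n) R,
      algebraMap (MvPolynomial (Fin n) R) y.ResidueField a ∈ Algebra.adjoin p.ResidueField (Set.range xx) := by
    intro a
    induction a using MvPolynomial.induction_on with
    | C r => rw [← hk]; exact Subalgebra.algebraMap_mem _ _
    | add f g hf hg => rw [map_add]; exact Subalgebra.add_mem _ hf hg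
    | mul_X f i hf =>
      rw [map_mul]
      refine Subalgebra.mul_mem _ hf ?_
      obtain ⟨w, rfl⟩ := e.symm.surjective i
      cases w with
      | inl b => exact Algebra.subset_adjoin (Set.mem_range_self b)
      | inr z =>
        rw [show algebraMap (MvPolynomial (Fin n) R) y.ResidueField (MvPolynomial.X (e.symm (.inr z))) = 0 from
          Ideal.algebraMap_residueField_eq_zero.2 (show φ _ ∈ q by rw [hvs]; exact htsq z)]
        exact Subalgebra.zero_mem _
  have htop : IntermediateField.adjoin p.ResidueField (Set.range xx) = ⊤ := by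
    rw [eq_top_iff]
    intro z _
    obtain ⟨a, b, hb, rfl⟩ := IsFractionRing.div_surjective (A := MvPolynomial (Fin n) R ⧸ y) (K := y.ResidueField) z
    obtain ⟨a, rfl⟩ := Ideal.Quotient.mk_surjective a
    obtain ⟨b, rfl⟩ := Ideal.Quotient.mk_surjective b
    exact IntermediateField.div_mem _ (IntermediateField.algebra_adjoin_le_adjoin _ _ (hmem a))
      (IntermediateField.algebra_adjoin_le_adjoin _ _ (hmem b))
  have hbasis : IsTranscendenceBasis p.ResidueField xx := by
    refine hind.isTranscendenceBasis_iff_isAlgebraic.2 ⟨fun z => ?_⟩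
    obtain ⟨a, b, hb, rfl⟩ := IsFractionRing.div_surjective (A := MvPolynomial (Fin n) R ⧸ y) (K := y.ResidueField) z
    obtain ⟨a, rfl⟩ := Ideal.Quotient.mk_surjective a
    obtain ⟨b, rfl⟩ := Ideal.Quotient.mk_surjective b
    rw [div_eq_mul_inv]
    exact IsAlgebraic.mul (isAlgebraic_algebraMap (⟨_, hmem a⟩ : Algebra.adjoin p.ResidueField (Set.range xx)))
      (IsAlgebraic.inv (isAlgebraic_algebraMap (⟨_, hmem b⟩ : Algebra.adjoin p.ResidueField (Set.range xx))))
  -- quasi-finiteness
  haveI : Algebra.FiniteType (MvPolynomial (Fin n) R) T :=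
    Algebra.FiniteType.of_restrictScalars_finiteType R _ _
  refine ⟨inferInstance, hst, hyp, quasiFiniteAt_of_minimal_of_isAlgebraic q ?_ ?_, ⟨B, xx, hbasis, htop⟩⟩
  · intro q₁ hq₁ hunder hle
    haveI := hq₁
    have hq₁p : q₁.LiesOver p := ⟨by
      rw [← Ideal.under_under (B := MvPolynomial (Fin n) R) q₁, hunder, ← hyp.over]⟩
    obtain ⟨z, hzp, hz, hzQ⟩ := hlift q₁ hq₁ hq₁p hle
    have hspan : Ideal.span (s : Set F) ≤ z := by
      rw [Ideal.span_le]
      intro w hw
      have h1 : ts ⟨w, hw⟩ ∈ q₁ := by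
        rw [← hvs]
        show MvPolynomial.X _ ∈ q₁.under (MvPolynomial (Fin n) R)
        rw [hunder]
        show φ _ ∈ q
        rw [hvs]
        exact htsq _
      rw [← hz] at h1
      change ι (ts ⟨w, hw⟩) ∈ z at h1
      rw [hts] at h1
      have := Ideal.mul_mem_left z (algebraMap p.ResidueField F (↑(us ⟨w, hw⟩)⁻¹)) h1
      rwa [← Algebra.smul_def, smul_smul, Units.inv_mul, one_smul] at this
    have : z = Q := le_antisymm hzQ (hs.2 ⟨hzp, hspan⟩ hzQ)
    rw [← hz, this]
    exact hQ
  · intro t ht
    have halgL : Algebra.IsAlgebraic (Algebra.adjoin p.ResidueField ((↑) '' (Set.univ : Set B) : Set Q.ResidueField)) Q.ResidueField := by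
      rw [Set.image_univ]
      exact hB.isAlgebraic
    -- `Q.ResidueField` is algebraic over the image of the residue field of `y`
    letI : Algebra y.ResidueField Q.ResidueField := j.toAlgebra
    haveI : IsScalarTower p.ResidueField y.ResidueField Q.ResidueField := IsScalarTower.of_algebraMap_eq fun c => (hjk c).symm
    have hle : Algebra.adjoin p.ResidueField ((↑) '' (Set.univ : Set B) : Set Q.ResidueField) ≤ (IsScalarTower.toAlgHom p.ResidueField y.ResidueField Q.ResidueField).range := by
      rw [Algebra.adjoin_le_iff]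
      rintro _ ⟨b, -, rfl⟩
      exact ⟨xx b, congrFun hjx b⟩
    have hσt : σ t ≠ 0 := fun h => ht ((hσ t).1 h)
    have hL : IsAlgebraic y.ResidueField (σ t) := by
      obtain ⟨f, hf0, hf⟩ := halgL.1 (σ t)
      let g : Algebra.adjoin p.ResidueField ((↑) '' (Set.univ : Set B) : Set Q.ResidueField) →+* y.ResidueField :=
        ((AlgEquiv.ofInjectiveField (IsScalarTower.toAlgHom p.ResidueField y.ResidueField Q.ResidueField)).symm.toRingEquiv.toRingHom).comp
          (Subalgebra.inclusion hle).toRingHom
      have hg : (algebraMap y.ResidueField Q.ResidueField).comp g = algebraMap _ Q.ResidueField := RingHom.ext fun c =>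
        congrArg Subtype.val ((AlgEquiv.ofInjectiveField (IsScalarTower.toAlgHom p.ResidueField y.ResidueField Q.ResidueField)).apply_symm_apply
          (Subalgebra.inclusion hle c))
      refine ⟨f.map g, ?_, ?_⟩
      · refine (Polynomial.map_ne_zero_iff ?_).2 hf0
        refine Function.Injective.of_comp (f := algebraMap y.ResidueField Q.ResidueField) ?_
        rw [← RingHom.coe_comp, hg]
        exact Subtype.val_injective
      · rw [Polynomial.aeval_def, Polynomial.eval₂_map, hg]
        exact hf
    -- over `MvPolynomial`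
    letI : Algebra (MvPolynomial (Fin n) R ⧸ y) Q.ResidueField := (j.comp (algebraMap _ y.ResidueField)).toAlgebra
    haveI : IsScalarTower (MvPolynomial (Fin n) R ⧸ y) y.ResidueField Q.ResidueField := IsScalarTower.of_algebraMap_eq fun _ => rfl
    have halg' : IsAlgebraic (MvPolynomial (Fin n) R ⧸ y) (σ t) :=
      (IsFractionRing.isAlgebraic_iff (MvPolynomial (Fin n) R ⧸ y) y.ResidueField Q.ResidueField).2 hL
    obtain ⟨r, hr, w, hw⟩ :
        ∃ r : MvPolynomial (Fin n) R ⧸ y, r ≠ 0 ∧ ∃ w : T, algebraMap (MvPolynomial (Fin n) R ⧸ y) Q.ResidueField r = σ t * σ w := by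
      obtain ⟨f, hf0, hf⟩ := halg'
      obtain ⟨g, hg, hgx⟩ := Polynomial.exists_eq_pow_rootMultiplicity_mul_and_not_dvd f hf0 0
      rw [map_zero, sub_zero] at hg
      rw [hg, map_mul, map_pow, Polynomial.aeval_X, mul_eq_zero] at hf
      have hg0 : Polynomial.aeval (σ t) g = 0 := hf.resolve_left (pow_ne_zero _ hσt)
      have hc : g.coeff 0 ≠ 0 := fun h => hgx (by rw [map_zero, sub_zero]; exact Polynomial.X_dvd_iff.2 h)
      obtain ⟨g', hg'⟩ := Polynomial.map_surjective (Ideal.Quotient.mk y) Ideal.Quotient.mk_surjective g.divX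
      refine ⟨g.coeff 0, hc, -Polynomial.aeval t g', ?_⟩
      have hdec := congrArg (Polynomial.aeval (σ t)) (Polynomial.divX_mul_X_add g)
      rw [map_add, map_mul, Polynomial.aeval_X, Polynomial.aeval_C, hg0] at hdec
      have hσg : Polynomial.aeval (σ t) g.divX = σ (Polynomial.aeval t g') := by
        rw [← hg', Polynomial.aeval_def, Polynomial.eval₂_map, Polynomial.aeval_def, Polynomial.hom_eval₂]
        congr 1
        refine RingHom.ext fun a => ?_
        show j (algebraMap _ y.ResidueField (Ideal.Quotient.mk y a)) = σ (φ a)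
        rw [Ideal.algebraMap_quotient_residueField_mk, Ideal.ResidueField.lift_algebraMap]
        rfl
      rw [map_neg, ← hσg]
      linear_combination hdec
    obtain ⟨a, rfl⟩ := Ideal.Quotient.mk_surjective r
    refine ⟨a, fun h => hr (Ideal.Quotient.eq_zero_iff_mem.2 h), w, (hσ _).1 ?_⟩
    rw [map_sub, map_mul, sub_eq_zero, ← hw]
    show σ (φ a) = j (algebraMap _ y.ResidueField (Ideal.Quotient.mk y a))
    rw [Ideal.algebraMap_quotient_residueField_mk, Ideal.ResidueField.lift_algebraMap]
    rfl


/-- A finite type algebra is quasi-finite at `q` over a polynomial ring in as many variables as the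
local dimension of the fibre at `q`, such that the residue field below is purely transcendental. -/
theorem exists_quasiFiniteAt_pureTrans [Algebra.FiniteType R T] (p : Ideal R) [p.IsPrime] (q : Ideal T)
    [q.IsPrime] [q.LiesOver p] (Q : PrimeSpectrum (p.Fiber T))
    (hQ : Q.asIdeal.comap Algebra.TensorProduct.includeRight.toRingHom = q) (n : ℕ)
    (hdim : FlatMor.localDim (PrimeSpectrum (p.Fiber T)) Q = (n : WithBot ℕ∞)) :
    ∃ (_ : Algebra (MvPolynomial (Fin n) R) T) (_ : IsScalarTower R (MvPolynomial (Fin n) R) T)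
      (_ : (q.under (MvPolynomial (Fin n) R)).LiesOver p),
      Algebra.QuasiFiniteAt (MvPolynomial (Fin n) R) q ∧
        FlatCA.PurelyTranscendental p (q.under (MvPolynomial (Fin n) R)) := by
  refine exists_quasiFiniteAt_pureTrans_aux p q
    (Algebra.TensorProduct.includeRight (R := R) (A := p.ResidueField) (B := T)).toRingHom
    (fun r => ?_) (fun z => ?_) Q.asIdeal hQ n ?_ (fun q₁ hq₁ hq₁p hle => ?_)
  · exact (AlgHom.commutes _ r).trans (IsScalarTower.algebraMap_apply R p.ResidueField (p.Fiber T) r)
  · obtain ⟨c, hc, t, ht⟩ := Ideal.Fiber.exists_smul_eq_one_tmul p z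
    refine ⟨Units.mk0 (algebraMap R p.ResidueField c) fun h => hc (Ideal.algebraMap_residueField_eq_zero.1 h), t, ?_⟩
    rw [Units.val_mk0, algebraMap_smul]
    exact ht.symm
  · have := (CAlgH2.localDim_eq_dimAt p.ResidueField Q.asIdeal).symm.trans hdim
    exact_mod_cast this
  · let e := PrimeSpectrum.primesOverOrderIsoFiber R T p
    have hQ' : e ⟨q, ‹_›, ‹_›⟩ = Q := by
      rw [← e.eq_symm_apply]
      exact Subtype.ext hQ.symm
    refine ⟨(e ⟨q₁, hq₁, hq₁p⟩).asIdeal, (e ⟨q₁, hq₁, hq₁p⟩).2, congrArg Subtype.val (e.symm_apply_apply _), ?_⟩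
    rw [← hQ']
    exact e.le_iff_le.2 hle

end Groth.Agent.RG29
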