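import Groth.Agent.S1276
import Groth.Agent.E4O.FibreDim
import Groth.Agent.RG29.QFPrescribed
import Mathlib

/-!
The finitely presented closed subscheme carrying a module near a point of a fibre, and helpers on
purely transcendental extensions.
-/

set_option autoImplicit false

universe u

open TensorProduct

namespace Groth.Agent.RG29

/-- The finitely presented closed subscheme carrying `N` whose fibre is the support of the fibre
module, with the local dimension at the given point. -/
theorem exists_quotient_point {R S : Type u} [CommRing R] [CommRing S] [Algebra R S] [Algebra.FiniteType R S]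
    (N : Type u) [AddCommGroup N] [Module S N] [Module R N] [IsScalarTower R S N] [Module.Finite S N]
    (p : Ideal R) [p.IsPrime] (q : Ideal S) [q.IsPrime] [q.LiesOver p] (n : ℕ)
    (x : PrimeSpectrum (p.Fiber S)) (hxq : x.asIdeal = FlatCA.fiberIdeal p q)
    (hx : x ∈ Module.support (p.Fiber S) (FlatCA.fiberMod p S N))
    (hn : FlatMor.localDim (Module.support (p.Fiber S) (FlatCA.fiberMod p S N)) ⟨x, hx⟩ = n) :
    ∃ (J : Ideal S) (_ : J.FG) (_ : J ≤ Module.annihilator S N) (_ : J ≤ q) (Q : PrimeSpectrum (p.Fiber (S ⧸ J))),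
      (∀ s, (Algebra.TensorProduct.includeRight : S ⧸ J →ₐ[R] p.Fiber (S ⧸ J)) (Ideal.Quotient.mk J s) ∈ Q.asIdeal ↔ s ∈ q) ∧
      FlatMor.localDim (PrimeSpectrum (p.Fiber (S ⧸ J))) Q = (n : WithBot ℕ∞) := by
  obtain ⟨J, hJ, hJN, hsupp⟩ := Groth.Agent.S1276.result (A := R) (B := S) N p
  have hxc : ∀ s, (Algebra.TensorProduct.includeRight : S →ₐ[R] p.Fiber S) s ∈ x.asIdeal ↔ s ∈ q := by
    let e := PrimeSpectrum.primesOverOrderIsoFiber R S p
    let x' := e ⟨q, ‹_›, ‹_›⟩
    have hx' : x'.asIdeal.comap (Algebra.TensorProduct.includeRight : S →ₐ[R] p.Fiber S).toRingHom = q :=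
      congrArg Subtype.val (e.symm_apply_apply ⟨q, ‹_›, ‹_›⟩)
    refine fun s => ⟨fun hs => ?_, fun hs => hxq ▸ Ideal.mem_map_of_mem _ hs⟩
    rw [← hx']
    refine (?_ : x.asIdeal ≤ x'.asIdeal) hs
    rw [hxq]
    exact Ideal.map_le_iff_le_comap.2 hx'.ge
  let φ : p.Fiber S →ₐ[R] p.Fiber (S ⧸ J) :=
    Algebra.TensorProduct.map (AlgHom.id R p.ResidueField) (Ideal.Quotient.mkₐ R J)
  have hφ : Function.Surjective φ.toRingHom :=
    TensorProduct.map_surjective (R := R) (g := LinearMap.id) (g' := (Ideal.Quotient.mkₐ R J).toLinearMap)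
      Function.surjective_id Ideal.Quotient.mk_surjective
  have hker : RingHom.ker φ.toRingHom = FlatCA.fiberIdeal p J := by
    refine (Algebra.TensorProduct.lTensor_ker (Ideal.Quotient.mkₐ R J) Ideal.Quotient.mk_surjective).trans ?_
    rw [show RingHom.ker (Ideal.Quotient.mkₐ R J) = J from Ideal.ext fun s => Ideal.Quotient.eq_zero_iff_mem]
    rfl
  have hrange : Set.range (PrimeSpectrum.comap φ.toRingHom) =
      Module.support (p.Fiber S) (FlatCA.fiberMod p S N) := by
    rw [range_comap_of_surjective _ _ hφ, hker]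
    ext x'
    exact hsupp x'
  let h : PrimeSpectrum (p.Fiber (S ⧸ J)) ≃ₜ Module.support (p.Fiber S) (FlatCA.fiberMod p S N) :=
    (PrimeSpectrum.isClosedEmbedding_comap_of_surjective _ _ hφ).isEmbedding.toHomeomorph.trans
      (Homeomorph.setCongr hrange)
  refine ⟨J, hJ, hJN, fun s hs => (hxc s).1 (((hsupp x).2 hx) (Ideal.mem_map_of_mem _ hs)), h.symm ⟨x, hx⟩,
    fun s => ?_, ?_⟩
  · rw [← hxc]
    have h1 : PrimeSpectrum.comap φ.toRingHom (h.symm ⟨x, hx⟩) = x :=
      congrArg Subtype.val (h.apply_symm_apply ⟨x, hx⟩)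
    conv_rhs => rw [← h1]
    rw [PrimeSpectrum.comap_asIdeal, Ideal.mem_comap]
    exact Iff.rfl
  · rw [Groth.Agent.E4O.localDim_eq_of_homeomorph h, Homeomorph.apply_symm_apply]
    exact hn

/-- Purely transcendental extensions transfer along isomorphisms. -/
theorem exists_basis_transfer {k k' K K' : Type u} [Field k] [Field k'] [Field K] [Field K'] [Algebra k K]
    [Algebra k' K'] (e0 : k ≃+* k') (e1 : K ≃+* K') (hc : ∀ a, e1 (algebraMap k K a) = algebraMap k' K' (e0 a))
    {ι : Type u} {x : ι → K} (hx : IsTranscendenceBasis k x)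
    (htop : IntermediateField.adjoin k (Set.range x) = ⊤) :
    IsTranscendenceBasis k' (e1 ∘ x) ∧ IntermediateField.adjoin k' (Set.range (e1 ∘ x)) = ⊤ := by
  have htop' : IntermediateField.adjoin k' (Set.range (e1 ∘ x)) = ⊤ := by
    refine top_unique fun a _ => ?_
    obtain ⟨b, rfl⟩ := e1.surjective a
    have hb : b ∈ IntermediateField.adjoin k (Set.range x) := htop ▸ IntermediateField.mem_top
    induction hb using IntermediateField.adjoin_induction with
    | mem y hy =>
      obtain ⟨i, rfl⟩ := hy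
      exact IntermediateField.subset_adjoin _ _ ⟨i, rfl⟩
    | algebraMap c => rw [hc]; exact IntermediateField.algebraMap_mem _ _
    | add y z _ _ hy hz => rw [map_add]; exact add_mem (hy trivial) (hz trivial)
    | inv y _ hy => rw [map_inv₀]; exact inv_mem (hy trivial)
    | mul y z _ _ hy hz => rw [map_mul]; exact mul_mem (hy trivial) (hz trivial)
  have hai : AlgebraicIndependent k' (e1 ∘ x) :=
    hx.1.ringHom_of_comp_eq e0.toRingHom e1.toRingHom e0.surjective e1.injective
      (RingHom.ext fun a => (hc a).symm)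
  refine ⟨hai.isTranscendenceBasis_iff_isAlgebraic.2 ⟨fun a => ?_⟩, htop'⟩
  obtain ⟨r, hr, s, hs, rfl⟩ := IntermediateField.mem_adjoin_iff_div.1
    (htop' ▸ IntermediateField.mem_top : a ∈ IntermediateField.adjoin k' (Set.range (e1 ∘ x)))
  rw [div_eq_mul_inv]
  exact (isAlgebraic_algebraMap (⟨r, hr⟩ : Algebra.adjoin k' (Set.range (e1 ∘ x)))).mul
    (isAlgebraic_algebraMap (⟨s, hs⟩ : Algebra.adjoin k' (Set.range (e1 ∘ x)))).inv

/-- The inclusion of the right factor of a tensor product with an étale algebra is étale. -/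
theorem etale_includeRight (A X Y : Type u) [CommRing A] [CommRing X] [CommRing Y] [Algebra A X] [Algebra A Y]
    [Algebra.Etale A X] :
    ((Algebra.TensorProduct.includeRight : Y →ₐ[A] X ⊗[A] Y).toRingHom).Etale := by
  letI := Algebra.TensorProduct.rightAlgebra (R := A) (A := X) (B := Y)
  exact RingHom.etale_algebraMap.2 (Algebra.Etale.of_equiv (Algebra.TensorProduct.commRight A Y X))

end Groth.Agent.RG29
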