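import Mathlib.RingTheory.Etale.StandardEtale
import Mathlib.RingTheory.Etale.Basic
import Mathlib.FieldTheory.PrimitiveElement
import Mathlib.RingTheory.LocalRing.ResidueField.Ideal
import Mathlib.RingTheory.Polynomial.ScaleRoots
import Mathlib.RingTheory.Localization.Integral
import Mathlib

/-!
Points with separable residue field of algebras étale over affine space lift to étale quasi-sections.
-/

set_option autoImplicit false

universe u

open TensorProduct

namespace Groth.Agent.RG29

/-- A point with values in a finite separable extension of `κ(p)` of an algebra étale over affine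
space over `R` comes from an étale quasi-section. -/
theorem exists_etale_quasiSection {R B : Type u} [CommRing R] [CommRing B] [Algebra R B] (n : ℕ)
    [Algebra (MvPolynomial (Fin n) R) B] [IsScalarTower R (MvPolynomial (Fin n) R) B]
    [Algebra.Etale (MvPolynomial (Fin n) R) B] (p : Ideal R) [p.IsPrime]
    (k₁ : Type u) [Field k₁] [Algebra p.ResidueField k₁] [Algebra R k₁] [IsScalarTower R p.ResidueField k₁]
    [FiniteDimensional p.ResidueField k₁] [Algebra.IsSeparable p.ResidueField k₁] (f : B →ₐ[R] k₁) :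
    ∃ (R₁ : Type u) (_ : CommRing R₁) (_ : Algebra R R₁) (_ : Algebra.Etale R R₁) (σ₁ : B →ₐ[R] R₁)
      (π : R₁ →ₐ[R] k₁), π.comp σ₁ = f := by
  classical
  obtain ⟨θ₀, hθ₀⟩ := Field.exists_primitive_element p.ResidueField k₁
  have hker : ∀ r : R, algebraMap R k₁ r = 0 ↔ r ∈ p := fun r => by
    rw [IsScalarTower.algebraMap_apply R p.ResidueField k₁, map_eq_zero_iff _ (RingHom.injective _),
      Ideal.algebraMap_residueField_eq_zero]
  -- every element of `κ(p)` is a fraction of elements of `R`
  have hfrac : ∀ c : p.ResidueField, ∃ s : R, s ∉ p ∧ ∃ a : R, algebraMap R p.ResidueField s * c = algebraMap R _ a := by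
    intro c
    obtain ⟨a, s, hs, rfl⟩ := IsFractionRing.div_surjective (A := R ⧸ p) (K := p.ResidueField) c
    obtain ⟨a, rfl⟩ := Ideal.Quotient.mk_surjective a
    obtain ⟨s, rfl⟩ := Ideal.Quotient.mk_surjective s
    have hsp : s ∉ p := fun h => nonZeroDivisors.ne_zero hs (Ideal.Quotient.eq_zero_iff_mem.2 h)
    refine ⟨s, hsp, a, ?_⟩
    rw [Ideal.algebraMap_quotient_residueField_mk, Ideal.algebraMap_quotient_residueField_mk, mul_div_cancel₀]
    exact fun h => hsp (Ideal.algebraMap_residueField_eq_zero.1 h)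
  choose den hden num hnum using hfrac
  have hclear : ∀ (S : Finset p.ResidueField), ∃ s : R, s ∉ p ∧
      ∀ c ∈ S, ∃ a, algebraMap R p.ResidueField s * c = algebraMap R _ a := by
    intro S
    refine ⟨∏ c ∈ S, den c, fun h => ?_, fun c hc => ?_⟩
    · obtain ⟨c, -, hc⟩ := (Ideal.IsPrime.prod_mem_iff (hp := ‹p.IsPrime›)).1 h
      exact hden c hc
    · refine ⟨num c * ∏ x ∈ S.erase c, den x, ?_⟩
      rw [← Finset.mul_prod_erase S den hc, map_mul, map_mul, mul_right_comm, hnum]
  -- scaling the primitive element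
  obtain ⟨d, hd, hdS⟩ := hclear ((Finset.range (minpoly p.ResidueField θ₀).natDegree).image (minpoly p.ResidueField θ₀).coeff)
  have hθi : IsIntegral p.ResidueField θ₀ := IsIntegral.of_finite _ θ₀
  have hlift : (minpoly p.ResidueField θ₀).scaleRoots (algebraMap R p.ResidueField d) ∈
      Polynomial.lifts (algebraMap R p.ResidueField) := by
    rw [Polynomial.lifts_iff_coeff_lifts]
    intro i
    rw [Polynomial.coeff_scaleRoots]
    rcases lt_trichotomy i (minpoly p.ResidueField θ₀).natDegree with h | rfl | h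
    · obtain ⟨v, hv⟩ := hdS _ (Finset.mem_image_of_mem _ (Finset.mem_range.2 h))
      refine ⟨v * d ^ ((minpoly p.ResidueField θ₀).natDegree - i - 1), ?_⟩
      rw [map_mul, map_pow, ← hv, mul_comm (algebraMap R p.ResidueField d), mul_assoc, ← pow_succ',
        Nat.sub_add_cancel (Nat.sub_pos_of_lt h)]
    · rw [Nat.sub_self, pow_zero, mul_one]
      exact ⟨1, by rw [map_one, (minpoly.monic hθi).coeff_natDegree]⟩
    · exact ⟨0, by rw [map_zero, Polynomial.coeff_eq_zero_of_natDegree_lt h, zero_mul]⟩
  obtain ⟨F, hFmap, -, hFmon⟩ := Polynomial.lifts_and_degree_eq_and_monic hlift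
    ((Polynomial.monic_scaleRoots_iff _).2 (minpoly.monic hθi))
  let θ := algebraMap p.ResidueField k₁ (algebraMap R p.ResidueField d) * θ₀
  have hd0 : algebraMap R p.ResidueField d ≠ 0 := fun h => hd (Ideal.algebraMap_residueField_eq_zero.1 h)
  have haev : ∀ g : Polynomial R, Polynomial.aeval θ g = Polynomial.aeval θ (g.map (algebraMap R p.ResidueField)) :=
    fun g => (Polynomial.aeval_map_algebraMap _ _ _).symm
  have hFθ : Polynomial.aeval θ F = 0 := by
    rw [haev, hFmap]
    exact Polynomial.scaleRoots_aeval_eq_zero (minpoly.aeval _ _)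
  -- separability
  have hsep : Polynomial.aeval θ (Polynomial.derivative F) ≠ 0 := by
    rw [haev, ← Polynomial.derivative_map, hFmap]
    have hs : ((minpoly p.ResidueField θ₀).scaleRoots (algebraMap R p.ResidueField d)).Separable := by
      have : (minpoly p.ResidueField θ₀).scaleRoots (algebraMap R p.ResidueField d) = minpoly p.ResidueField θ := by
        rw [show θ = algebraMap R p.ResidueField d • θ₀ from (Algebra.smul_def _ _).symm,
          IsIntegrallyClosed.minpoly_smul hd0 hθi]
      rw [this]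
      exact Algebra.IsSeparable.isSeparable p.ResidueField θ
    exact hs.aeval_derivative_ne_zero (Polynomial.scaleRoots_aeval_eq_zero (minpoly.aeval _ _))
  -- the coordinates as polynomials in `θ`
  have hpoly : ∀ z : k₁, ∃ (s : R) (g : Polynomial R), s ∉ p ∧ Polynomial.aeval θ g = algebraMap R k₁ s * z := by
    intro z
    have hz : z ∈ Algebra.adjoin p.ResidueField {θ₀} := by
      rw [← IntermediateField.adjoin_simple_toSubalgebra_of_isAlgebraic hθi.isAlgebraic, hθ₀]
      trivial
    induction hz using Algebra.adjoin_induction with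
    | mem y hy =>
      rw [Set.mem_singleton_iff.1 hy]
      exact ⟨d, Polynomial.X, hd, by rw [Polynomial.aeval_X, IsScalarTower.algebraMap_apply R p.ResidueField k₁]⟩
    | algebraMap c =>
      refine ⟨den c, Polynomial.C (num c), hden c, ?_⟩
      rw [Polynomial.aeval_C, IsScalarTower.algebraMap_apply R p.ResidueField k₁, ← hnum, map_mul,
        ← IsScalarTower.algebraMap_apply]
    | add y y' _ _ hy hy' =>
      obtain ⟨s, g, hs, hg⟩ := hy
      obtain ⟨s', g', hs', hg'⟩ := hy'
      refine ⟨s * s', Polynomial.C s' * g + Polynomial.C s * g', fun h => (‹p.IsPrime›.mem_or_mem h).elim hs hs', ?_⟩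
      rw [map_add, map_mul, map_mul, Polynomial.aeval_C, Polynomial.aeval_C, hg, hg', map_mul]
      ring
    | mul y y' _ _ hy hy' =>
      obtain ⟨s, g, hs, hg⟩ := hy
      obtain ⟨s', g', hs', hg'⟩ := hy'
      refine ⟨s * s', g * g', fun h => (‹p.IsPrime›.mem_or_mem h).elim hs hs', ?_⟩
      rw [map_mul, hg, hg', map_mul]
      ring
  choose s g hs hg using fun i : Fin n => hpoly (f (algebraMap (MvPolynomial (Fin n) R) B (MvPolynomial.X i)))
  let r : R := ∏ i, s i
  have hr : r ∉ p := fun h => by
    obtain ⟨i, -, hi⟩ := (Ideal.IsPrime.prod_mem_iff (hp := ‹p.IsPrime›)).1 h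
    exact hs i hi
  let SP : StandardEtalePair R :=
    { f := F, monic_f := hFmon, g := Polynomial.derivative F * Polynomial.C r,
      cond := ⟨Polynomial.C r, 0, 1, by ring⟩ }
  have hmap : SP.HasMap θ := ⟨hFθ, by
    rw [show SP.g = Polynomial.derivative F * Polynomial.C r from rfl, map_mul, Polynomial.aeval_C]
    exact isUnit_iff_ne_zero.2 (mul_ne_zero hsep fun h => hr ((hker r).1 h))⟩
  let π₂ : SP.Ring →ₐ[R] k₁ := SP.lift θ hmap
  have hru : IsUnit (algebraMap R SP.Ring r) := by
    have h := SP.hasMap_X.2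
    rw [show SP.g = Polynomial.derivative F * Polynomial.C r from rfl, map_mul, Polynomial.aeval_C] at h
    exact isUnit_of_mul_isUnit_right h
  have hsu : ∀ i, IsUnit (algebraMap R SP.Ring (s i)) := fun i =>
    isUnit_of_dvd_unit (map_dvd _ (Finset.dvd_prod_of_mem s (Finset.mem_univ i))) hru
  let c : Fin n → SP.Ring := fun i => Polynomial.aeval SP.X (g i) * (↑(hsu i).unit⁻¹ : SP.Ring)
  have hc : ∀ i, π₂ (c i) = f (algebraMap (MvPolynomial (Fin n) R) B (MvPolynomial.X i)) := by
    intro i
    refine mul_left_cancel₀ (fun h => hs i ((hker _).1 h)) ((?_ : algebraMap R k₁ (s i) * π₂ (c i) = _))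
    rw [← hg i, ← π₂.commutes (s i), ← map_mul]
    show π₂ (algebraMap R SP.Ring (s i) * (Polynomial.aeval SP.X (g i) * _)) = _
    rw [mul_left_comm, IsUnit.mul_val_inv, mul_one, ← Polynomial.aeval_algHom_apply, StandardEtalePair.lift_X]
  let v : MvPolynomial (Fin n) R →ₐ[R] SP.Ring := MvPolynomial.aeval c
  letI : Algebra (MvPolynomial (Fin n) R) SP.Ring := v.toRingHom.toAlgebra
  haveI : IsScalarTower R (MvPolynomial (Fin n) R) SP.Ring := IsScalarTower.of_algebraMap_eq fun a => (v.commutes a).symm
  letI : Algebra (MvPolynomial (Fin n) R) k₁ := (π₂.toRingHom.comp v.toRingHom).toAlgebra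
  let πP : SP.Ring →ₐ[MvPolynomial (Fin n) R] k₁ := { π₂ with commutes' := fun _ => rfl }
  have hfP : ∀ a, f (algebraMap (MvPolynomial (Fin n) R) B a) = π₂ (v a) := fun a => by
    show ((f.comp (IsScalarTower.toAlgHom R (MvPolynomial (Fin n) R) B))) a = (π₂.comp v) a
    congr 1
    refine MvPolynomial.algHom_ext fun i => ?_
    show f _ = π₂ (v _)
    rw [MvPolynomial.aeval_X, hc]
    rfl
  let fP : B →ₐ[MvPolynomial (Fin n) R] k₁ := { f with commutes' := hfP }
  let R₁ := SP.Ring ⊗[MvPolynomial (Fin n) R] B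
  haveI : Algebra.Etale R R₁ := Algebra.Etale.comp R SP.Ring R₁
  refine ⟨R₁, inferInstance, inferInstance, inferInstance,
    (Algebra.TensorProduct.includeRight : B →ₐ[MvPolynomial (Fin n) R] R₁).restrictScalars R,
    { (Algebra.TensorProduct.lift πP fP fun _ _ => .all _ _).toRingHom with commutes' := fun a => ?_ },
    AlgHom.ext fun b => ?_⟩
  · show Algebra.TensorProduct.lift πP fP (fun _ _ => .all _ _) (algebraMap R SP.Ring a ⊗ₜ 1) = _
    rw [Algebra.TensorProduct.lift_tmul, map_one, mul_one]
    exact π₂.commutes a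
  · show Algebra.TensorProduct.lift πP fP (fun _ _ => .all _ _) ((1 : SP.Ring) ⊗ₜ b) = f b
    rw [Algebra.TensorProduct.lift_tmul, map_one, one_mul]
    rfl

end Groth.Agent.RG29
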