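import Groth.Agent.RG29.SameComp
import Groth.Agent.RG29.PointLift
import Mathlib.RingTheory.Etale.QuasiFinite

/-!
After an étale neighbourhood of the base, a point of a smooth algebra whose residue field is a
primary extension has an open neighbourhood with geometrically integral fibres.
-/

set_option autoImplicit false

universe u

open TensorProduct

namespace Groth.Agent.RG29

/-- Two fields over a ring with the same kernel embed in a common field. -/
theorem exists_common_field {A : Type u} [CommRing A] (L₁ L₂ : Type u) [Field L₁] [Field L₂] [Algebra A L₁]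
    [Algebra A L₂] (P : Ideal A) [P.IsPrime] (h₁ : ∀ a, algebraMap A L₁ a = 0 ↔ a ∈ P)
    (h₂ : ∀ a, algebraMap A L₂ a = 0 ↔ a ∈ P) :
    ∃ (L : Type u) (_ : Field L) (_ : Algebra A L), Nonempty (L₁ →ₐ[A] L) ∧ Nonempty (L₂ →ₐ[A] L) := by
  let i₁ : P.ResidueField →ₐ[A] L₁ := Ideal.ResidueField.liftₐ P (Algebra.ofId A L₁) (fun a ha => (h₁ a).2 ha)
    fun a ha => isUnit_iff_ne_zero.2 fun h => ha ((h₁ a).1 h)
  let i₂ : P.ResidueField →ₐ[A] L₂ := Ideal.ResidueField.liftₐ P (Algebra.ofId A L₂) (fun a ha => (h₂ a).2 ha)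
    fun a ha => isUnit_iff_ne_zero.2 fun h => ha ((h₂ a).1 h)
  letI := i₁.toRingHom.toAlgebra
  letI := i₂.toRingHom.toAlgebra
  haveI : IsScalarTower A P.ResidueField L₁ := IsScalarTower.of_algHom i₁
  haveI : IsScalarTower A P.ResidueField L₂ := IsScalarTower.of_algHom i₂
  let T := L₁ ⊗[P.ResidueField] L₂
  haveI : Nontrivial T := (Algebra.TensorProduct.includeLeft_injective (R := P.ResidueField) (S := L₁) (A := L₁)
    (B := L₂) (algebraMap P.ResidueField L₂).injective).nontrivial
  obtain ⟨M, hM⟩ := Ideal.exists_maximal T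
  letI := Ideal.Quotient.field M
  letI : Algebra A (T ⧸ M) := ((algebraMap L₁ (T ⧸ M)).comp (algebraMap A L₁)).toAlgebra
  refine ⟨T ⧸ M, inferInstance, inferInstance,
    ⟨{ (Ideal.Quotient.mk M).comp (Algebra.TensorProduct.includeLeftRingHom : L₁ →+* T) with
        commutes' := fun a => rfl }⟩,
    ⟨{ (Ideal.Quotient.mk M).comp (Algebra.TensorProduct.includeRight : L₂ →ₐ[P.ResidueField] T).toRingHom with
        commutes' := fun a => ?_ }⟩⟩
  show Ideal.Quotient.mk M ((1 : L₁) ⊗ₜ[P.ResidueField] algebraMap A L₂ a) =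
    Ideal.Quotient.mk M (algebraMap A L₁ a ⊗ₜ[P.ResidueField] (1 : L₂))
  rw [IsScalarTower.algebraMap_apply A P.ResidueField L₁, IsScalarTower.algebraMap_apply A P.ResidueField L₂,
    Algebra.algebraMap_eq_smul_one (A := L₁), Algebra.algebraMap_eq_smul_one (A := L₂),
    TensorProduct.smul_tmul]

/-- A localisation at an element is a domain, by elements. -/
theorem isDomain_away_of {G : Type u} [CommRing G] [IsReduced G] {h : G} (hh : h ≠ 0)
    (hmul : ∀ a b, h * (a * b) = 0 → h * a = 0 ∨ h * b = 0) : IsDomain (Localization.Away h) := by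
  have hzero : ∀ a : G, algebraMap G (Localization.Away h) a = 0 ↔ h * a = 0 := by
    intro a
    refine ⟨fun ha => ?_, fun ha => ?_⟩
    · obtain ⟨⟨_, n, rfl⟩, hn⟩ := (IsLocalization.map_eq_zero_iff (Submonoid.powers h) (Localization.Away h) a).1 ha
      rcases Nat.eq_zero_or_pos n with rfl | hn0
      · simp only [pow_zero, one_mul] at hn
        rw [hn, mul_zero]
      · refine IsReduced.eq_zero _ ⟨n, ?_⟩
        obtain ⟨m, rfl⟩ := Nat.exists_eq_add_of_le hn0
        rw [mul_pow, pow_add (a := a), pow_one, ← mul_assoc, hn, zero_mul]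
    · exact (IsLocalization.map_eq_zero_iff (Submonoid.powers h) (Localization.Away h) a).2
        ⟨⟨h, Submonoid.mem_powers h⟩, ha⟩
  haveI : Nontrivial (Localization.Away h) := ⟨1, 0, fun e => by
    have := (hzero 1).1 (by rw [map_one]; exact e)
    rw [mul_one] at this
    exact hh this⟩
  haveI : NoZeroDivisors (Localization.Away h) := by
    refine ⟨fun {x y} hxy => ?_⟩
    obtain ⟨a, s, rfl⟩ := IsLocalization.exists_mk'_eq (Submonoid.powers h) x
    obtain ⟨b, t, rfl⟩ := IsLocalization.exists_mk'_eq (Submonoid.powers h) y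
    have hab : algebraMap G (Localization.Away h) (a * b) = 0 := by
      rw [map_mul, ← IsLocalization.mk'_spec (Localization.Away h) a s, ← IsLocalization.mk'_spec (Localization.Away h) b t,
        mul_mul_mul_comm, hxy, zero_mul]
    rcases hmul a b ((hzero _).1 hab) with ha | hb
    · exact Or.inl (IsLocalization.mk'_eq_zero_iff a s |>.2 ⟨⟨h, Submonoid.mem_powers h⟩, ha⟩)
    · exact Or.inr (IsLocalization.mk'_eq_zero_iff b t |>.2 ⟨⟨h, Submonoid.mem_powers h⟩, hb⟩)
  exact NoZeroDivisors.to_isDomain _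

variable {R B : Type u} [CommRing R] [CommRing B] [Algebra R B] [Algebra.Smooth R B]

set_option maxHeartbeats 1600000 in
/-- After an étale neighbourhood of the base, there is a neighbourhood of a given point with
geometrically integral fibres. -/
theorem exists_geomIntNhd (n : ℕ) [Algebra (MvPolynomial (Fin n) R) B] [IsScalarTower R (MvPolynomial (Fin n) R) B]
    [Algebra.Etale (MvPolynomial (Fin n) R) B] (p : Ideal R) [p.IsPrime] (y : Ideal B) [y.IsPrime] [hyp : y.LiesOver p]
    (hprim : letI : Algebra p.ResidueField y.ResidueField :=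
        (Ideal.ResidueField.mapₐ p y (Algebra.ofId R B) hyp.over).toRingHom.toAlgebra
      separableClosure p.ResidueField y.ResidueField = ⊥) :
    ∃ (R' : Type u) (_ : CommRing R') (_ : Algebra R R') (_ : Algebra.Etale R R') (P : Ideal R') (_ : P.IsPrime)
      (hP : P.LiesOver p) (g : R') (h : R' ⊗[R] B) (jy : R' →ₐ[R] y.ResidueField),
      Function.Bijective (Ideal.ResidueField.mapₐ p P (Algebra.ofId R R') hP.over) ∧ g ∉ P ∧
      (∀ r, jy r = 0 ↔ r ∈ P) ∧ ptMap (IsScalarTower.toAlgHom R B y.ResidueField) (baseMap B jy h) ≠ 0 ∧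
      ∀ (L : Type u) [Field L] [Algebra R L] (jL : R' →ₐ[R] L), jL g ≠ 0 →
        IsDomain (Localization.Away (baseMap B jL h)) := by
  classical
  -- the geometrically integral component of the fibre through `y`
  obtain ⟨e0, he0, he0y, hdom⟩ : ∃ e : p.ResidueField ⊗[R] B, IsIdempotentElem e ∧
      ptMap (IsScalarTower.toAlgHom R B y.ResidueField)
        (baseMap B (Ideal.ResidueField.mapₐ p y (Algebra.ofId R B) hyp.over) e) = 1 ∧
      ∀ (K : Type u) [Field K] [Algebra p.ResidueField K],
        IsDomain (K ⊗[p.ResidueField] ((p.ResidueField ⊗[R] B) ⧸ Ideal.span {1 - e})) := by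
    letI : Algebra p.ResidueField y.ResidueField :=
      (Ideal.ResidueField.mapₐ p y (Algebra.ofId R B) hyp.over).toRingHom.toAlgebra
    haveI : IsScalarTower R p.ResidueField y.ResidueField :=
      IsScalarTower.of_algHom (Ideal.ResidueField.mapₐ p y (Algebra.ofId R B) hyp.over)
    let τ : p.ResidueField ⊗[R] B →ₐ[p.ResidueField] y.ResidueField :=
      Algebra.TensorProduct.lift (Algebra.ofId _ _) (IsScalarTower.toAlgHom R B y.ResidueField) fun _ _ => .all _ _
    haveI : IsNoetherianRing (p.ResidueField ⊗[R] B) := Algebra.FiniteType.isNoetherianRing p.ResidueField _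
    obtain ⟨e, he⟩ := exists_isCompIdem τ.toRingHom
    refine ⟨e, he.1, ?_, fun K _ _ => IsCompIdem.isDomain_tensor hprim τ he K⟩
    rw [← he.2.1]
    clear he
    induction e using TensorProduct.induction_on with
    | zero => simp
    | tmul a b =>
      show ptMap _ (_ ⊗ₜ b) = τ (a ⊗ₜ b)
      rw [ptMap_tmul]
      simp only [τ, Algebra.TensorProduct.lift_tmul]
      rfl
    | add u v hu hv => simp only [map_add, hu, hv]
  obtain ⟨c, hc, b0, hb0⟩ := Ideal.Fiber.exists_smul_eq_one_tmul p e0
  have hval : ∀ (L : Type u) [Field L] [Algebra R L] (j : p.ResidueField →ₐ[R] L) (τ : B →ₐ[R] L),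
      τ b0 ≠ 0 → ptMap τ (baseMap B j e0) = 1 := by
    intro L _ _ j τ hτ
    have h1 : algebraMap R L c * ptMap τ (baseMap B j e0) = τ b0 := by
      rw [← Algebra.smul_def, ← AlgHom.map_smul_of_tower, ← map_smul, hb0, baseMap_tmul, map_one, ptMap_tmul, one_mul]
    refine (IsIdempotentElem.iff_eq_zero_or_one.1 ((he0.map (baseMap B j)).map (ptMap τ))).resolve_left fun h0 => hτ ?_
    rw [← h1, h0, mul_zero]
  -- a separable point of that component
  let C := (p.ResidueField ⊗[R] B) ⧸ Ideal.span {1 - e0}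
  haveI : IsLocalization.Away e0 C := IsLocalization.away_of_isIdempotentElem he0
    (by rw [Ideal.Quotient.algebraMap_eq, Ideal.mk_ker]) Ideal.Quotient.mk_surjective
  haveI : Algebra.Etale (p.ResidueField ⊗[R] B) C := Algebra.Etale.of_isLocalizationAway e0
  haveI : Algebra.Smooth p.ResidueField C := Algebra.Smooth.comp p.ResidueField (p.ResidueField ⊗[R] B) C
  haveI : Nontrivial C := by
    refine Ideal.Quotient.nontrivial_iff.2 fun htop => ?_
    obtain ⟨d, hd⟩ := Ideal.mem_span_singleton'.1 (htop ▸ Submodule.mem_top : (1 : p.ResidueField ⊗[R] B) ∈ _)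
    have : e0 = 0 := by linear_combination (-e0) * hd - d * he0.eq
    rw [this, map_zero, map_zero] at he0y
    exact zero_ne_one he0y
  obtain ⟨k₁, _, _, hfin, hsep, ⟨fC⟩⟩ := exists_separable_point (k := p.ResidueField) C
  haveI := hfin
  haveI := hsep
  letI : Algebra R k₁ := ((algebraMap p.ResidueField k₁).comp (algebraMap R p.ResidueField)).toAlgebra
  haveI : IsScalarTower R p.ResidueField k₁ := IsScalarTower.of_algebraMap_eq fun _ => rfl
  let f : B →ₐ[R] k₁ := ((fC.comp (Ideal.Quotient.mkₐ p.ResidueField (Ideal.span {1 - e0}))).restrictScalars R).comp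
    Algebra.TensorProduct.includeRight
  have hfb0 : f b0 ≠ 0 := by
    show fC (Ideal.Quotient.mk _ ((1 : p.ResidueField) ⊗ₜ b0)) ≠ 0
    rw [← hb0, ← algebraMap_smul p.ResidueField c e0, ← Ideal.Quotient.mkₐ_eq_mk p.ResidueField, map_smul, map_smul,
      show Ideal.Quotient.mkₐ p.ResidueField (Ideal.span {1 - e0}) e0 = 1 from
        (Ideal.Quotient.eq.2 (Ideal.mem_span_singleton'.2 ⟨-1, by ring⟩)).trans (map_one _), map_one,
      ← Algebra.algebraMap_eq_smul_one]
    exact fun h => hc (Ideal.algebraMap_residueField_eq_zero.1 ((map_eq_zero_iff _ (RingHom.injective _)).1 h))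
  obtain ⟨R₁, _, _, _, σ₁, π, hπ⟩ := exists_etale_quasiSection n p k₁ f
  let p₁ : Ideal R₁ := RingHom.ker π
  haveI : p₁.IsPrime := RingHom.ker_isPrime π
  haveI : p₁.LiesOver p := ⟨by
    ext r
    show r ∈ p ↔ π (algebraMap R R₁ r) = 0
    rw [AlgHom.commutes, IsScalarTower.algebraMap_apply R p.ResidueField k₁, map_eq_zero_iff _ (RingHom.injective _),
      Ideal.algebraMap_residueField_eq_zero]⟩
  -- the étale neighbourhood of the base
  obtain ⟨R', _, _, _, P, _, hP, e, he, P', _, hP'P, hP'q, heP', hbij, hfin', huniq⟩ :=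
    Algebra.exists_etale_isIdempotentElem_forall_liesOver_eq p p₁
  let S := Localization.Away e
  haveI : Module.Finite R' S := hfin'
  haveI : Algebra.Etale (R' ⊗[R] R₁) S := Algebra.Etale.of_isLocalizationAway e
  haveI : Algebra.Etale R' S := Algebra.Etale.comp R' (R' ⊗[R] R₁) S
  let σS : B →ₐ[R] S := ((IsScalarTower.toAlgHom R (R' ⊗[R] R₁) S).comp
    Algebra.TensorProduct.includeRight).comp σ₁
  -- all points of `S` over `P` lie in the component
  have hover : ∀ (L : Type u) [Field L] [Algebra R L] (φ : S →ₐ[R] L),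
      (∀ r, φ (algebraMap R' S r) = 0 ↔ r ∈ P) → φ (σS b0) ≠ 0 ∧ Nonempty (p.ResidueField →ₐ[R] L) := by
    intro L _ _ φ hφ
    constructor
    · let P'' : Ideal (R' ⊗[R] R₁) := RingHom.ker (φ.toRingHom.comp (algebraMap (R' ⊗[R] R₁) S))
      haveI : P''.IsPrime := RingHom.ker_isPrime _
      haveI : P''.LiesOver P := ⟨by
        ext r
        rw [← hφ r, IsScalarTower.algebraMap_apply R' (R' ⊗[R] R₁) S]
        rfl⟩
      have heP'' : e ∉ P'' := fun hmem => ((IsLocalization.Away.algebraMap_isUnit e).map φ).ne_zero hmem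
      have hPP := huniq P'' inferInstance inferInstance heP''
      intro h0
      refine hfb0 ?_
      have h1 : σ₁ b0 ∈ p₁ := by
        rw [← hP'q, ← hPP]
        exact h0
      rw [← hπ]
      exact h1
    · refine ⟨Ideal.ResidueField.liftₐ p (Algebra.ofId R L) (fun r hr => ?_) fun r hr => ?_⟩
      · show algebraMap R L r = 0
        rw [← φ.commutes, IsScalarTower.algebraMap_apply R R' S, hφ]
        exact (SetLike.ext_iff.1 hP.over r).1 hr
      · refine isUnit_iff_ne_zero.2 fun h0 => hr ?_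
        replace h0 : algebraMap R L r = 0 := h0
        rw [← φ.commutes, IsScalarTower.algebraMap_apply R R' S, hφ] at h0
        exact (SetLike.ext_iff.1 hP.over r).2 h0
  have hsame : ∀ (L : Type u) [Field L] [Algebra R L] (j : p.ResidueField →ₐ[R] L) (τ₁ τ₂ : B →ₐ[R] L),
      τ₁ b0 ≠ 0 → ptMap τ₂ (baseMap B j e0) = 1 → SameComp τ₁ τ₂ :=
    fun L _ _ j τ₁ τ₂ h₁ h₂ => ⟨_, isCompIdem_baseMap_of_corner he0 hdom j τ₁ (hval L j τ₁ h₁), h₂⟩
  -- the open component of the section over `S`
  let E := compSet (ptMap σS)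
  have hEopen : IsOpen E := compSet_isOpen (ptMap σS)
  -- agreement of the two sections
  let T := S ⊗[R'] S
  let ν : S ⊗[R] B →ₐ[R] T := Algebra.TensorProduct.lift
    ((Algebra.TensorProduct.includeLeft : S →ₐ[R'] T).restrictScalars R)
    (((Algebra.TensorProduct.includeRight : S →ₐ[R'] T).restrictScalars R).comp σS) fun _ _ => .all _ _
  let Bad : Set (PrimeSpectrum T) := (PrimeSpectrum.comap ν.toRingHom ⁻¹' E)ᶜ
  have hBadIm : IsClosed (PrimeSpectrum.comap (algebraMap R' T) '' Bad) := by
    refine PrimeSpectrum.isClosedMap_comap_of_isIntegral (algebraMap R' T) ?_ _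
      ((hEopen.preimage (PrimeSpectrum.continuous_comap _)).isClosed_compl)
    exact algebraMap_isIntegral_iff.2 inferInstance
  have hagree : ∀ (t : PrimeSpectrum T) (L : Type u) [Field L] [Algebra R L] (φ : T →ₐ[R] L),
      (∀ x, φ x = 0 ↔ x ∈ t.asIdeal) → (t ∉ Bad ↔
        SameComp ((φ.comp ((Algebra.TensorProduct.includeLeft : S →ₐ[R'] T).restrictScalars R)).comp σS)
          ((φ.comp ((Algebra.TensorProduct.includeRight : S →ₐ[R'] T).restrictScalars R)).comp σS)) := by
    intro t L _ _ φ hφ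
    rw [show t ∉ Bad ↔ PrimeSpectrum.comap ν.toRingHom t ∈ E from not_not]
    refine mem_compSet_ptMap_iff σS _ _ _ fun x => ?_
    rw [PrimeSpectrum.comap_asIdeal, Ideal.mem_comap]
    refine Iff.trans ?_ (hφ (ν x))
    rw [show Algebra.TensorProduct.lift (φ.comp _) ((φ.comp _).comp σS) (fun _ _ => .all _ _) x = φ (ν x) from ?_]
    rw [← AlgHom.comp_apply]
    congr 1
    refine Algebra.TensorProduct.ext' fun a b => ?_
    simp [ν]
  have hgood : (⟨P, ‹_›⟩ : PrimeSpectrum R') ∉ PrimeSpectrum.comap (algebraMap R' T) '' Bad := by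
    rintro ⟨t, htBad, ht⟩
    let L := t.asIdeal.ResidueField
    let φ : T →ₐ[R] L := IsScalarTower.toAlgHom R T L
    have hφP : ∀ r, φ (algebraMap R' T r) = 0 ↔ r ∈ P := fun r => by
      show algebraMap T L _ = 0 ↔ _
      rw [Ideal.algebraMap_residueField_eq_zero, ← Ideal.mem_comap,
        show t.asIdeal.comap (algebraMap R' T) = P from congrArg PrimeSpectrum.asIdeal ht]
    have h₁ := hover L (φ.comp ((Algebra.TensorProduct.includeLeft : S →ₐ[R'] T).restrictScalars R))
      fun r => by
        show φ ((Algebra.TensorProduct.includeLeft : S →ₐ[R'] T) (algebraMap R' S r)) = 0 ↔ _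
        rw [AlgHom.commutes]; exact hφP r
    have h₂ := hover L (φ.comp ((Algebra.TensorProduct.includeRight : S →ₐ[R'] T).restrictScalars R))
      fun r => by
        show φ ((Algebra.TensorProduct.includeRight : S →ₐ[R'] T) (algebraMap R' S r)) = 0 ↔ _
        rw [AlgHom.commutes]; exact hφP r
    obtain ⟨j⟩ := h₁.2
    exact (hagree t L φ fun x => Ideal.algebraMap_residueField_eq_zero).2
      (hsame L j _ _ h₁.1 (hval L j _ h₂.1)) htBad
  -- the open set in the base change
  let m : R' ⊗[R] B →ₐ[R] S ⊗[R] B := baseMap B (IsScalarTower.toAlgHom R R' S)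
  let U : Set (PrimeSpectrum (R' ⊗[R] B)) := PrimeSpectrum.comap m.toRingHom '' E
  have hUopen : IsOpen U := by
    let Ψ : (R' ⊗[R] B) ⊗[R'] S →+* S ⊗[R] B :=
      ((Algebra.TensorProduct.comm R' (R' ⊗[R] B) S).toRingEquiv.trans
        (Algebra.TensorProduct.cancelBaseChange R R' R' S B).toRingEquiv).toRingHom
    have hΨ : Function.Bijective Ψ := RingEquiv.bijective _
    have hm : m.toRingHom = Ψ.comp (algebraMap (R' ⊗[R] B) ((R' ⊗[R] B) ⊗[R'] S)) := by
      refine Algebra.TensorProduct.ringHom_ext (RingHom.ext fun r => ?_) (RingHom.ext fun b => ?_)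
      · show algebraMap R' S r ⊗ₜ[R] (1 : B) =
          Algebra.TensorProduct.cancelBaseChange R R' R' S B ((1 : S) ⊗ₜ[R'] (r ⊗ₜ[R] (1 : B)))
        rw [Algebra.TensorProduct.cancelBaseChange_tmul, Algebra.smul_def, mul_one]
      · show algebraMap R' S 1 ⊗ₜ[R] b =
          Algebra.TensorProduct.cancelBaseChange R R' R' S B ((1 : S) ⊗ₜ[R'] ((1 : R') ⊗ₜ[R] b))
        rw [Algebra.TensorProduct.cancelBaseChange_tmul, one_smul, map_one]
    have hcomp : U = PrimeSpectrum.comap (algebraMap (R' ⊗[R] B) ((R' ⊗[R] B) ⊗[R'] S)) ''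
        (PrimeSpectrum.comap Ψ '' E) := by
      rw [Set.image_image]
      refine Set.image_congr' fun x => ?_
      rw [hm, PrimeSpectrum.comap_comp_apply]
    rw [hcomp]
    exact PrimeSpectrum.isOpenMap_comap_of_hasGoingDown_of_finitePresentation _
      ((PrimeSpectrum.isHomeomorph_comap_of_bijective hΨ).isOpenMap _ hEopen)
  -- the point `y'`
  let ιP : p.ResidueField ≃ₐ[R] P.ResidueField :=
    AlgEquiv.ofBijective (Ideal.ResidueField.mapₐ p P (Algebra.ofId R R') hP.over) hbij
  let jy : R' →ₐ[R] y.ResidueField := ((Ideal.ResidueField.mapₐ p y (Algebra.ofId R B) hyp.over).comp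
    ιP.symm.toAlgHom).comp (IsScalarTower.toAlgHom R R' P.ResidueField)
  have hjy : ∀ r, jy r = 0 ↔ r ∈ P := fun r => by
    show Ideal.ResidueField.mapₐ p y (Algebra.ofId R B) hyp.over (ιP.symm (algebraMap R' P.ResidueField r)) = 0 ↔ _
    rw [map_eq_zero_iff (Ideal.ResidueField.mapₐ p y (Algebra.ofId R B) hyp.over) (RingHom.injective (Ideal.ResidueField.mapₐ p y (Algebra.ofId R B) hyp.over).toRingHom),
      map_eq_zero_iff _ ιP.symm.injective, Ideal.algebraMap_residueField_eq_zero]
  let τy : B →ₐ[R] y.ResidueField := IsScalarTower.toAlgHom R B y.ResidueField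
  let evy : R' ⊗[R] B →ₐ[R] y.ResidueField := Algebra.TensorProduct.lift jy τy fun _ _ => .all _ _
  let y' : PrimeSpectrum (R' ⊗[R] B) := ⟨RingHom.ker evy, RingHom.ker_isPrime _⟩
  haveI hPS : (P'.map (algebraMap (R' ⊗[R] R₁) S)).IsPrime :=
    IsLocalization.isPrime_of_isPrime_disjoint (Submonoid.powers e) S P' ‹_›
      ((Ideal.disjoint_powers_iff_notMem_of_isPrime _).2 heP')
  let PS := P'.map (algebraMap (R' ⊗[R] R₁) S)
  have hPSc : PS.comap (algebraMap R' S) = P := by
    rw [IsScalarTower.algebraMap_eq R' (R' ⊗[R] R₁) S, ← Ideal.comap_comap]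
    exact (congrArg (Ideal.comap (algebraMap R' (R' ⊗[R] R₁)))
      (IsLocalization.under_map_of_isPrime_disjoint (Submonoid.powers e) S ‹P'.IsPrime›
        ((Ideal.disjoint_powers_iff_notMem_of_isPrime _).2 heP'))).trans hP'P.over.symm
  have hy'U : y' ∈ U := by
    letI : Algebra R' y.ResidueField := jy.toRingHom.toAlgebra
    obtain ⟨L, _, _, ⟨i₁⟩, ⟨i₂⟩⟩ := exists_common_field (A := R') PS.ResidueField y.ResidueField P
      (fun r => by
        rw [IsScalarTower.algebraMap_apply R' S PS.ResidueField, Ideal.algebraMap_residueField_eq_zero,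
          ← Ideal.mem_comap, hPSc])
      hjy
    letI : Algebra R L := ((algebraMap R' L).comp (algebraMap R R')).toAlgebra
    haveI : IsScalarTower R R' L := IsScalarTower.of_algebraMap_eq fun _ => rfl
    haveI : IsScalarTower R R' y.ResidueField := IsScalarTower.of_algebraMap_eq fun r => (jy.commutes r).symm
    let φ : S →ₐ[R] L := (i₁.restrictScalars R).comp (IsScalarTower.toAlgHom R S PS.ResidueField)
    let i : y.ResidueField →ₐ[R] L := i₂.restrictScalars R
    have hφP : ∀ r, φ (algebraMap R' S r) = 0 ↔ r ∈ P := fun r => by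
      show i₁ (algebraMap S PS.ResidueField (algebraMap R' S r)) = 0 ↔ _
      rw [map_eq_zero_iff i₁ i₁.toRingHom.injective, Ideal.algebraMap_residueField_eq_zero, ← Ideal.mem_comap, hPSc]
    obtain ⟨h₁, -⟩ := hover L φ hφP
    have hsc : SameComp (φ.comp σS) (i.comp τy) := by
      refine hsame L (i.comp (Ideal.ResidueField.mapₐ p y (Algebra.ofId R B) hyp.over)) _ _ h₁ ?_
      have hbb : ∀ x, baseMap B (i.comp (Ideal.ResidueField.mapₐ p y (Algebra.ofId R B) hyp.over)) x =
          baseMap B i (baseMap B (Ideal.ResidueField.mapₐ p y (Algebra.ofId R B) hyp.over) x) := fun x => by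
        induction x using TensorProduct.induction_on with
        | zero => simp
        | tmul s b => rfl
        | add u v hu hv => simp only [map_add, hu, hv]
      rw [hbb, ptMap_baseMap, he0y, map_one]
    let ev : S ⊗[R] B →ₐ[R] L := Algebra.TensorProduct.lift φ (i.comp τy) fun _ _ => .all _ _
    let w : PrimeSpectrum (S ⊗[R] B) := ⟨RingHom.ker ev, RingHom.ker_isPrime _⟩
    refine ⟨w, (mem_compSet_ptMap_iff σS φ (i.comp τy) w fun x => Iff.rfl).2 hsc, PrimeSpectrum.ext ?_⟩
    ext x
    show ev (m x) = 0 ↔ evy x = 0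
    have hcomp : ev.comp m = i.comp evy := by
      refine Algebra.TensorProduct.ext' fun r b => ?_
      show φ (algebraMap R' S r) * i (τy b) = i (jy r * τy b)
      rw [map_mul]
      congr 1
      show i₁ (algebraMap S PS.ResidueField (algebraMap R' S r)) = i₂ (algebraMap R' y.ResidueField r)
      rw [← IsScalarTower.algebraMap_apply R' S PS.ResidueField, AlgHom.commutes, AlgHom.commutes]
    rw [← AlgHom.comp_apply, hcomp, AlgHom.comp_apply, map_eq_zero_iff i i.toRingHom.injective]
  obtain ⟨_, ⟨_, ⟨h, rfl⟩, rfl⟩, hhy, hhU⟩ :=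
    PrimeSpectrum.isBasis_basic_opens.exists_subset_of_mem_open hy'U hUopen
  -- shrinking the base
  have hImOpen : IsOpen (PrimeSpectrum.comap (algebraMap R' (R' ⊗[R] B)) '' (PrimeSpectrum.basicOpen h : Set _)) :=
    PrimeSpectrum.isOpenMap_comap_of_hasGoingDown_of_finitePresentation _ (PrimeSpectrum.basicOpen h).isOpen
  have hPIm : (⟨P, ‹_›⟩ : PrimeSpectrum R') ∈
      PrimeSpectrum.comap (algebraMap R' (R' ⊗[R] B)) '' (PrimeSpectrum.basicOpen h : Set _) := by
    refine ⟨y', hhy, PrimeSpectrum.ext ?_⟩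
    ext r
    show evy (r ⊗ₜ 1) = 0 ↔ r ∈ P
    rw [Algebra.TensorProduct.lift_tmul, map_one, mul_one, hjy]
  obtain ⟨_, ⟨_, ⟨g, rfl⟩, rfl⟩, hgP, hgsub⟩ := PrimeSpectrum.isBasis_basic_opens.exists_subset_of_mem_open
    (Set.mem_inter hPIm hgood : (⟨P, ‹_›⟩ : PrimeSpectrum R') ∈ _ ∩ (_)ᶜ) (hImOpen.inter hBadIm.isOpen_compl)
  refine ⟨R', inferInstance, inferInstance, inferInstance, P, ‹_›, hP, g, h, jy, hbij, hgP, hjy, ?_, ?_⟩
  · rw [show ptMap (IsScalarTower.toAlgHom R B y.ResidueField) (baseMap B jy h) = evy h by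
      clear hhy hhU hImOpen hPIm hgsub
      induction h using TensorProduct.induction_on with
      | zero => simp
      | tmul r b => simp [evy, τy]
      | add u v hu hv => simp only [map_add, hu, hv]]
    exact hhy
  intro L _ _ jL hjL
  -- agreement over `L`
  letI : Algebra R' L := jL.toRingHom.toAlgebra
  haveI : IsScalarTower R R' L := IsScalarTower.of_algHom jL
  let q0 : PrimeSpectrum R' := ⟨RingHom.ker jL, RingHom.ker_isPrime _⟩
  obtain ⟨⟨z, hzh, hzq⟩, hnbad⟩ := hgsub (show q0 ∈ PrimeSpectrum.basicOpen g from hjL)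
  have hsec : ∀ (L' : Type u) [Field L'] [Algebra R L'] (φ₁ φ₂ : S →ₐ[R] L'),
      (∀ r, φ₁ (algebraMap R' S r) = φ₂ (algebraMap R' S r)) →
      (∀ r, φ₁ (algebraMap R' S r) = 0 ↔ r ∈ q0.asIdeal) → SameComp (φ₁.comp σS) (φ₂.comp σS) := by
    intro L' _ _ φ₁ φ₂ hcompat hker
    letI : Algebra R' L' := (φ₁.toRingHom.comp (algebraMap R' S)).toAlgebra
    let ψ : T →ₐ[R'] L' := Algebra.TensorProduct.lift { φ₁ with commutes' := fun r => rfl }
      { φ₂ with commutes' := fun r => (hcompat r).symm } fun _ _ => .all _ _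
    haveI : IsScalarTower R R' L' := IsScalarTower.of_algebraMap_eq fun r => by
      show algebraMap R L' r = φ₁ (algebraMap R' S (algebraMap R R' r))
      rw [← IsScalarTower.algebraMap_apply, AlgHom.commutes]
    let t : PrimeSpectrum T := ⟨RingHom.ker ψ, RingHom.ker_isPrime _⟩
    have ht : t ∉ Bad := fun htB => hnbad ⟨t, htB, PrimeSpectrum.ext (by
      ext r
      show ψ (algebraMap R' T r) = 0 ↔ r ∈ q0.asIdeal
      rw [AlgHom.commutes]
      exact hker r)⟩
    have := (hagree t L' (ψ.restrictScalars R) fun x => Iff.rfl).1 ht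
    have e₁ : (ψ.restrictScalars R).comp ((Algebra.TensorProduct.includeLeft : S →ₐ[R'] T).restrictScalars R) = φ₁ :=
      AlgHom.ext fun x => by
        show ψ (x ⊗ₜ 1) = φ₁ x
        rw [Algebra.TensorProduct.lift_tmul, map_one, mul_one]; rfl
    have e₂ : (ψ.restrictScalars R).comp ((Algebra.TensorProduct.includeRight : S →ₐ[R'] T).restrictScalars R) = φ₂ :=
      AlgHom.ext fun x => by
        show ψ (1 ⊗ₜ x) = φ₂ x
        rw [Algebra.TensorProduct.lift_tmul, map_one, one_mul]; rfl
    rwa [e₁, e₂] at this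
  -- a field where the point is realised
  haveI : q0.asIdeal.IsPrime := q0.2
  obtain ⟨w, hwE, hwz⟩ := hhU hzh
  have hwq : ∀ r, algebraMap R' S r ⊗ₜ[R] (1 : B) ∈ w.asIdeal ↔ r ∈ q0.asIdeal := fun r => by
    rw [← hzq, ← hwz]
    rfl
  let κw := w.asIdeal.ResidueField
  let φw : S →ₐ[R] κw := (IsScalarTower.toAlgHom R (S ⊗[R] B) κw).comp Algebra.TensorProduct.includeLeft
  letI : Algebra R' κw := (φw.toRingHom.comp (algebraMap R' S)).toAlgebra
  obtain ⟨L', _, _, ⟨i₁⟩, ⟨i₂⟩⟩ := exists_common_field (A := R') κw L q0.asIdeal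
    (fun r => by
      show algebraMap (S ⊗[R] B) κw (algebraMap R' S r ⊗ₜ 1) = 0 ↔ _
      rw [Ideal.algebraMap_residueField_eq_zero, hwq])
    (fun r => Iff.rfl)
  letI : Algebra R L' := ((algebraMap R' L').comp (algebraMap R R')).toAlgebra
  haveI : IsScalarTower R R' L' := IsScalarTower.of_algebraMap_eq fun _ => rfl
  haveI : IsScalarTower R R' κw := IsScalarTower.of_algebraMap_eq fun r => by
    show algebraMap R κw r = φw (algebraMap R' S (algebraMap R R' r))
    rw [← IsScalarTower.algebraMap_apply, AlgHom.commutes]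
  let φ : S →ₐ[R] L' := (i₁.restrictScalars R).comp φw
  let i : L →ₐ[R] L' := i₂.restrictScalars R
  let jL' : R' →ₐ[R] L' := IsScalarTower.toAlgHom R R' L'
  have hφR' : ∀ r, φ (algebraMap R' S r) = algebraMap R' L' r := fun r => i₁.commutes r
  have hq0' : ∀ r, algebraMap R' L' r = 0 ↔ r ∈ q0.asIdeal := fun r => by
    rw [← i₂.commutes, map_eq_zero_iff i₂ i₂.toRingHom.injective]
    rfl
  obtain ⟨eL, heL⟩ := exists_isCompIdem_ptMap (φ.comp σS)
  haveI : IsReduced (L' ⊗[R] B) := WC97.isReduced_of_algebraSmooth L' _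
  haveI : IsReduced (L ⊗[R] B) := WC97.isReduced_of_algebraSmooth L _
  let h' := baseMap B jL' h
  have hev : ∀ {L'' : Type u} [Field L''] [Algebra R L''] (k : L' →ₐ[R] L'') (τ : B →ₐ[R] L'') (x : R' ⊗[R] B),
      Algebra.TensorProduct.lift (k.comp jL') τ (fun _ _ => .all _ _) x = ptMap τ (baseMap B k (baseMap B jL' x)) := by
    intro L'' _ _ k τ x
    induction x using TensorProduct.induction_on with
    | zero => simp
    | tmul r b => simp
    | add u v hu hv => simp only [map_add, hu, hv]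
  -- `h'` lives in the component
  have hh'e : h' * (1 - eL) = 0 := by
    refine (IsNilpotent.eq_zero (mem_nilradical.1 ?_))
    rw [nilradical_eq_sInf, Ideal.mem_sInf]
    intro Q hQ
    haveI : Q.IsPrime := hQ
    by_contra hnot
    have hhQ : h' ∉ Q := fun hh => hnot (Q.mul_mem_right _ hh)
    have heQ : (1 - eL) ∉ Q := fun hh => hnot (Q.mul_mem_left _ hh)
    let L'' := Q.ResidueField
    let ev' : L' ⊗[R] B →ₐ[R] L'' := IsScalarTower.toAlgHom R (L' ⊗[R] B) L''
    let k : L' →ₐ[R] L'' := ev'.comp Algebra.TensorProduct.includeLeft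
    let τ : B →ₐ[R] L'' := ev'.comp Algebra.TensorProduct.includeRight
    have hevQ : ∀ x, ptMap τ (baseMap B k x) = ev' x := fun x => by
      induction x using TensorProduct.induction_on with
      | zero => simp
      | tmul l b =>
        rw [baseMap_tmul, ptMap_tmul]
        show ev' (l ⊗ₜ 1) * ev' (1 ⊗ₜ b) = _
        rw [← map_mul, Algebra.TensorProduct.tmul_mul_tmul, mul_one, one_mul]
      | add u v hu hv => simp only [map_add, hu, hv]
    let evz : R' ⊗[R] B →ₐ[R] L'' := Algebra.TensorProduct.lift (k.comp jL') τ fun _ _ => .all _ _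
    let z' : PrimeSpectrum (R' ⊗[R] B) := ⟨RingHom.ker evz, RingHom.ker_isPrime _⟩
    have hz'h : z' ∈ PrimeSpectrum.basicOpen h := by
      show evz h ≠ 0
      rw [show evz h = ev' h' from (hev k τ h).trans (hevQ h')]
      exact fun hh => hhQ (Ideal.algebraMap_residueField_eq_zero.1 hh)
    obtain ⟨w', hw'E, hw'z⟩ := hhU hz'h
    haveI : z'.asIdeal.IsPrime := z'.2
    let κ' := w'.asIdeal.ResidueField
    letI : Algebra (R' ⊗[R] B) κ' := ((algebraMap (S ⊗[R] B) κ').comp m.toRingHom).toAlgebra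
    letI : Algebra (R' ⊗[R] B) L'' := evz.toRingHom.toAlgebra
    obtain ⟨M, _, _, ⟨a₁⟩, ⟨a₂⟩⟩ := exists_common_field (A := R' ⊗[R] B) κ' L'' z'.asIdeal
      (fun x => by
        show algebraMap (S ⊗[R] B) κ' (m x) = 0 ↔ _
        rw [Ideal.algebraMap_residueField_eq_zero, ← hw'z]
        rfl)
      (fun x => Iff.rfl)
    letI : Algebra R M := ((algebraMap (R' ⊗[R] B) M).comp (algebraMap R (R' ⊗[R] B))).toAlgebra
    haveI : IsScalarTower R (R' ⊗[R] B) M := IsScalarTower.of_algebraMap_eq fun _ => rfl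
    haveI : IsScalarTower R (R' ⊗[R] B) κ' := IsScalarTower.of_algebraMap_eq fun r => by
      show algebraMap R κ' r = algebraMap (S ⊗[R] B) κ' (m (algebraMap R _ r))
      rw [AlgHom.commutes, ← IsScalarTower.algebraMap_apply]
    haveI : IsScalarTower R (R' ⊗[R] B) L'' := IsScalarTower.of_algebraMap_eq fun r => (evz.commutes r).symm
    let b₁ : S ⊗[R] B →ₐ[R] M := (a₁.restrictScalars R).comp (IsScalarTower.toAlgHom R (S ⊗[R] B) κ')
    let b₂ : L'' →ₐ[R] M := a₂.restrictScalars R
    have hcompat : ∀ x, b₁ (m x) = b₂ (evz x) := fun x => (a₁.commutes x).trans (a₂.commutes x).symm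
    let φ' : S →ₐ[R] M := b₁.comp Algebra.TensorProduct.includeLeft
    let kM : L' →ₐ[R] M := b₂.comp k
    have hτ : b₁.comp Algebra.TensorProduct.includeRight = b₂.comp τ := AlgHom.ext fun b => by
      show b₁ ((1 : S) ⊗ₜ b) = b₂ (τ b)
      rw [show ((1 : S) ⊗ₜ[R] b) = m ((1 : R') ⊗ₜ b) by simp [m], hcompat]
      simp [evz]
    have hsc : SameComp (φ'.comp σS) (b₂.comp τ) := by
      rw [← hτ]
      refine (mem_compSet_ptMap_iff σS φ' _ w' fun x => ?_).1 hw'E
      rw [show Algebra.TensorProduct.lift φ' (b₁.comp Algebra.TensorProduct.includeRight) (fun _ _ => .all _ _) x = b₁ x from ?_]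
      · show a₁ (algebraMap (S ⊗[R] B) κ' x) = 0 ↔ _
        rw [map_eq_zero_iff a₁ a₁.toRingHom.injective, Ideal.algebraMap_residueField_eq_zero]
      · congr 1
        refine Algebra.TensorProduct.ext' fun s b => ?_
        rw [Algebra.TensorProduct.lift_tmul]
        show b₁ (s ⊗ₜ 1) * b₁ (1 ⊗ₜ b) = _
        rw [← map_mul, Algebra.TensorProduct.tmul_mul_tmul, mul_one, one_mul]
    have hR'M : ∀ r, φ' (algebraMap R' S r) = kM (algebraMap R' L' r) := fun r => by
      show b₁ (algebraMap R' S r ⊗ₜ 1) = b₂ (k (algebraMap R' L' r))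
      rw [show (algebraMap R' S r ⊗ₜ[R] (1 : B)) = m (r ⊗ₜ 1) by simp [m], hcompat]
      simp [evz, jL']
    have hsc' : SameComp ((kM.comp φ).comp σS) (φ'.comp σS) := hsec M (kM.comp φ) φ'
      (fun r => by show kM (φ _) = φ' _; rw [hR'M, hφR'])
      (fun r => by rw [AlgHom.comp_apply, hφR', map_eq_zero_iff kM kM.toRingHom.injective, hq0'])
    have he₁ : IsCompIdem (ptMap ((kM.comp φ).comp σS)).toRingHom (baseMap B kM eL) := by
      have := heL.baseMap_pt kM
      rwa [← AlgHom.comp_assoc] at this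
    obtain ⟨e₂, he₂⟩ := exists_isCompIdem_ptMap (φ'.comp σS)
    have heq : baseMap B kM eL = e₂ := by
      have h1 := hsc'.eval he₁
      have h2 := (hsec M φ' (kM.comp φ) (fun r => by show φ' _ = kM (φ _); rw [hR'M, hφR'])
        (fun r => by rw [hR'M, map_eq_zero_iff kM kM.toRingHom.injective, hq0'])).eval he₂
      rw [← he₂.2.2 _ he₁.1 h1, mul_comm, he₁.2.2 _ he₂.1 h2]
    have h3 := hsc.eval he₂
    rw [← heq] at h3
    have hbb : ∀ x, baseMap B kM x = baseMap B b₂ (baseMap B k x) := fun x => by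
      induction x using TensorProduct.induction_on with
      | zero => simp
      | tmul s b => rfl
      | add u v hu hv => simp only [map_add, hu, hv]
    rw [hbb, ptMap_baseMap, hevQ] at h3
    refine heQ (Ideal.algebraMap_residueField_eq_zero.1 ?_)
    show ev' (1 - eL) = 0
    rw [map_sub, map_one, b₂.toRingHom.injective (h3.trans (map_one b₂).symm), sub_self]
  -- conclusion
  have hh'0 : h' ≠ 0 := by
    intro h0
    have hmap : ∀ x, ptMap (((i₁.restrictScalars R).comp (IsScalarTower.toAlgHom R (S ⊗[R] B) κw)).comp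
        Algebra.TensorProduct.includeRight) (baseMap B jL' x) = i₁ (algebraMap (S ⊗[R] B) κw (m x)) := by
      intro x
      induction x using TensorProduct.induction_on with
      | zero => simp
      | tmul r b =>
        rw [baseMap_tmul, ptMap_tmul]
        show algebraMap R' L' r * i₁ (algebraMap (S ⊗[R] B) κw (1 ⊗ₜ b)) = i₁ (algebraMap (S ⊗[R] B) κw (algebraMap R' S r ⊗ₜ b))
        rw [← hφR']
        show i₁ (algebraMap (S ⊗[R] B) κw (algebraMap R' S r ⊗ₜ 1)) * _ = _
        rw [← map_mul, ← map_mul, Algebra.TensorProduct.tmul_mul_tmul, mul_one, one_mul]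
      | add u v hu hv => simp only [map_add, hu, hv]
    replace hmap := hmap h
    rw [show baseMap B jL' h = h' from rfl] at hmap
    rw [h0, map_zero, eq_comm, map_eq_zero_iff i₁ i₁.toRingHom.injective, Ideal.algebraMap_residueField_eq_zero] at hmap
    exact hzh (show h ∈ z.asIdeal by rw [← hwz]; exact hmap)
  have hi : Function.Injective (baseMap B i) :=
    Module.Flat.rTensor_preserves_injective_linearMap (M := B) i.toLinearMap i.toRingHom.injective
  have hhi : baseMap B i (baseMap B jL h) = h' := by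
    have hj : i.comp jL = jL' := AlgHom.ext fun r => i₂.commutes r
    show _ = baseMap B jL' h
    rw [← hj]
    have hbb : ∀ x, baseMap B i (baseMap B jL x) = baseMap B (i.comp jL) x := fun x => by
      induction x using TensorProduct.induction_on with
      | zero => simp
      | tmul s b => rfl
      | add u v hu hv => simp only [map_add, hu, hv]
    exact hbb h
  refine isDomain_away_of (fun h0 => hh'0 (by rw [← hhi, h0, map_zero])) fun a b hab => ?_
  have hab' : h' * (baseMap B i a * baseMap B i b) = 0 := by rw [← hhi, ← map_mul, ← map_mul, hab, map_zero]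
  haveI := heL.isDomain_corner (k := L')
  let πC := Ideal.Quotient.mk (Ideal.span {1 - eL})
  have hker : ∀ x, πC x = 0 → h' * x = 0 := fun x hx => by
    obtain ⟨c, rfl⟩ := Ideal.mem_span_singleton'.1 (Ideal.Quotient.eq_zero_iff_mem.1 hx)
    rw [mul_left_comm, hh'e, mul_zero]
  have hne : πC h' ≠ 0 := fun h0 => hh'0 (IsReduced.eq_zero _ ⟨2, by rw [pow_two]; exact hker _ h0⟩)
  have h4 := congrArg πC hab'
  rw [map_mul, map_mul, map_zero, mul_eq_zero, mul_eq_zero] at h4
  rcases h4.resolve_left hne with ha | hb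
  · exact Or.inl (hi (by rw [map_mul, hhi, map_zero]; exact hker _ ha))
  · exact Or.inr (hi (by rw [map_mul, hhi, map_zero]; exact hker _ hb))

end Groth.Agent.RG29
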