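import Groth.Agent.RG29.ElemAssemble
import Groth.Agent.RG29.ElemSetup
import Groth.Agent.RG29.GeomIntNhd
import Groth.Agent.RedPts82.RelDim
import Mathlib

/-!
Existence of elementary dévissages of finite type modules on finite type algebras.
-/

set_option autoImplicit false

universe u

open TensorProduct CategoryTheory CategoryTheory.Limits AlgebraicGeometry

namespace Groth.Agent.RG29

/-- A ring map to an algebra all whose geometric fibres are domains has geometrically integral fibres. -/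
theorem geomIntegralFibres_of_forall {R' D : Type u} [CommRing R'] [CommRing D] [Algebra R' D]
    (h : ∀ (L : Type u) [Field L] [Algebra R' L], IsDomain (L ⊗[R'] D)) : FlatCA.GeomIntegralFibres R' D := by
  refine ⟨fun K _ x Z fst snd hZ => ?_⟩
  obtain ⟨φ, rfl⟩ := Spec.map_surjective x
  let := φ.hom.toAlgebra
  have := h K
  have : IsIntegral (Spec (CommRingCat.of (K ⊗[R'] D))) := (affine_isIntegral_iff _).mpr this
  have : IsIntegral (pullback (Spec.map (CommRingCat.ofHom (algebraMap R' K)))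
      (Spec.map (CommRingCat.ofHom (algebraMap R' D)))) :=
    IsIntegral.of_isIso (pullbackSpecIso R' K D).inv
  exact IsIntegral.of_isIso (IsPullback.isoPullback hZ.flip).inv

/-- The base change to a field of a principal localisation of a base change. -/
theorem isDomain_baseChange_away {R R' B L : Type u} [CommRing R] [CommRing R'] [CommRing B] [CommRing L]
    [Algebra R R'] [Algebra R B] [Algebra R' L] [Algebra R L] [IsScalarTower R R' L] (h : R' ⊗[R] B)
    (hdom : IsDomain (Localization.Away (baseMap B (IsScalarTower.toAlgHom R R' L) h))) :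
    IsDomain (L ⊗[R'] Localization.Away h) := by
  let jL := IsScalarTower.toAlgHom R R' L
  let M := Localization.Away (baseMap B jL h)
  let D := Localization.Away h
  let m : R' ⊗[R] B →ₐ[R'] L ⊗[R] B :=
    Algebra.TensorProduct.map (Algebra.ofId R' L) (AlgHom.id R B)
  have hm : ∀ x, m x = baseMap B jL x := fun x => by
    induction x using TensorProduct.induction_on with
    | zero => simp
    | tmul a b => rfl
    | add x y hx hy => simp only [map_add, hx, hy]
  let fD : D →ₐ[R'] M := IsLocalization.liftAlgHom (M := Submonoid.powers h)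
    (f := (IsScalarTower.toAlgHom R' (L ⊗[R] B) M).comp m) (fun x => by
      obtain ⟨_, k, rfl⟩ := x
      show IsUnit (algebraMap (L ⊗[R] B) M (m (h ^ k)))
      rw [map_pow, map_pow, hm]
      exact (IsLocalization.Away.algebraMap_isUnit _).pow k)
  let F : L ⊗[R'] D →ₐ[R'] M := Algebra.TensorProduct.lift (IsScalarTower.toAlgHom R' L M) fD fun _ _ => .all _ _
  let g0 : L ⊗[R] B →ₐ[R] L ⊗[R'] D := Algebra.TensorProduct.lift
    ((Algebra.TensorProduct.includeLeft : L →ₐ[R'] L ⊗[R'] D).restrictScalars R)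
    (((Algebra.TensorProduct.includeRight : D →ₐ[R'] L ⊗[R'] D).restrictScalars R).comp
      ((IsScalarTower.toAlgHom R (R' ⊗[R] B) D).comp Algebra.TensorProduct.includeRight)) fun _ _ => .all _ _
  have hg0 : ∀ x, g0 (m x) = (1 : L) ⊗ₜ[R'] algebraMap (R' ⊗[R] B) D x := fun x => by
    induction x using TensorProduct.induction_on with
    | zero => simp
    | tmul a b =>
      show g0 (algebraMap R' L a ⊗ₜ[R] b) = _
      rw [Algebra.TensorProduct.lift_tmul]
      show (algebraMap R' L a ⊗ₜ[R'] (1 : D)) * ((1 : L) ⊗ₜ[R'] algebraMap (R' ⊗[R] B) D (1 ⊗ₜ b)) = _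
      rw [Algebra.TensorProduct.tmul_mul_tmul, mul_one, one_mul, Algebra.algebraMap_eq_smul_one,
        TensorProduct.smul_tmul, Algebra.smul_def, IsScalarTower.algebraMap_apply R' (R' ⊗[R] B) D, ← map_mul,
        Algebra.TensorProduct.algebraMap_apply, Algebra.TensorProduct.tmul_mul_tmul, mul_one, one_mul]
      rfl
    | add x y hx hy => simp only [map_add, TensorProduct.tmul_add, hx, hy]
  let G : M →+* L ⊗[R'] D := IsLocalization.Away.lift (baseMap B jL h) (g := g0.toRingHom) (by
    show IsUnit (g0 (baseMap B jL h))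
    rw [← hm, hg0]
    exact (IsLocalization.Away.algebraMap_isUnit h).map (Algebra.TensorProduct.includeRight : D →ₐ[R'] L ⊗[R'] D))
  have hG : ∀ x, G (algebraMap (L ⊗[R] B) M x) = g0 x := IsLocalization.Away.lift_eq _ _
  have hGl : ∀ l, G (F (l ⊗ₜ 1)) = l ⊗ₜ 1 := fun l => by
    rw [Algebra.TensorProduct.lift_tmul, map_one, mul_one]
    show G (algebraMap L M l) = _
    rw [IsScalarTower.algebraMap_apply L (L ⊗[R] B) M, hG]
    show g0 (l ⊗ₜ[R] (1 : B)) = _
    rw [Algebra.TensorProduct.lift_tmul, map_one, mul_one]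
    rfl
  have hGd : ∀ d, G (F ((1 : L) ⊗ₜ d)) = (1 : L) ⊗ₜ d := by
    have heq : (G.comp F.toRingHom).comp (Algebra.TensorProduct.includeRight : D →ₐ[R'] L ⊗[R'] D).toRingHom =
        (Algebra.TensorProduct.includeRight : D →ₐ[R'] L ⊗[R'] D).toRingHom := by
      refine IsLocalization.ringHom_ext (Submonoid.powers h) (RingHom.ext fun x => ?_)
      show G (F ((1 : L) ⊗ₜ algebraMap (R' ⊗[R] B) D x)) = (1 : L) ⊗ₜ algebraMap (R' ⊗[R] B) D x
      rw [Algebra.TensorProduct.lift_tmul, map_one, one_mul, ← hg0, ← hG]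
      congr 1
      exact IsLocalization.lift_eq _ x
    exact fun d => DFunLike.congr_fun heq d
  have hGF : ∀ x, G (F x) = x := fun x => by
    induction x using TensorProduct.induction_on with
    | zero => simp
    | tmul l d =>
      conv_lhs => rw [show l ⊗ₜ[R'] d = (l ⊗ₜ[R'] (1 : D)) * ((1 : L) ⊗ₜ[R'] d) by simp]
      rw [map_mul, map_mul, hGl, hGd]
      simp
    | add x y hx hy => simp only [map_add, hx, hy]
  haveI : IsDomain M := hdom
  haveI : Nontrivial (L ⊗[R'] D) := F.toRingHom.domain_nontrivial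
  exact Function.Injective.isDomain F.toRingHom (Function.LeftInverse.injective hGF)

set_option maxHeartbeats 3200000 in
theorem nonempty_elemDevissage {R S : Type u} [CommRing R] [CommRing S] [Algebra R S] [Algebra.FiniteType R S]
    (N : Type u) [AddCommGroup N] [Module S N] [Module R N] [IsScalarTower R S N] [Module.Finite S N]
    (p : Ideal R) [p.IsPrime] (q : Ideal S) [q.IsPrime] [q.LiesOver p] (n : ℕ)
    (x : PrimeSpectrum (p.Fiber S)) (hxq : x.asIdeal = FlatCA.fiberIdeal p q)
    (hx : x ∈ Module.support (p.Fiber S) (FlatCA.fiberMod p S N))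
    (hn : FlatMor.localDim (Module.support (p.Fiber S) (FlatCA.fiberMod p S N)) ⟨x, hx⟩ = n) :
    Nonempty (FlatCA.ElemDevissage R S N p q n) := by
  classical
  obtain ⟨J, hJ, hJN, hJq, Q, hQ, hdim⟩ := exists_quotient_point N p q n x hxq hx hn
  let Z := S ⧸ J
  let q0 : Ideal Z := q.map (Ideal.Quotient.mk J)
  haveI : q0.IsPrime := Ideal.map_isPrime_of_surjective Ideal.Quotient.mk_surjective (by rwa [Ideal.mk_ker])
  have hq0 : ∀ s, Ideal.Quotient.mk J s ∈ q0 ↔ s ∈ q := fun s => by
    rw [← Ideal.mem_comap, Ideal.comap_map_mk hJq]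
  haveI : q0.LiesOver p := ⟨by
    ext r
    show r ∈ p ↔ Ideal.Quotient.mk J (algebraMap R S r) ∈ q0
    rw [hq0]
    exact SetLike.ext_iff.1 (Ideal.over_def q p) r⟩
  have hQ0 : Q.asIdeal.comap (Algebra.TensorProduct.includeRight : Z →ₐ[R] p.Fiber Z).toRingHom = q0 := by
    ext z
    obtain ⟨s, rfl⟩ := Ideal.Quotient.mk_surjective z
    rw [hq0]
    exact hQ s
  obtain ⟨algP, _, _, hqf, hpt0⟩ := exists_quasiFiniteAt_pureTrans p q0 Q hQ0 n hdim
  let P := MvPolynomial (Fin n) R
  let y0 : Ideal P := q0.under P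
  haveI : Algebra.FiniteType P Z := Algebra.FiniteType.of_restrictScalars_finiteType R P Z
  haveI : Algebra.QuasiFiniteAt P q0 := hqf
  haveI : q0.LiesOver y0 := ⟨rfl⟩
  haveI : y0.LiesOver p := by assumption
  obtain ⟨B, _, _, hBet, y, _, hyy0, e, he, Q', _, hQ'y, hQ'q, heQ', hbij, hfin, huni⟩ :=
    Algebra.exists_etale_isIdempotentElem_forall_liesOver_eq y0 q0
  letI : Algebra R B := ((algebraMap P B).comp (algebraMap R P)).toAlgebra
  haveI : IsScalarTower R P B := IsScalarTower.of_algebraMap_eq fun _ => rfl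
  haveI : Algebra.Smooth R P := ⟨inferInstance, inferInstance⟩
  haveI : Algebra.Smooth R B := Algebra.Smooth.comp R P B
  haveI hyp : y.LiesOver p := Ideal.LiesOver.trans y y0 p
  -- purely transcendental residue field
  let ky := y.ResidueField
  let mB : y0.ResidueField ≃+* ky :=
    RingEquiv.ofBijective (Ideal.ResidueField.mapₐ y0 y (Algebra.ofId P B) hyy0.over).toRingHom hbij
  have hmB : ∀ a, mB (Ideal.ResidueField.mapₐ p y0 (Algebra.ofId R P) (Ideal.over_def y0 p) a) =
      Ideal.ResidueField.mapₐ p y (Algebra.ofId R B) hyp.over a := by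
    intro a
    refine DFunLike.congr_fun (Ideal.ResidueField.ringHom_ext (f := mB.toRingHom.comp
      (Ideal.ResidueField.mapₐ p y0 (Algebra.ofId R P) (Ideal.over_def y0 p)).toRingHom)
      (g := (Ideal.ResidueField.mapₐ p y (Algebra.ofId R B) hyp.over).toRingHom) (RingHom.ext fun r => ?_)) a
    show mB (Ideal.ResidueField.mapₐ p y0 (Algebra.ofId R P) _ (algebraMap R p.ResidueField r)) =
      Ideal.ResidueField.mapₐ p y (Algebra.ofId R B) _ (algebraMap R p.ResidueField r)
    rw [AlgHom.commutes, AlgHom.commutes, IsScalarTower.algebraMap_apply R P y0.ResidueField,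
      IsScalarTower.algebraMap_apply R B ky, IsScalarTower.algebraMap_apply R P B]
    show Ideal.ResidueField.mapₐ y0 y (Algebra.ofId P B) hyy0.over (algebraMap P y0.ResidueField (algebraMap R P r)) = _
    rw [AlgHom.commutes, IsScalarTower.algebraMap_apply P B ky]
  letI algpy0 : Algebra p.ResidueField y0.ResidueField :=
    (Ideal.ResidueField.mapₐ p y0 (Algebra.ofId R P) (Ideal.over_def y0 p)).toRingHom.toAlgebra
  letI algpy : Algebra p.ResidueField ky :=
    (Ideal.ResidueField.mapₐ p y (Algebra.ofId R B) hyp.over).toRingHom.toAlgebra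
  obtain ⟨ι, x0, hx0, hx0top⟩ := hpt0
  obtain ⟨hxy, hxytop⟩ := exists_basis_transfer (RingEquiv.refl p.ResidueField) mB hmB hx0 hx0top
  have hprim : separableClosure p.ResidueField ky = ⊥ := separableClosure_eq_bot_of_adjoin hxy.1 hxytop
  obtain ⟨R₁, _, _, _, P₁, _, hP₁, g, h, jy, hP₁bij, hgP₁, hjy, hhy, hdom⟩ := exists_geomIntNhd n p y hprim
  -- the base
  let Rg := Localization.Away g
  haveI : Algebra.Etale R₁ Rg := Algebra.Etale.of_isLocalizationAway g
  haveI : Algebra.Etale R Rg := Algebra.Etale.comp R R₁ Rg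
  have hdisj : Disjoint (Submonoid.powers g : Set R₁) (P₁ : Set R₁) :=
    (Ideal.disjoint_powers_iff_notMem_of_isPrime _).2 hgP₁
  let p' : Ideal Rg := P₁.map (algebraMap R₁ Rg)
  haveI : p'.IsPrime := IsLocalization.isPrime_of_isPrime_disjoint (Submonoid.powers g) Rg P₁ ‹_› hdisj
  have hp'c : p'.comap (algebraMap R₁ Rg) = P₁ :=
    IsLocalization.under_map_of_isPrime_disjoint (Submonoid.powers g) Rg ‹P₁.IsPrime› hdisj
  haveI hp'p : p'.LiesOver p := ⟨by
    rw [hP₁.over, Ideal.under_def, Ideal.under_def, IsScalarTower.algebraMap_eq R R₁ Rg, ← Ideal.comap_comap, hp'c]⟩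
  let jg : Rg →ₐ[R] ky := IsLocalization.liftAlgHom (M := Submonoid.powers g) (f := jy) (fun m => by
    obtain ⟨_, k, rfl⟩ := m
    exact (IsUnit.mk0 (jy (g ^ k)) fun h0 => hgP₁
      (Ideal.IsPrime.mem_of_pow_mem ‹_› k ((hjy _).1 h0))))
  have hjgA : ∀ r, jg (algebraMap R₁ Rg r) = jy r := fun r => IsLocalization.lift_eq _ r
  have hjg : ∀ r, jg r = 0 ↔ r ∈ p' := fun r => by
    obtain ⟨a, m, rfl⟩ := IsLocalization.exists_mk'_eq (Submonoid.powers g) r
    rw [IsLocalization.mk'_mem_iff, ← Ideal.mem_comap, hp'c, ← hjy, ← hjgA a, ← IsLocalization.mk'_spec Rg a m,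
      map_mul]
    refine ⟨fun h0 => by rw [h0, zero_mul], fun h0 => (mul_eq_zero.1 h0).resolve_right fun h1 => ?_⟩
    exact ((IsLocalization.map_units Rg m).map jg).ne_zero h1
  have hp'bij : Function.Bijective (Ideal.ResidueField.mapₐ p p' (Algebra.ofId R Rg) hp'p.over) := by
    refine bijective_mapₐ_of_quot p p' fun t => ?_
    obtain ⟨a, m, rfl⟩ := IsLocalization.exists_mk'_eq (Submonoid.powers g) t
    have hq : ∀ a₁ : R₁, ∃ c d : R, d ∉ p ∧ a₁ * algebraMap R R₁ d - algebraMap R R₁ c ∈ P₁ := fun a₁ => by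
      obtain ⟨v, hv⟩ := hP₁bij.2 (algebraMap R₁ P₁.ResidueField a₁)
      obtain ⟨c, d, hd, rfl⟩ := IsFractionRing.div_surjective (A := R ⧸ p) v
      obtain ⟨c, rfl⟩ := Ideal.Quotient.mk_surjective c
      obtain ⟨d, rfl⟩ := Ideal.Quotient.mk_surjective d
      have hd' : d ∉ p := fun hdp => nonZeroDivisors.ne_zero hd (Ideal.Quotient.eq_zero_iff_mem.2 hdp)
      refine ⟨c, d, hd', ?_⟩
      rw [Ideal.algebraMap_quotient_residueField_mk, Ideal.algebraMap_quotient_residueField_mk, map_div₀,
        AlgHom.commutes, AlgHom.commutes, eq_comm, eq_div_iff, IsScalarTower.algebraMap_apply R R₁ P₁.ResidueField,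
        IsScalarTower.algebraMap_apply R R₁ P₁.ResidueField, ← map_mul, ← sub_eq_zero, ← map_sub,
        Ideal.algebraMap_residueField_eq_zero] at hv
      · exact hv
      · rw [IsScalarTower.algebraMap_apply R R₁ P₁.ResidueField, ne_eq, Ideal.algebraMap_residueField_eq_zero]
        exact fun h0 => hd' ((SetLike.ext_iff.1 hP₁.over d).2 h0)
    obtain ⟨c₁, d₁, hd₁, h₁⟩ := hq a
    obtain ⟨c₂, d₂, hd₂, h₂⟩ := hq m
    have hc₂ : c₂ ∉ p := fun hc => by
      have hm : (m : R₁) ∉ P₁ := fun hm => Set.disjoint_left.1 hdisj m.2 hm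
      have h3 : (m : R₁) * algebraMap R R₁ d₂ ∈ P₁ := by
        simpa using P₁.add_mem h₂ ((SetLike.ext_iff.1 hP₁.over c₂).1 hc)
      exact (‹P₁.IsPrime›.mem_or_mem h3).elim hm fun h4 => hd₂ ((SetLike.ext_iff.1 hP₁.over d₂).2 h4)
    refine ⟨c₁ * d₂, d₁ * c₂, fun hmem => (‹p.IsPrime›.mem_or_mem hmem).elim hd₁ hc₂, ?_⟩
    have hmem : a * algebraMap R R₁ (d₁ * c₂) - m * algebraMap R R₁ (c₁ * d₂) ∈ P₁ := by
      rw [show a * algebraMap R R₁ (d₁ * c₂) - m * algebraMap R R₁ (c₁ * d₂) =
        (a * algebraMap R R₁ d₁ - algebraMap R R₁ c₁) * algebraMap R R₁ c₂ -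
        algebraMap R R₁ c₁ * (m * algebraMap R R₁ d₂ - algebraMap R R₁ c₂) by simp only [map_mul]; ring]
      exact P₁.sub_mem (P₁.mul_mem_right _ h₁) (P₁.mul_mem_left _ h₂)
    have hu := IsLocalization.map_units Rg m
    rw [← Ideal.mul_unit_mem_iff_mem p' hu, sub_mul, mul_right_comm, IsLocalization.mk'_spec]
    rw [← hp'c, Ideal.mem_comap] at hmem
    simp only [map_sub, map_mul, ← IsScalarTower.algebraMap_apply] at hmem
    simp only [map_mul]
    rwa [mul_comm (algebraMap R Rg c₁ * algebraMap R Rg d₂)]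
  -- the smooth algebra
  let hh : Rg ⊗[R] B := baseMap B (IsScalarTower.toAlgHom R R₁ Rg) h
  let D := Localization.Away hh
  letI : Algebra B D :=
    ((algebraMap (Rg ⊗[R] B) D).comp (Algebra.TensorProduct.includeRight : B →ₐ[R] Rg ⊗[R] B).toRingHom).toAlgebra
  haveI hDet : Algebra.Etale B D := RingHom.etale_algebraMap.1
    (RingHom.Etale.stableUnderComposition _ _ (etale_includeRight R Rg B)
      (RingHom.etale_algebraMap.2 (Algebra.Etale.of_isLocalizationAway hh)))
  let τy : B →ₐ[R] ky := IsScalarTower.toAlgHom R B ky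
  let τg : Rg ⊗[R] B →ₐ[R] ky := Algebra.TensorProduct.lift jg τy fun _ _ => .all _ _
  have hτg : τg hh ≠ 0 := by
    suffices hall : ∀ w, τg (baseMap B (IsScalarTower.toAlgHom R R₁ Rg) w) = ptMap τy (baseMap B jy w) from
      hall h ▸ hhy
    intro w
    induction w using TensorProduct.induction_on with
    | zero => simp
    | tmul a b =>
      rw [baseMap_tmul, baseMap_tmul, ptMap_tmul, Algebra.TensorProduct.lift_tmul]
      exact congrArg (· * τy b) (hjgA a)
    | add u v hu hv => simp only [map_add, hu, hv]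
  let evD : D →+* ky := IsLocalization.Away.lift hh (g := τg.toRingHom) (IsUnit.mk0 _ hτg)
  have hevD : ∀ w, evD (algebraMap (Rg ⊗[R] B) D w) = τg w := IsLocalization.Away.lift_eq _ _
  have hevB : ∀ b, evD (algebraMap B D b) = algebraMap B ky b := fun b => by
    refine (hevD _).trans ?_
    show τg ((1 : Rg) ⊗ₜ[R] b) = _
    rw [Algebra.TensorProduct.lift_tmul, map_one, one_mul]
    rfl
  have hevR : ∀ r, evD (algebraMap Rg D r) = jg r := fun r => by
    rw [IsScalarTower.algebraMap_apply Rg (Rg ⊗[R] B) D, hevD]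
    show τg (r ⊗ₜ[R] (1 : B)) = _
    rw [Algebra.TensorProduct.lift_tmul, map_one, mul_one]
  let yD : Ideal D := RingHom.ker evD
  haveI : yD.IsPrime := RingHom.ker_isPrime _
  haveI hyDp' : yD.LiesOver p' := ⟨by
    ext r
    show r ∈ p' ↔ evD (algebraMap Rg D r) = 0
    rw [hevR, hjg]⟩
  have hquot : ∀ v : ky, ∃ a b : B, algebraMap B ky b ≠ 0 ∧ v * algebraMap B ky b = algebraMap B ky a := fun v => by
    obtain ⟨a, b, hb, rfl⟩ := IsFractionRing.div_surjective (A := B ⧸ y) v
    obtain ⟨a, rfl⟩ := Ideal.Quotient.mk_surjective a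
    obtain ⟨b, rfl⟩ := Ideal.Quotient.mk_surjective b
    have hb' : algebraMap B ky b ≠ 0 := fun h0 =>
      nonZeroDivisors.ne_zero hb (Ideal.Quotient.eq_zero_iff_mem.2 (Ideal.algebraMap_residueField_eq_zero.1 h0))
    refine ⟨a, b, hb', ?_⟩
    rw [Ideal.algebraMap_quotient_residueField_mk, Ideal.algebraMap_quotient_residueField_mk, div_mul_cancel₀ _ hb']
  -- the residue field of `yD`
  let i1 : yD.ResidueField →+* ky := Ideal.ResidueField.lift yD evD le_rfl
    fun d hd => IsUnit.mk0 _ hd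
  have hi1 : ∀ d, i1 (algebraMap D yD.ResidueField d) = evD d := Ideal.ResidueField.lift_algebraMap _ _ _ _
  have hi1bij : Function.Bijective i1 := ⟨i1.injective, fun v => by
    obtain ⟨a, b, hb, hv⟩ := hquot v
    exact ⟨algebraMap D _ (algebraMap B D a) / algebraMap D _ (algebraMap B D b), by
      rw [map_div₀, hi1, hi1, hevB, hevB, ← hv, mul_div_assoc, div_self hb, mul_one]⟩⟩
  let eD := (RingEquiv.ofBijective i1 hi1bij).symm
  let e0 : p.ResidueField ≃+* p'.ResidueField :=
    RingEquiv.ofBijective (Ideal.ResidueField.mapₐ p p' (Algebra.ofId R Rg) hp'p.over).toRingHom hp'bij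
  have hptD : FlatCA.PurelyTranscendental p' yD := by
    letI : Algebra p'.ResidueField yD.ResidueField :=
      (Ideal.ResidueField.mapₐ p' yD (Algebra.ofId Rg D) hyDp'.over).toRingHom.toAlgebra
    obtain ⟨h1, h2⟩ := exists_basis_transfer e0 eD (fun a => by
      rw [RingEquiv.symm_apply_eq]
      refine (DFunLike.congr_fun (Ideal.ResidueField.ringHom_ext (f := (i1.comp
        (algebraMap p'.ResidueField yD.ResidueField)).comp e0.toRingHom) (g := algebraMap p.ResidueField ky)
        (RingHom.ext fun r => ?_)) a).symm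
      show i1 (Ideal.ResidueField.mapₐ p' yD (Algebra.ofId Rg D) _ (Ideal.ResidueField.mapₐ p p' (Algebra.ofId R Rg) _
        (algebraMap R p.ResidueField r))) = Ideal.ResidueField.mapₐ p y (Algebra.ofId R B) _ (algebraMap R p.ResidueField r)
      rw [AlgHom.commutes, AlgHom.commutes, IsScalarTower.algebraMap_apply R Rg p'.ResidueField, AlgHom.commutes,
        IsScalarTower.algebraMap_apply Rg D yD.ResidueField, hi1, hevR, AlgHom.commutes]) hxy hxytop
    exact ⟨ι, _, h1, h2⟩
  -- the finite algebra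
  let C₀ := Localization.Away e
  haveI : Module.Finite B C₀ := hfin
  let C := D ⊗[B] C₀
  let kQ := Q'.ResidueField
  let i : ky →ₐ[B] kQ := Ideal.ResidueField.mapₐ y Q' (Algebra.ofId B (B ⊗[P] Z)) hQ'y.over
  let iD : D →ₐ[B] kQ :=
    { i.toRingHom.comp evD with
      commutes' := fun b => by
        show i (evD (algebraMap B D b)) = _
        rw [hevB, AlgHom.commutes] }
  let evC₀ : C₀ →ₐ[B] kQ := IsLocalization.liftAlgHom (M := Submonoid.powers e)
    (f := IsScalarTower.toAlgHom B (B ⊗[P] Z) kQ) (fun m => by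
      obtain ⟨_, k, rfl⟩ := m
      exact IsUnit.mk0 (algebraMap (B ⊗[P] Z) kQ (e ^ k)) fun h0 => heQ'
        (Ideal.IsPrime.mem_of_pow_mem ‹_› k (Ideal.algebraMap_residueField_eq_zero.1 h0)))
  have hevC₀ : ∀ w, evC₀ (algebraMap (B ⊗[P] Z) C₀ w) = algebraMap (B ⊗[P] Z) kQ w := fun w =>
    IsLocalization.lift_eq _ w
  let evC : C →ₐ[B] kQ := Algebra.TensorProduct.lift iD evC₀ fun _ _ => .all _ _
  let ζ : Z →+* C := (Algebra.TensorProduct.includeRight : C₀ →ₐ[B] C).toRingHom.comp
    ((algebraMap (B ⊗[P] Z) C₀).comp (Algebra.TensorProduct.includeRight : Z →ₐ[P] B ⊗[P] Z).toRingHom)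
  have hζ : ζ.Etale := by
    refine RingHom.Etale.stableUnderComposition _ _ (RingHom.Etale.stableUnderComposition _ _
      (etale_includeRight P B Z) ?_) (etale_includeRight B D C₀)
    exact RingHom.etale_algebraMap.2 (Algebra.Etale.of_isLocalizationAway e)
  have hevζ : ∀ z, evC (ζ z) = algebraMap (B ⊗[P] Z) kQ ((1 : B) ⊗ₜ z) := fun z => by
    show evC ((1 : D) ⊗ₜ[B] _) = _
    rw [Algebra.TensorProduct.lift_tmul, map_one, one_mul]
    exact hevC₀ _
  have hevl : ∀ d, evC (algebraMap D C d) = i (evD d) := fun d => by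
    show evC (d ⊗ₜ[B] (1 : C₀)) = _
    rw [Algebra.TensorProduct.lift_tmul, map_one, mul_one]
    rfl
  have hcomp : ∀ r : R, ζ (Ideal.Quotient.mk J (algebraMap R S r)) =
      algebraMap D C (algebraMap Rg D (algebraMap R Rg r)) := fun r => by
    show (1 : D) ⊗ₜ[B] algebraMap (B ⊗[P] Z) C₀ ((1 : B) ⊗ₜ[P] algebraMap R Z r) =
      algebraMap Rg D (algebraMap R Rg r) ⊗ₜ[B] (1 : C₀)
    rw [IsScalarTower.algebraMap_apply R P Z,
      show (1 : B) ⊗ₜ[P] algebraMap P Z (algebraMap R P r) = algebraMap P (B ⊗[P] Z) (algebraMap R P r) from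
        (Algebra.TensorProduct.includeRight : Z →ₐ[P] B ⊗[P] Z).commutes _,
      IsScalarTower.algebraMap_apply P B (B ⊗[P] Z), ← IsScalarTower.algebraMap_apply B (B ⊗[P] Z) C₀,
      ← IsScalarTower.algebraMap_apply R P B, Algebra.algebraMap_eq_smul_one (A := C₀), ← TensorProduct.smul_tmul,
      Algebra.smul_def, mul_one]
    refine congrArg (· ⊗ₜ[B] (1 : C₀)) ?_
    show algebraMap (Rg ⊗[R] B) D ((1 : Rg) ⊗ₜ[R] algebraMap R B r) = _
    rw [IsScalarTower.algebraMap_apply Rg (Rg ⊗[R] B) D, ← IsScalarTower.algebraMap_apply R Rg (Rg ⊗[R] B),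
      ← Algebra.TensorProduct.includeRight_apply, AlgHom.commutes]
  let β : S →+* kQ := (algebraMap (B ⊗[P] Z) kQ).comp
    ((Algebra.TensorProduct.includeRight : Z →ₐ[P] B ⊗[P] Z).toRingHom.comp (Ideal.Quotient.mk J))
  have hβ : ∀ s, β s = 0 ↔ s ∈ q := fun s => by
    show algebraMap (B ⊗[P] Z) kQ _ = 0 ↔ _
    rw [Ideal.algebraMap_residueField_eq_zero, ← hq0, ← hQ'q]
    rfl
  let j0 : q.ResidueField →+* kQ := Ideal.ResidueField.lift q β (fun s hs => (hβ s).2 hs)
    fun s hs => IsUnit.mk0 _ fun h0 => hs ((hβ s).1 h0)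
  have hj0 : ∀ s, j0 (algebraMap S q.ResidueField s) = β s := Ideal.ResidueField.lift_algebraMap _ _ _ _
  let F := j0.fieldRange
  have hFZ : ∀ z : Z, algebraMap (B ⊗[P] Z) kQ ((1 : B) ⊗ₜ z) ∈ F := fun z => by
    obtain ⟨s, rfl⟩ := Ideal.Quotient.mk_surjective z
    exact ⟨_, hj0 s⟩
  have hFy : ∀ v : ky, i v ∈ F := fun v => by
    obtain ⟨w, rfl⟩ := mB.surjective v
    obtain ⟨a, b, -, rfl⟩ := IsFractionRing.div_surjective (A := P ⧸ y0) w
    obtain ⟨a, rfl⟩ := Ideal.Quotient.mk_surjective a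
    obtain ⟨b, rfl⟩ := Ideal.Quotient.mk_surjective b
    have hP : ∀ c : P, i (mB (algebraMap P y0.ResidueField c)) ∈ F := fun c => by
      show i (Ideal.ResidueField.mapₐ y0 y (Algebra.ofId P B) hyy0.over (algebraMap P y0.ResidueField c)) ∈ F
      rw [AlgHom.commutes, IsScalarTower.algebraMap_apply P B ky, AlgHom.commutes,
        IsScalarTower.algebraMap_apply B (B ⊗[P] Z) kQ, ← IsScalarTower.algebraMap_apply P B (B ⊗[P] Z),
        ← (Algebra.TensorProduct.includeRight : Z →ₐ[P] B ⊗[P] Z).commutes c]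
      exact hFZ _
    rw [Ideal.algebraMap_quotient_residueField_mk, Ideal.algebraMap_quotient_residueField_mk, map_div₀, map_div₀]
    exact div_mem (hP a) (hP b)
  have hFw : ∀ w, algebraMap (B ⊗[P] Z) kQ w ∈ F := fun w => by
    induction w using TensorProduct.induction_on with
    | zero => rw [map_zero]; exact zero_mem F
    | tmul b z =>
      rw [show b ⊗ₜ[P] z = algebraMap B (B ⊗[P] Z) b * ((1 : B) ⊗ₜ z) by
        simp [Algebra.TensorProduct.algebraMap_apply], map_mul, ← IsScalarTower.algebraMap_apply B (B ⊗[P] Z) kQ,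
        ← i.commutes]
      exact mul_mem (hFy _) (hFZ z)
    | add a b ha hb => rw [map_add]; exact add_mem ha hb
  have hFC₀ : ∀ c, evC₀ c ∈ F := fun c => by
    obtain ⟨w, m, rfl⟩ := IsLocalization.exists_mk'_eq (Submonoid.powers e) c
    have hm := (IsLocalization.map_units C₀ m).map evC₀
    have : evC₀ (IsLocalization.mk' C₀ w m) = algebraMap (B ⊗[P] Z) kQ w / algebraMap (B ⊗[P] Z) kQ m := by
      rw [eq_div_iff (hevC₀ m ▸ hm.ne_zero), ← hevC₀, ← hevC₀, ← map_mul, IsLocalization.mk'_spec]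
    rw [this]
    exact div_mem (hFw _) (hFw _)
  have hFC : ∀ c : C, evC c ∈ F := fun c => by
    induction c using TensorProduct.induction_on with
    | zero => rw [map_zero]; exact zero_mem F
    | tmul d c₀ =>
      rw [Algebra.TensorProduct.lift_tmul]
      exact mul_mem (hFy _) (hFC₀ c₀)
    | add a b ha hb => rw [map_add]; exact add_mem ha hb
  refine nonempty_elemDevissage_of_etale N p q n J hJ hJN (R' := Rg) (D := D) (C := C) p' ⟨inferInstance, hp'p, hp'bij⟩
    ζ hζ hcomp yD evC.toRingHom (fun s => ?_) (fun d => ?_) (fun c => ?_) (fun z₁ hz₁ hz₁y => ?_) hptD ?_ ?_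
  · show evC (ζ _) = 0 ↔ _
    rw [hevζ]
    exact hβ s
  · show evC (algebraMap D C d) = 0 ↔ evD d = 0
    rw [hevl]
    exact map_eq_zero_iff i i.toRingHom.injective
  · obtain ⟨w, hw⟩ := hFC c
    obtain ⟨a, b, hb, rfl⟩ := IsFractionRing.div_surjective (A := S ⧸ q) w
    obtain ⟨a, rfl⟩ := Ideal.Quotient.mk_surjective a
    obtain ⟨b, rfl⟩ := Ideal.Quotient.mk_surjective b
    have hb' : b ∉ q := fun hbq => nonZeroDivisors.ne_zero hb (Ideal.Quotient.eq_zero_iff_mem.2 hbq)
    refine ⟨a, b, hb', ?_⟩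
    rw [Ideal.algebraMap_quotient_residueField_mk, Ideal.algebraMap_quotient_residueField_mk, map_div₀, hj0, hj0] at hw
    show evC c * evC (ζ _) = evC (ζ _)
    rw [hevζ, hevζ]
    rw [← hw]
    exact div_mul_cancel₀ _ fun h0 => hb' ((hβ b).1 h0)
  · -- uniqueness
    let L := z₁.ResidueField
    let φ : C →+* L := algebraMap C L
    have hφy : ∀ d, φ (algebraMap D C d) = 0 ↔ evD d = 0 := fun d => by
      rw [Ideal.algebraMap_residueField_eq_zero, ← Ideal.mem_comap, hz₁y]
      rfl
    let ψ : B ⊗[P] Z →+* L := φ.comp ((Algebra.TensorProduct.includeRight : C₀ →ₐ[B] C).toRingHom.comp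
      (algebraMap (B ⊗[P] Z) C₀))
    have hBC : ∀ b, (Algebra.TensorProduct.includeRight : C₀ →ₐ[B] C)
        (algebraMap (B ⊗[P] Z) C₀ (algebraMap B (B ⊗[P] Z) b)) = algebraMap D C (algebraMap B D b) := fun b => by
      rw [← IsScalarTower.algebraMap_apply, AlgHom.commutes]
      rfl
    have hker : RingHom.ker ψ = Q' := by
      refine huni _ (RingHom.ker_isPrime ψ) ⟨?_⟩ fun he0 => ?_
      · ext b
        show b ∈ y ↔ φ ((Algebra.TensorProduct.includeRight : C₀ →ₐ[B] C)
          (algebraMap (B ⊗[P] Z) C₀ (algebraMap B (B ⊗[P] Z) b))) = 0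
        rw [hBC, hφy, hevB,
          Ideal.algebraMap_residueField_eq_zero]
      · exact ((IsLocalization.Away.algebraMap_isUnit (S := C₀) e).map
          (Algebra.TensorProduct.includeRight : C₀ →ₐ[B] C) |>.map φ).ne_zero he0
    let j : kQ →+* L := Ideal.ResidueField.lift Q' ψ hker.ge fun w hw =>
      IsUnit.mk0 _ fun h0 => hw (hker.le h0)
    have hj : ∀ w, j (algebraMap (B ⊗[P] Z) kQ w) = ψ w := Ideal.ResidueField.lift_algebraMap _ _ _ _
    have hjB : ∀ b, j (i (algebraMap B ky b)) = φ (algebraMap D C (algebraMap B D b)) := fun b => by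
      rw [AlgHom.commutes, IsScalarTower.algebraMap_apply B (B ⊗[P] Z) kQ, hj]
      exact congrArg φ (hBC b)
    have hjD : ∀ d, φ (algebraMap D C d) = j (i (evD d)) := fun d => by
      obtain ⟨a, b, hb, hab⟩ := hquot (evD d)
      have h0 : φ (algebraMap D C (d * algebraMap B D b - algebraMap B D a)) = 0 := by
        rw [hφy, map_sub, map_mul, hevB, hevB, hab, sub_self]
      rw [map_sub, map_mul, map_sub, map_mul, sub_eq_zero, ← hjB, ← hjB, ← hab, map_mul, map_mul] at h0
      exact mul_right_cancel₀ ((map_ne_zero j).2 ((map_ne_zero i).2 hb)) h0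
    have hjC₀ : ∀ c₀, φ ((Algebra.TensorProduct.includeRight : C₀ →ₐ[B] C) c₀) = j (evC₀ c₀) := by
      have heq : φ.comp (Algebra.TensorProduct.includeRight : C₀ →ₐ[B] C).toRingHom = j.comp evC₀.toRingHom := by
        refine IsLocalization.ringHom_ext (Submonoid.powers e) (RingHom.ext fun w => ?_)
        exact ((congrArg j (hevC₀ w)).trans (hj w)).symm
      exact DFunLike.congr_fun heq
    have hall : ∀ c, φ c = j (evC c) := fun c => by
      induction c using TensorProduct.induction_on with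
      | zero => simp
      | tmul d c₀ =>
        rw [show d ⊗ₜ[B] c₀ = algebraMap D C d * (Algebra.TensorProduct.includeRight : C₀ →ₐ[B] C) c₀ by
          show d ⊗ₜ[B] c₀ = (d ⊗ₜ[B] (1 : C₀)) * ((1 : D) ⊗ₜ[B] c₀)
          rw [Algebra.TensorProduct.tmul_mul_tmul, mul_one, one_mul], map_mul, map_mul, map_mul, hjD, hjC₀, hevl]
        congr 2
        show _ = evC ((1 : D) ⊗ₜ[B] c₀)
        rw [Algebra.TensorProduct.lift_tmul, map_one, one_mul]
      | add a b ha hb => simp only [map_add, ha, hb]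
    ext c
    show _ ↔ evC c = 0
    rw [← Ideal.algebraMap_residueField_eq_zero (I := z₁)]
    show φ c = 0 ↔ _
    rw [hall, map_eq_zero_iff j j.injective]
  · -- smoothness
    haveI h1 : Algebra.IsStandardSmoothOfRelativeDimension n R P := by
      have := RedPts82.mvPolynomial_relDim R (Fin n)
      rwa [Nat.card_fin] at this
    haveI h2 : Algebra.IsStandardSmoothOfRelativeDimension 0 P B :=
      Algebra.Etale.iff_isStandardSmoothOfRelativeDimension_zero.mp hBet
    haveI h3 : Algebra.IsStandardSmoothOfRelativeDimension (0 + n) R B :=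
      Algebra.IsStandardSmoothOfRelativeDimension.trans (n := n) (m := 0) R P B
    haveI h4 : Algebra.IsStandardSmoothOfRelativeDimension 0 (Rg ⊗[R] B) D :=
      Algebra.IsStandardSmoothOfRelativeDimension.localization_away hh
    have h5 : Algebra.IsStandardSmoothOfRelativeDimension (0 + (0 + n)) Rg D :=
      Algebra.IsStandardSmoothOfRelativeDimension.trans (n := 0 + n) (m := 0) Rg (Rg ⊗[R] B) D
    rw [zero_add, zero_add] at h5
    show SmoothOfRelativeDimension n (Spec.map (CommRingCat.ofHom (algebraMap Rg D)))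
    rw [HasRingHomProperty.Spec_iff (P := @SmoothOfRelativeDimension n)]
    exact RingHom.locally_of RingHom.isStandardSmoothOfRelativeDimension_respectsIso _
      ((RingHom.isStandardSmoothOfRelativeDimension_algebraMap n).2 h5)
  · -- geometrically integral fibres
    refine geomIntegralFibres_of_forall fun L _ _ => ?_
    letI : Algebra R L := ((algebraMap Rg L).comp (algebraMap R Rg)).toAlgebra
    haveI : IsScalarTower R Rg L := IsScalarTower.of_algebraMap_eq fun _ => rfl
    refine isDomain_baseChange_away hh ?_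
    let jL : R₁ →ₐ[R] L := (IsScalarTower.toAlgHom R Rg L).comp (IsScalarTower.toAlgHom R R₁ Rg)
    have hjLg : jL g ≠ 0 := ((IsLocalization.Away.algebraMap_isUnit (S := Rg) g).map (algebraMap Rg L)).ne_zero
    have heq : ∀ w, baseMap B (IsScalarTower.toAlgHom R Rg L) (baseMap B (IsScalarTower.toAlgHom R R₁ Rg) w) =
        baseMap B jL w := fun w => by
      induction w using TensorProduct.induction_on with
      | zero => simp
      | tmul a b => simp [jL]
      | add u v hu hv => simp only [map_add, hu, hv]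
    rw [heq h]
    exact hdom L jL hjLg

end Groth.Agent.RG29
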