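import Groth.Agent.Hensel20.PairEtale
import Groth.Prelude.Def_FlatCA
import Mathlib

/-!
Assembling an elementary dévissage from an étale algebra over a closed subscheme which is finite
over a smooth algebra over an étale neighbourhood of the base.
-/

set_option autoImplicit false

universe u

open TensorProduct

namespace Groth.Agent.RG29

/-- The residue field map is bijective as soon as the image of every element is a quotient of
images from the base. -/
theorem bijective_mapₐ_of_quot {R T : Type u} [CommRing R] [CommRing T] [Algebra R T] (p : Ideal R) [p.IsPrime]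
    (Q : Ideal T) [Q.IsPrime] [hQ : Q.LiesOver p]
    (h : ∀ t, ∃ a b : R, b ∉ p ∧ t * algebraMap R T b - algebraMap R T a ∈ Q) :
    Function.Bijective (Ideal.ResidueField.mapₐ p Q (Algebra.ofId R T) hQ.over) := by
  let m := Ideal.ResidueField.mapₐ p Q (Algebra.ofId R T) hQ.over
  refine ⟨RingHom.injective m.toRingHom, fun x => ?_⟩
  have hrange : ∀ t : T, algebraMap T Q.ResidueField t ∈ m.toRingHom.fieldRange := fun t => by
    obtain ⟨a, b, hb, hab⟩ := h t
    refine ⟨algebraMap R _ a / algebraMap R _ b, ?_⟩
    show m (_ / _) = _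
    have hb' : algebraMap R Q.ResidueField b ≠ 0 := by
      rw [IsScalarTower.algebraMap_apply R T Q.ResidueField, ne_eq, Ideal.algebraMap_residueField_eq_zero,
        ← Ideal.mem_comap]
      exact fun hc => hb ((SetLike.ext_iff.1 hQ.over b).2 hc)
    rw [map_div₀, AlgHom.commutes, AlgHom.commutes, div_eq_iff hb', IsScalarTower.algebraMap_apply R T Q.ResidueField,
      IsScalarTower.algebraMap_apply R T Q.ResidueField, ← map_mul, eq_comm, ← sub_eq_zero, ← map_sub,
      Ideal.algebraMap_residueField_eq_zero]
    exact hab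
  obtain ⟨a, b, -, rfl⟩ := IsFractionRing.div_surjective (A := T ⧸ Q) x
  obtain ⟨a, rfl⟩ := Ideal.Quotient.mk_surjective a
  obtain ⟨b, rfl⟩ := Ideal.Quotient.mk_surjective b
  exact div_mem (hrange a) (hrange b)

set_option maxHeartbeats 1600000 in
theorem nonempty_elemDevissage_of_etale {R S : Type u} [CommRing R] [CommRing S] [Algebra R S]
    (N : Type u) [AddCommGroup N] [Module S N] [Module.Finite S N] (p : Ideal R) [p.IsPrime] (q : Ideal S) [q.IsPrime]
    (n : ℕ) (J : Ideal S) (hJ : J.FG) (hJN : J ≤ Module.annihilator S N)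
    {R' D C : Type u} [CommRing R'] [CommRing D] [CommRing C] [Algebra R R'] [Algebra.Etale R R']
    [Algebra R' D] [Algebra D C] [Module.Finite D C]
    (p' : Ideal R') [p'.IsPrime] (hR : FlatCA.IsEtaleNhd R R' p p')
    (ζ : S ⧸ J →+* C) (hζ : ζ.Etale)
    (hcomp : ∀ r : R, ζ (Ideal.Quotient.mk J (algebraMap R S r)) = algebraMap D C (algebraMap R' D (algebraMap R R' r)))
    (y : Ideal D) [y.IsPrime] [y.LiesOver p'] {K : Type u} [Field K] (ev : C →+* K)
    (hq : ∀ s, ev (ζ (Ideal.Quotient.mk J s)) = 0 ↔ s ∈ q) (hy : ∀ d, ev (algebraMap D C d) = 0 ↔ d ∈ y)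
    (hres : ∀ c, ∃ a b : S, b ∉ q ∧ ev c * ev (ζ (Ideal.Quotient.mk J b)) = ev (ζ (Ideal.Quotient.mk J a)))
    (huniq : ∀ z₁ : Ideal C, z₁.IsPrime → z₁.comap (algebraMap D C) = y → z₁ = RingHom.ker ev)
    (hpt : FlatCA.PurelyTranscendental p' y) (hsm : FlatCA.SmoothRelDim n R' D)
    (hgi : FlatCA.GeomIntegralFibres R' D) : Nonempty (FlatCA.ElemDevissage R S N p q n) := by
  letI aRC : Algebra R C := (((algebraMap D C).comp (algebraMap R' D)).comp (algebraMap R R')).toAlgebra
  letI aR'C : Algebra R' C := ((algebraMap D C).comp (algebraMap R' D)).toAlgebra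
  haveI : IsScalarTower R R' C := IsScalarTower.of_algebraMap_eq fun _ => rfl
  haveI : IsScalarTower R' D C := IsScalarTower.of_algebraMap_eq fun _ => rfl
  letI aSC : Algebra S C := (ζ.comp (Ideal.Quotient.mk J)).toAlgebra
  haveI : IsScalarTower R S C := IsScalarTower.of_algebraMap_eq fun r => (hcomp r).symm
  -- the map from `S ⊗ R'`
  let A := S ⊗[R] R'
  let ψ : A →ₐ[S] C := Algebra.TensorProduct.lift (Algebra.ofId S C) (IsScalarTower.toAlgHom R R' C)
    fun _ _ => .all _ _
  letI aAC : Algebra A C := ψ.toRingHom.toAlgebra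
  haveI : IsScalarTower S A C := IsScalarTower.of_algHom ψ
  let I : Ideal A := J.map (algebraMap S A)
  have hJC : ∀ s ∈ J, algebraMap S C s = 0 := fun s hs => by
    show ζ (Ideal.Quotient.mk J s) = 0
    rw [Ideal.Quotient.eq_zero_iff_mem.2 hs, map_zero]
  have hI : I ≤ RingHom.ker (algebraMap A C) := by
    refine Ideal.map_le_iff_le_comap.2 fun s hs => ?_
    show algebraMap A C (algebraMap S A s) = 0
    rw [← IsScalarTower.algebraMap_apply]
    exact hJC s hs
  letI : Algebra (A ⧸ I) C := (Ideal.Quotient.lift I (algebraMap A C) hI).toAlgebra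
  haveI : IsScalarTower A (A ⧸ I) C :=
    IsScalarTower.of_algebraMap_eq (R := A) (S := A ⧸ I) (A := C) fun _ => rfl
  letI : Algebra (S ⧸ J) C := ζ.toAlgebra
  haveI : Algebra.Etale (S ⧸ J) C := hζ
  letI : Algebra (S ⧸ J) (A ⧸ I) := (Ideal.quotientMap I (algebraMap S A) Ideal.le_comap_map).toAlgebra
  haveI : IsScalarTower S (S ⧸ J) (A ⧸ I) := IsScalarTower.of_algebraMap_eq fun _ => rfl
  haveI : IsScalarTower (S ⧸ J) (A ⧸ I) C := IsScalarTower.of_algebraMap_eq fun z => by
    obtain ⟨s, rfl⟩ := Ideal.Quotient.mk_surjective z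
    show algebraMap S C s = algebraMap A C (algebraMap S A s)
    rw [← IsScalarTower.algebraMap_apply]
  haveI : Algebra.FormallyUnramified S (A ⧸ I) := Algebra.FormallyUnramified.comp S A (A ⧸ I)
  haveI : Algebra.FormallyUnramified (S ⧸ J) (A ⧸ I) := Algebra.FormallyUnramified.of_restrictScalars S (S ⧸ J) (A ⧸ I)
  haveI : Algebra.FiniteType S (A ⧸ I) := Algebra.FiniteType.trans (S := A) inferInstance inferInstance
  haveI : Algebra.FiniteType (S ⧸ J) (A ⧸ I) := Algebra.FiniteType.of_restrictScalars_finiteType S (S ⧸ J) (A ⧸ I)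
  haveI : Algebra.FormallyEtale (A ⧸ I) C :=
    Algebra.FormallyEtale.of_restrictScalars (R := S ⧸ J) (A := A ⧸ I) (B := C)
  haveI : Algebra.FinitePresentation (A ⧸ I) C :=
    Algebra.FinitePresentation.of_restrict_scalars_finitePresentation (S ⧸ J) (A ⧸ I) C
  haveI : Algebra.Etale (A ⧸ I) C := ⟨inferInstance, inferInstance⟩
  -- the étale lift
  obtain ⟨B₀, _, _, _, π, j, hπ, hj, hker, hEt⟩ := Groth.Agent.Hensel20.exists_presentation_lift (I := I) C
  let S' := Localization.Away j
  letI aSS' : Algebra S S' := ((algebraMap A S').comp (algebraMap S A)).toAlgebra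
  haveI : IsScalarTower S A S' := IsScalarTower.of_algebraMap_eq fun _ => rfl
  letI aRS' : Algebra R S' := ((algebraMap S S').comp (algebraMap R S)).toAlgebra
  haveI : IsScalarTower R A S' := IsScalarTower.of_algebraMap_eq fun r => by
    show algebraMap A S' (algebraMap S A (algebraMap R S r)) = _
    rw [← IsScalarTower.algebraMap_apply R S A]
  haveI : Algebra.Etale A S' := hEt S' j (IsLocalization.Away.algebraMap_isUnit j)
  haveI : Algebra.Etale S S' := Algebra.Etale.comp S A S'
  let π' : S' →ₐ[A] C := IsLocalization.liftAlgHom (M := Submonoid.powers j) (f := π) (fun m => by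
    obtain ⟨_, k, rfl⟩ := m
    simpa using hj.pow k)
  have hπ'eq : ∀ b, π' (algebraMap B₀ S' b) = π b := fun b => by
    simp [π', IsLocalization.liftAlgHom]
  letI aS'C : Algebra S' C := π'.toRingHom.toAlgebra
  haveI : IsScalarTower A S' C := IsScalarTower.of_algHom π'
  haveI : IsScalarTower S S' C := IsScalarTower.of_algebraMap_eq fun s => by
    rw [IsScalarTower.algebraMap_apply S A C, IsScalarTower.algebraMap_apply S A S',
      ← IsScalarTower.algebraMap_apply A S' C]
  have hsurj : Function.Surjective (algebraMap S' C) := fun c => by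
    obtain ⟨b, rfl⟩ := hπ c
    exact ⟨algebraMap B₀ S' b, hπ'eq b⟩
  have hkerS' : RingHom.ker (algebraMap S' C) = J.map (algebraMap S S') := by
    refine le_antisymm (fun t ht => ?_) (Ideal.map_le_iff_le_comap.2 fun s hs => ?_)
    · obtain ⟨b, m, rfl⟩ := IsLocalization.exists_mk'_eq (Submonoid.powers j) t
      have hb : π b = 0 := by
        rw [← hπ'eq, ← IsLocalization.mk'_spec S' b m, map_mul]
        rw [show π' (IsLocalization.mk' S' b m) = 0 from ht, zero_mul]
      rw [IsLocalization.mk'_mem_iff, IsScalarTower.algebraMap_eq S A S', ← Ideal.map_map]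
      have hmem := Ideal.mem_map_of_mem (algebraMap B₀ S') (hker b hb)
      rw [Ideal.map_map, ← IsScalarTower.algebraMap_eq] at hmem
      exact hmem
    · show algebraMap S' C (algebraMap S S' s) = 0
      rw [← IsScalarTower.algebraMap_apply]
      exact hJC s hs
  haveI : Algebra.FinitePresentation S' C :=
    Algebra.FinitePresentation.of_surjective (f := Algebra.ofId S' C) hsurj
      (show (RingHom.ker (algebraMap S' C)).FG from hkerS' ▸ hJ.map _)
  letI aR'S' : Algebra R' S' := ((algebraMap A S').comp
    (Algebra.TensorProduct.includeRight : R' →ₐ[R] A).toRingHom).toAlgebra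
  haveI : IsScalarTower R S S' := IsScalarTower.of_algebraMap_eq fun r => by
    rw [IsScalarTower.algebraMap_apply R A S', IsScalarTower.algebraMap_apply S A S', ← IsScalarTower.algebraMap_apply R S A]
  haveI : IsScalarTower R R' S' := IsScalarTower.of_algebraMap_eq fun r => by
    show _ = algebraMap A S' ((Algebra.TensorProduct.includeRight : R' →ₐ[R] A) (algebraMap R R' r))
    rw [AlgHom.commutes, IsScalarTower.algebraMap_apply R A S']
  haveI : IsScalarTower R' S' C := IsScalarTower.of_algebraMap_eq fun r => by
    show algebraMap R' C r = algebraMap S' C (algebraMap A S' ((1 : S) ⊗ₜ[R] r))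
    rw [← IsScalarTower.algebraMap_apply]
    show _ = ψ ((1 : S) ⊗ₜ[R] r)
    rw [Algebra.TensorProduct.lift_tmul, map_one, one_mul]
    rfl
  -- the points
  let z : Ideal C := RingHom.ker ev
  haveI : z.IsPrime := RingHom.ker_isPrime ev
  let q' : Ideal S' := z.comap (algebraMap S' C)
  haveI : q'.LiesOver q := ⟨by
    ext s
    show s ∈ q ↔ ev (algebraMap S' C (algebraMap S S' s)) = 0
    rw [← IsScalarTower.algebraMap_apply]
    exact (hq s).symm⟩
  haveI : z.LiesOver q' := ⟨rfl⟩
  haveI : z.LiesOver y := ⟨by ext d; exact (hy d).symm⟩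
  haveI : q'.LiesOver p' := ⟨by
    ext r
    show r ∈ p' ↔ ev (algebraMap S' C (algebraMap R' S' r)) = 0
    rw [← IsScalarTower.algebraMap_apply, IsScalarTower.algebraMap_apply R' D C, hy]
    exact SetLike.ext_iff.1 (Ideal.over_def y p') r⟩
  have hbij := bijective_mapₐ_of_quot q q' fun t => by
    obtain ⟨a, b, hb, hab⟩ := hres (algebraMap S' C t)
    refine ⟨a, b, hb, ?_⟩
    show ev (algebraMap S' C (t * algebraMap S S' b - algebraMap S S' a)) = 0
    rw [map_sub, map_mul, ← IsScalarTower.algebraMap_apply, ← IsScalarTower.algebraMap_apply, map_sub, map_mul]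
    exact sub_eq_zero.2 hab
  -- the module
  haveI : SMulCommClass S D C := ⟨fun s d c => by simp only [Algebra.smul_def]; ring⟩
  haveI : SMulCommClass S R' C := ⟨fun s d c => by simp only [Algebra.smul_def]; ring⟩
  haveI : IsScalarTower S S' (C ⊗[S] N) := IsScalarTower.of_algebraMap_smul fun s x => by
    induction x using TensorProduct.induction_on with
    | zero => simp
    | tmul c m => rw [TensorProduct.smul_tmul', TensorProduct.smul_tmul', algebraMap_smul]
    | add x y hx hy => simp only [smul_add, hx, hy]
  haveI : IsScalarTower D C (C ⊗[S] N) := IsScalarTower.of_algebraMap_smul fun s x => by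
    induction x using TensorProduct.induction_on with
    | zero => simp
    | tmul c m => rw [TensorProduct.smul_tmul', TensorProduct.smul_tmul', algebraMap_smul]
    | add x y hx hy => simp only [smul_add, hx, hy]
  haveI : IsScalarTower R' C (C ⊗[S] N) := IsScalarTower.of_algebraMap_smul fun s x => by
    induction x using TensorProduct.induction_on with
    | zero => simp
    | tmul c m => rw [TensorProduct.smul_tmul', TensorProduct.smul_tmul', algebraMap_smul]
    | add x y hx hy => simp only [smul_add, hx, hy]
  haveI : IsScalarTower R' D (C ⊗[S] N) := IsScalarTower.of_algebraMap_smul fun s x => by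
    induction x using TensorProduct.induction_on with
    | zero => simp
    | tmul c m => rw [TensorProduct.smul_tmul', TensorProduct.smul_tmul', algebraMap_smul]
    | add x y hx hy => simp only [smul_add, hx, hy]
  haveI : IsScalarTower S' C (C ⊗[S] N) := IsScalarTower.of_algebraMap_smul fun s x => by
    induction x using TensorProduct.induction_on with
    | zero => simp
    | tmul c m => rw [TensorProduct.smul_tmul', TensorProduct.smul_tmul', algebraMap_smul]
    | add x y hx hy => simp only [smul_add, hx, hy]
  let g : S' ⊗[S] N →ₗ[S'] C ⊗[S] N := TensorProduct.AlgebraTensorModule.map (Algebra.linearMap S' C) LinearMap.id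
  have hg : Function.Bijective g := by
    let l : S' →ₗ[S] C := (Algebra.linearMap S' C).restrictScalars S
    have hgl : ∀ x, g x = LinearMap.rTensor N l x := fun x => by
      induction x using TensorProduct.induction_on with
      | zero => simp
      | tmul c m => rfl
      | add x y hx hy => simp only [map_add, hx, hy]
    refine ⟨(injective_iff_map_eq_zero g).2 fun x hx => ?_, fun x => ?_⟩
    · rw [hgl] at hx
      obtain ⟨w, rfl⟩ := ((rTensor_exact N (LinearMap.exact_subtype_ker_map l) hsurj) x).1 hx
      clear hx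
      induction w using TensorProduct.induction_on with
      | zero => simp
      | tmul k m =>
        rw [LinearMap.rTensor_tmul]
        obtain ⟨k, hk⟩ := k
        show k ⊗ₜ[S] m = 0
        have hk' : k ∈ Ideal.span (algebraMap S S' '' J) := hkerS'.le hk
        clear hk
        induction hk' using Submodule.span_induction generalizing m with
        | mem k hk =>
          obtain ⟨s, hs, rfl⟩ := hk
          rw [Algebra.algebraMap_eq_smul_one, TensorProduct.smul_tmul,
            show s • m = 0 from Module.mem_annihilator.1 (hJN hs) m, TensorProduct.tmul_zero]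
        | zero => rw [TensorProduct.zero_tmul]
        | add a b _ _ ha hb => rw [TensorProduct.add_tmul, ha, hb, add_zero]
        | smul a b _ hb => rw [← TensorProduct.smul_tmul', hb, smul_zero]
      | add x y hx hy => rw [map_add, hx, hy, add_zero]
    · obtain ⟨w, rfl⟩ := LinearMap.rTensor_surjective N (g := l) hsurj x
      exact ⟨w, hgl w⟩
  refine ⟨{
    R' := R', S' := S', C := C, D := D, N' := C ⊗[S] N, G := C ⊗[S] N
    p' := p', q' := q', z := z, y := y
    etaleR := hR
    etaleS := ⟨inferInstance, inferInstance, hbij⟩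
    f := TensorProduct.mk S C N 1
    isBaseChange := IsBaseChange.of_equiv (LinearEquiv.ofBijective g hg) fun m => by simp [g]
    surjC := hsurj
    fpC := inferInstance
    iso := LinearEquiv.refl _ _
    finiteDC := inferInstance
    finiteG := inferInstance
    uniq := fun z₁ h₁ h => huniq z₁ h₁ h.over.symm
    pureTrans := hpt
    smooth := hsm
    geomInt := hgi }⟩

end Groth.Agent.RG29
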