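import Groth.Agent.RG29.ElemSetup
import Groth.Agent.RG29.ElemAssemble
import Groth.Agent.S6284
import Groth.Prelude.Def_FlatCA
import Mathlib

/-!
Basic facts for dévissages: étale neighbourhoods, points of pushouts, supports.
-/

set_option autoImplicit false

universe u

open TensorProduct

namespace Groth.Agent.RG29

theorem mapₐ_trans {R S T : Type u} [CommRing R] [CommRing S] [CommRing T] [Algebra R S] [Algebra S T] [Algebra R T]
    [IsScalarTower R S T] (p : Ideal R) (q : Ideal S) (r : Ideal T) [p.IsPrime] [q.IsPrime] [r.IsPrime]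
    [hqp : q.LiesOver p] [hrq : r.LiesOver q] [hrp : r.LiesOver p] (a : p.ResidueField) :
    Ideal.ResidueField.mapₐ q r (Algebra.ofId S T) hrq.over (Ideal.ResidueField.mapₐ p q (Algebra.ofId R S) hqp.over a) =
      Ideal.ResidueField.mapₐ p r (Algebra.ofId R T) hrp.over a := by
  refine DFunLike.congr_fun (Ideal.ResidueField.ringHom_ext
    (f := (Ideal.ResidueField.mapₐ q r (Algebra.ofId S T) hrq.over).toRingHom.comp
      (Ideal.ResidueField.mapₐ p q (Algebra.ofId R S) hqp.over).toRingHom)
    (g := (Ideal.ResidueField.mapₐ p r (Algebra.ofId R T) hrp.over).toRingHom) (RingHom.ext fun x => ?_)) a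
  show Ideal.ResidueField.mapₐ q r (Algebra.ofId S T) hrq.over
      (Ideal.ResidueField.mapₐ p q (Algebra.ofId R S) hqp.over (algebraMap R p.ResidueField x)) =
    Ideal.ResidueField.mapₐ p r (Algebra.ofId R T) hrp.over (algebraMap R p.ResidueField x)
  rw [AlgHom.commutes, AlgHom.commutes, IsScalarTower.algebraMap_apply R S q.ResidueField, AlgHom.commutes,
    IsScalarTower.algebraMap_apply S T r.ResidueField, ← IsScalarTower.algebraMap_apply R S T,
    ← IsScalarTower.algebraMap_apply R T r.ResidueField]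

theorem bijective_mapₐ_trans {R S T : Type u} [CommRing R] [CommRing S] [CommRing T] [Algebra R S] [Algebra S T]
    [Algebra R T] [IsScalarTower R S T] (p : Ideal R) (q : Ideal S) (r : Ideal T) [p.IsPrime] [q.IsPrime] [r.IsPrime]
    [hqp : q.LiesOver p] [hrq : r.LiesOver q] [hrp : r.LiesOver p]
    (h₁ : Function.Bijective (Ideal.ResidueField.mapₐ p q (Algebra.ofId R S) hqp.over))
    (h₂ : Function.Bijective (Ideal.ResidueField.mapₐ q r (Algebra.ofId S T) hrq.over)) :
    Function.Bijective (Ideal.ResidueField.mapₐ p r (Algebra.ofId R T) hrp.over) := by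
  convert h₂.comp h₁ using 1
  exact funext fun a => (mapₐ_trans p q r a).symm

theorem bijective_mapₐ_of_trans {R S T : Type u} [CommRing R] [CommRing S] [CommRing T] [Algebra R S] [Algebra S T]
    [Algebra R T] [IsScalarTower R S T] (p : Ideal R) (q : Ideal S) (r : Ideal T) [p.IsPrime] [q.IsPrime] [r.IsPrime]
    [hqp : q.LiesOver p] [hrq : r.LiesOver q] [hrp : r.LiesOver p]
    (h : Function.Bijective (Ideal.ResidueField.mapₐ p r (Algebra.ofId R T) hrp.over)) :
    Function.Bijective (Ideal.ResidueField.mapₐ p q (Algebra.ofId R S) hqp.over) := by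
  refine ⟨RingHom.injective (Ideal.ResidueField.mapₐ p q (Algebra.ofId R S) hqp.over).toRingHom, fun b => ?_⟩
  obtain ⟨a, ha⟩ := h.2 (Ideal.ResidueField.mapₐ q r (Algebra.ofId S T) hrq.over b)
  exact ⟨a, RingHom.injective (Ideal.ResidueField.mapₐ q r (Algebra.ofId S T) hrq.over).toRingHom
    ((mapₐ_trans p q r a).trans ha)⟩

theorem isEtaleNhd_trans {R S T : Type u} [CommRing R] [CommRing S] [CommRing T] [Algebra R S] [Algebra S T]
    [Algebra R T] [IsScalarTower R S T] {p : Ideal R} {q : Ideal S} {r : Ideal T} [p.IsPrime] [q.IsPrime] [r.IsPrime]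
    (h₁ : FlatCA.IsEtaleNhd R S p q) (h₂ : FlatCA.IsEtaleNhd S T q r) : FlatCA.IsEtaleNhd R T p r := by
  obtain ⟨e₁, o₁, b₁⟩ := h₁
  obtain ⟨e₂, o₂, b₂⟩ := h₂
  haveI : r.LiesOver p := Ideal.LiesOver.trans r q p
  exact ⟨Algebra.Etale.comp R S T, inferInstance, bijective_mapₐ_trans p q r b₁ b₂⟩

theorem isEtaleNhd_refl {R : Type u} [CommRing R] (p : Ideal R) [p.IsPrime] : FlatCA.IsEtaleNhd R R p p := by
  haveI : p.LiesOver p := ⟨by ext; simp⟩
  exact ⟨inferInstance, inferInstance, bijective_mapₐ_of_quot p p fun t =>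
    ⟨t, 1, fun h => Ideal.IsPrime.ne_top ‹_› (p.eq_top_iff_one.2 h), by simp⟩⟩

/-- Purely transcendental residue extensions transfer along trivial residue extensions. -/
theorem pureTrans_transfer {R D R' D' : Type u} [CommRing R] [CommRing D] [CommRing R'] [CommRing D']
    [Algebra R D] [Algebra R R'] [Algebra R' D'] [Algebra D D'] [Algebra R D'] [IsScalarTower R R' D']
    [IsScalarTower R D D'] {p : Ideal R} {y : Ideal D} {p' : Ideal R'} {y' : Ideal D'} [p.IsPrime] [y.IsPrime]
    [p'.IsPrime] [y'.IsPrime] [y.LiesOver p] [y'.LiesOver p'] [hp : p'.LiesOver p] [hy : y'.LiesOver y]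
    (hbp : Function.Bijective (Ideal.ResidueField.mapₐ p p' (Algebra.ofId R R') hp.over))
    (hby : Function.Bijective (Ideal.ResidueField.mapₐ y y' (Algebra.ofId D D') hy.over))
    (h : FlatCA.PurelyTranscendental p y) : FlatCA.PurelyTranscendental p' y' := by
  haveI : y'.LiesOver p := Ideal.LiesOver.trans y' y p
  letI : Algebra p.ResidueField y.ResidueField :=
    (Ideal.ResidueField.mapₐ p y (Algebra.ofId R D) (Ideal.over_def y p)).toRingHom.toAlgebra
  letI : Algebra p'.ResidueField y'.ResidueField :=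
    (Ideal.ResidueField.mapₐ p' y' (Algebra.ofId R' D') (Ideal.over_def y' p')).toRingHom.toAlgebra
  obtain ⟨ι, x, hx, htop⟩ := h
  obtain ⟨h1, h2⟩ := exists_basis_transfer (RingEquiv.ofBijective
    (Ideal.ResidueField.mapₐ p p' (Algebra.ofId R R') hp.over).toRingHom hbp)
    (RingEquiv.ofBijective (Ideal.ResidueField.mapₐ y y' (Algebra.ofId D D') hy.over).toRingHom hby)
    (fun a => (mapₐ_trans p y y' a).trans (mapₐ_trans p p' y' a).symm) hx htop
  exact ⟨ι, _, h1, h2⟩

section Pushout

variable {R S R' S' : Type u} [CommRing R] [CommRing S] [CommRing R'] [CommRing S'] [Algebra R S] [Algebra R R']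
  [Algebra S S'] [Algebra R' S'] [Algebra R S'] [IsScalarTower R S S'] [IsScalarTower R R' S']
  [Algebra.IsPushout R S R' S'] {p : Ideal R} [p.IsPrime] {p' : Ideal R'} [p'.IsPrime] [hp : p'.LiesOver p]

/-- Elements of a pushout along a trivial residue extension are fractions of elements of the original
algebra modulo a prime over the given point. -/
theorem pushout_quot (hbp : Function.Bijective (Ideal.ResidueField.mapₐ p p' (Algebra.ofId R R') hp.over))
    (q : Ideal S') [q.IsPrime] [q.LiesOver p'] (t : S') :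
    ∃ a b : S, b ∉ q.under S ∧ t * algebraMap S S' b - algebraMap S S' a ∈ q := by
  obtain ⟨u, rfl⟩ := (Algebra.IsPushout.equiv R S R' S').surjective t
  induction u using TensorProduct.induction_on with
  | zero =>
    refine ⟨0, 1, fun h => Ideal.IsPrime.ne_top ‹q.IsPrime› (q.eq_top_iff_one.2 ?_), by simp⟩
    simpa [Ideal.under_def] using h
  | tmul s r =>
    obtain ⟨v, hv⟩ := hbp.2 (algebraMap R' p'.ResidueField r)
    obtain ⟨a, b, hb, rfl⟩ := IsFractionRing.div_surjective (A := R ⧸ p) v
    obtain ⟨a, rfl⟩ := Ideal.Quotient.mk_surjective a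
    obtain ⟨b, rfl⟩ := Ideal.Quotient.mk_surjective b
    have hb' : b ∉ p := fun hbp => nonZeroDivisors.ne_zero hb (Ideal.Quotient.eq_zero_iff_mem.2 hbp)
    have hb'' : algebraMap R R' b ∉ p' := fun h => hb' ((SetLike.ext_iff.1 hp.over b).2 h)
    rw [Ideal.algebraMap_quotient_residueField_mk, Ideal.algebraMap_quotient_residueField_mk, map_div₀,
      AlgHom.commutes, AlgHom.commutes, eq_comm, eq_div_iff, IsScalarTower.algebraMap_apply R R' p'.ResidueField,
      IsScalarTower.algebraMap_apply R R' p'.ResidueField, ← map_mul, ← sub_eq_zero, ← map_sub,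
      Ideal.algebraMap_residueField_eq_zero] at hv
    swap
    · rwa [IsScalarTower.algebraMap_apply R R' p'.ResidueField, ne_eq, Ideal.algebraMap_residueField_eq_zero]
    refine ⟨s * algebraMap R S a, algebraMap R S b, fun h => hb'' ?_, ?_⟩
    · rw [Ideal.under_def, Ideal.mem_comap, ← IsScalarTower.algebraMap_apply, IsScalarTower.algebraMap_apply R R' S',
        ← Ideal.mem_comap] at h
      exact (SetLike.ext_iff.1 (Ideal.over_def q p') _).2 h
    · have h2 : algebraMap R' S' (r * algebraMap R R' b - algebraMap R R' a) ∈ q :=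
        (SetLike.ext_iff.1 (Ideal.over_def q p') _).1 hv
      rw [Algebra.IsPushout.equiv_tmul, map_mul, ← IsScalarTower.algebraMap_apply, ← IsScalarTower.algebraMap_apply,
        mul_assoc, ← mul_sub]
      rw [map_sub, map_mul, ← IsScalarTower.algebraMap_apply, ← IsScalarTower.algebraMap_apply] at h2
      exact q.mul_mem_left _ h2
  | add u v hu hv =>
    obtain ⟨a, b, hb, h⟩ := hu
    obtain ⟨c, d, hd, h'⟩ := hv
    refine ⟨a * d + c * b, b * d, fun hm => (Ideal.IsPrime.mem_or_mem inferInstance hm).elim hb hd, ?_⟩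
    rw [map_add, map_add, map_mul, map_mul, map_mul,
      show ∀ x y A B C D : S', (x + y) * (B * D) - (A * D + C * B) = (x * B - A) * D + (y * D - C) * B from
        fun x y A B C D => by ring]
    exact q.add_mem (q.mul_mem_right _ h) (q.mul_mem_right _ h')

theorem pushout_bijective_mapₐ (hbp : Function.Bijective (Ideal.ResidueField.mapₐ p p' (Algebra.ofId R R') hp.over))
    (q : Ideal S) [q.IsPrime] (q' : Ideal S') [q'.IsPrime] [q'.LiesOver p'] [hq : q'.LiesOver q] :
    Function.Bijective (Ideal.ResidueField.mapₐ q q' (Algebra.ofId S S') hq.over) :=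
  bijective_mapₐ_of_quot q q' fun t => by
    obtain ⟨a, b, hb, h⟩ := pushout_quot (S := S) hbp q' t
    exact ⟨a, b, fun hbq => hb (hq.over ▸ hbq), h⟩

theorem pushout_prime_le (hbp : Function.Bijective (Ideal.ResidueField.mapₐ p p' (Algebra.ofId R R') hp.over))
    (q₁ q₂ : Ideal S') [q₁.IsPrime] [q₂.IsPrime] [q₁.LiesOver p'] [q₂.LiesOver p']
    (h : q₁.under S = q₂.under S) : q₁ = q₂ := by
  haveI : Algebra.IsPushout R R' S S' := Algebra.IsPushout.symm inferInstance
  let e := Algebra.IsPushout.equiv R R' S S'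
  have hover : ∀ q : Ideal S', q.LiesOver p' → (q.comap e.toAlgHom.toRingHom).LiesOver p' := fun q hq => ⟨by
    ext r
    show r ∈ p' ↔ e (algebraMap R' (R' ⊗[R] S) r) ∈ q
    rw [AlgEquiv.commutes]
    exact SetLike.ext_iff.1 hq.over r⟩
  haveI := hover q₁ inferInstance
  haveI := hover q₂ inferInstance
  have := Ideal.eq_of_comap_eq_comap_of_bijective_residueFieldMap hbp (q₁.comap e.toAlgHom.toRingHom)
    (q₂.comap e.toAlgHom.toRingHom) (by
      ext s
      show e ((1 : R') ⊗ₜ s) ∈ q₁ ↔ e ((1 : R') ⊗ₜ s) ∈ q₂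
      rw [Algebra.IsPushout.equiv_tmul, map_one, one_mul]
      exact SetLike.ext_iff.1 h s)
  exact Ideal.comap_injective_of_surjective e.toAlgHom.toRingHom e.surjective this

theorem pushout_exists_prime (hbp : Function.Bijective (Ideal.ResidueField.mapₐ p p' (Algebra.ofId R R') hp.over))
    (q : Ideal S) [q.IsPrime] [q.LiesOver p] :
    ∃ q' : Ideal S', q'.IsPrime ∧ q'.LiesOver p' ∧ q'.LiesOver q := by
  haveI : Algebra.IsPushout R R' S S' := Algebra.IsPushout.symm inferInstance
  let e := Algebra.IsPushout.equiv R R' S S'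
  let Q := (Ideal.fiberIsoOfBijectiveResidueField (S := S) hbp).symm ⟨q, ‹_›, ‹_›⟩
  haveI := Q.2.1
  haveI := Q.2.2
  refine ⟨Q.1.comap e.symm.toAlgHom.toRingHom, inferInstance, ⟨?_⟩, ⟨?_⟩⟩
  · ext r
    show r ∈ p' ↔ e.symm (algebraMap R' S' r) ∈ Q.1
    rw [AlgEquiv.commutes]
    exact SetLike.ext_iff.1 Q.2.2.over r
  · ext s
    show s ∈ q ↔ e.symm (algebraMap S S' s) ∈ Q.1
    rw [Algebra.IsPushout.equiv_symm_algebraMap_right]
    exact (SetLike.ext_iff.1 (Ideal.comap_fiberIsoOfBijectiveResidueField_symm hbp ⟨q, ‹_›, ‹_›⟩) s).symm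

end Pushout

/-- The support of the fibre module is the preimage of the support. -/
theorem mem_support_fiberMod_iff {R S : Type u} [CommRing R] [CommRing S] [Algebra R S] (p : Ideal R) [p.IsPrime]
    (N : Type u) [AddCommGroup N] [Module S N] [Module.Finite S N] (x : PrimeSpectrum (p.Fiber S)) :
    x ∈ Module.support (p.Fiber S) (FlatCA.fiberMod p S N) ↔
      PrimeSpectrum.comap (Algebra.TensorProduct.includeRight (R := R) (A := p.ResidueField) (B := S)).toRingHom x ∈
        Module.support S N := by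
  letI := Algebra.TensorProduct.rightAlgebra (R := R) (A := p.ResidueField) (B := S)
  exact Set.ext_iff.1 (Groth.Agent.S6284.result (R := S) (R' := p.Fiber S) N) x

/-- The point of the fibre given by a prime over `p`. -/
theorem exists_fiber_point {R S : Type u} [CommRing R] [CommRing S] [Algebra R S] (p : Ideal R) [p.IsPrime]
    (q : Ideal S) [q.IsPrime] [q.LiesOver p] :
    ∃ x : PrimeSpectrum (p.Fiber S), x.asIdeal = FlatCA.fiberIdeal p q ∧
      x.asIdeal.comap (Algebra.TensorProduct.includeRight (R := R) (A := p.ResidueField) (B := S)).toRingHom = q := by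
  let e := PrimeSpectrum.primesOverOrderIsoFiber R S p
  let x := e ⟨q, ‹_›, ‹_›⟩
  have hx : x.asIdeal.comap (Algebra.TensorProduct.includeRight (R := R) (A := p.ResidueField) (B := S)).toRingHom = q :=
    congrArg Subtype.val (e.symm_apply_apply ⟨q, ‹_›, ‹_›⟩)
  refine ⟨x, le_antisymm (fun v hv => ?_) (Ideal.map_le_iff_le_comap.2 hx.ge), hx⟩
  obtain ⟨c, hc, s, hs⟩ := Ideal.Fiber.exists_smul_eq_one_tmul p v
  have hsq : s ∈ q := by
    rw [← hx]
    show (1 : p.ResidueField) ⊗ₜ[R] s ∈ x.asIdeal
    rw [← hs, Algebra.smul_def]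
    exact x.asIdeal.mul_mem_left _ hv
  have hu : IsUnit (algebraMap R (p.Fiber S) c) := by
    rw [IsScalarTower.algebraMap_apply R p.ResidueField (p.Fiber S)]
    exact (IsUnit.mk0 _ fun h => hc (Ideal.algebraMap_residueField_eq_zero.1 h)).map _
  rw [← Ideal.unit_mul_mem_iff_mem _ hu, ← Algebra.smul_def, hs]
  exact Ideal.mem_map_of_mem _ hsq

/-- A prime of an algebra whose contraction is taken is in the support of the module over the base. -/
theorem comap_mem_support {D C : Type u} [CommRing D] [CommRing C] [Algebra D C] (G : Type u) [AddCommGroup G]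
    [Module C G] [Module D G] [IsScalarTower D C G] {z : PrimeSpectrum C} (hz : z ∈ Module.support C G) :
    PrimeSpectrum.comap (algebraMap D C) z ∈ Module.support D G := by
  rw [Module.mem_support_iff'] at hz ⊢
  obtain ⟨m, hm⟩ := hz
  exact ⟨m, fun r hr => by rw [← algebraMap_smul C r m]; exact hm _ hr⟩

/-- A point outside the support of a finite module has a neighbourhood killing it. -/
theorem exists_smul_eq_zero_of_notMem_support {D : Type u} [CommRing D] (M : Type u) [AddCommGroup M] [Module D M]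
    [Module.Finite D M] (y : PrimeSpectrum D) (hy : y ∉ Module.support D M) :
    ∃ a, a ∉ y.asIdeal ∧ ∀ m : M, a • m = 0 := by
  rw [Module.support_eq_zeroLocus, PrimeSpectrum.mem_zeroLocus, Set.not_subset] at hy
  obtain ⟨a, ha, hay⟩ := hy
  exact ⟨a, hay, Module.mem_annihilator.1 ha⟩

end Groth.Agent.RG29
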