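import Groth.Agent.RG29.DevShrink
import Groth.Agent.RG29.GeomIntNhd
import Groth.Agent.RedPts82.RelDim
import Mathlib

/-!
Neighbourhoods with geometrically integral fibres after an étale localisation of the base.
-/

set_option autoImplicit false

universe u

open TensorProduct CategoryTheory AlgebraicGeometry

namespace Groth.Agent.RG29

/-- An étale algebra over polynomials is smooth of relative dimension the number of variables. -/
theorem smoothRelDim_of_etale {R B : Type u} [CommRing R] [CommRing B] [Algebra R B] (n : ℕ)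
    [Algebra (MvPolynomial (Fin n) R) B] [IsScalarTower R (MvPolynomial (Fin n) R) B]
    [Algebra.Etale (MvPolynomial (Fin n) R) B] : FlatCA.SmoothRelDim n R B := by
  haveI h1 : Algebra.IsStandardSmoothOfRelativeDimension n R (MvPolynomial (Fin n) R) := by
    have := RedPts82.mvPolynomial_relDim R (Fin n)
    rwa [Nat.card_fin] at this
  haveI h2 : Algebra.IsStandardSmoothOfRelativeDimension 0 (MvPolynomial (Fin n) R) B :=
    Algebra.Etale.iff_isStandardSmoothOfRelativeDimension_zero.mp inferInstance
  have h3 : Algebra.IsStandardSmoothOfRelativeDimension (0 + n) R B :=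
    Algebra.IsStandardSmoothOfRelativeDimension.trans (n := n) (m := 0) R (MvPolynomial (Fin n) R) B
  rw [zero_add] at h3
  show SmoothOfRelativeDimension n (Spec.map (CommRingCat.ofHom (algebraMap R B)))
  rw [HasRingHomProperty.Spec_iff (P := @SmoothOfRelativeDimension n)]
  exact RingHom.locally_of RingHom.isStandardSmoothOfRelativeDimension_respectsIso _
    ((RingHom.isStandardSmoothOfRelativeDimension_algebraMap n).2 h3)

/-- A smooth algebra of relative dimension `n` is, near a point, étale over `n` variables. -/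
theorem exists_etale_polynomial {R D : Type u} [CommRing R] [CommRing D] [Algebra R D] {n : ℕ}
    (h : FlatCA.SmoothRelDim n R D) (y : Ideal D) [y.IsPrime] :
    ∃ s : D, s ∉ y ∧ ∃ φ : MvPolynomial (Fin n) R →ₐ[R] Localization.Away s, φ.toRingHom.Etale := by
  have h' : SmoothOfRelativeDimension n (Spec.map (CommRingCat.ofHom (algebraMap R D))) := h
  rw [HasRingHomProperty.Spec_iff (P := @SmoothOfRelativeDimension n)] at h'
  obtain ⟨t, ht, hloc⟩ := h'
  obtain ⟨s, hs, hsy⟩ : ∃ s ∈ t, s ∉ y := by
    by_contra hcon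
    push Not at hcon
    exact ‹y.IsPrime›.ne_top (top_le_iff.1 (ht.ge.trans (Ideal.span_le.2 hcon)))
  refine ⟨s, hsy, ?_⟩
  haveI : Algebra.IsStandardSmoothOfRelativeDimension n R (Localization.Away s) := by
    rw [← RingHom.isStandardSmoothOfRelativeDimension_algebraMap n, IsScalarTower.algebraMap_eq R D (Localization.Away s)]
    exact hloc s hs
  exact Algebra.IsStandardSmoothOfRelativeDimension.exists_etale_mvPolynomial n R (Localization.Away s)

/-- A point with purely transcendental residue field has, after an étale neighbourhood of the base, an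
open neighbourhood with geometrically integral fibres. -/
theorem exists_geomInt_nhd {R B : Type u} [CommRing R] [CommRing B] [Algebra R B] [Algebra.Smooth R B] (n : ℕ)
    [Algebra (MvPolynomial (Fin n) R) B] [IsScalarTower R (MvPolynomial (Fin n) R) B]
    [Algebra.Etale (MvPolynomial (Fin n) R) B] (p : Ideal R) [p.IsPrime] (y : Ideal B) [y.IsPrime]
    [hyp : y.LiesOver p] (hpt : FlatCA.PurelyTranscendental p y) :
    ∃ (R₁ : Type u) (_ : CommRing R₁) (_ : Algebra R R₁) (p₁ : Ideal R₁) (_ : p₁.IsPrime),
      FlatCA.IsEtaleNhd R R₁ p p₁ ∧ ∃ x : R₁ ⊗[R] B,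
        FlatCA.SmoothRelDim n R₁ (Localization.Away x) ∧ FlatCA.GeomIntegralFibres R₁ (Localization.Away x) ∧
        ∃ Y : Ideal (R₁ ⊗[R] B), Y.IsPrime ∧ Y.comap (algebraMap R₁ (R₁ ⊗[R] B)) = p₁ ∧
          Y.comap (Algebra.TensorProduct.includeRight : B →ₐ[R] R₁ ⊗[R] B).toRingHom = y ∧ x ∉ Y := by
  have hprim : letI : Algebra p.ResidueField y.ResidueField :=
        (Ideal.ResidueField.mapₐ p y (Algebra.ofId R B) hyp.over).toRingHom.toAlgebra
      separableClosure p.ResidueField y.ResidueField = ⊥ := by
    letI : Algebra p.ResidueField y.ResidueField :=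
      (Ideal.ResidueField.mapₐ p y (Algebra.ofId R B) hyp.over).toRingHom.toAlgebra
    obtain ⟨ι, x₀, hx₀, htop⟩ := hpt
    exact separableClosure_eq_bot_of_adjoin hx₀.1 htop
  obtain ⟨R', _, _, _, P, _, hP, g, h, jy, hPbij, hgP, hjy, hhy, hdom⟩ := exists_geomIntNhd n p y hprim
  let Rg := Localization.Away g
  haveI : Algebra.Etale R' Rg := Algebra.Etale.of_isLocalizationAway g
  haveI : Algebra.Etale R Rg := Algebra.Etale.comp R R' Rg
  have hdisj : Disjoint (Submonoid.powers g : Set R') (P : Set R') :=
    (Ideal.disjoint_powers_iff_notMem_of_isPrime _).2 hgP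
  let p₁ : Ideal Rg := P.map (algebraMap R' Rg)
  haveI : p₁.IsPrime := IsLocalization.isPrime_of_isPrime_disjoint (Submonoid.powers g) Rg P ‹_› hdisj
  haveI : p₁.LiesOver P :=
    ⟨(IsLocalization.under_map_of_isPrime_disjoint (Submonoid.powers g) Rg ‹P.IsPrime› hdisj).symm⟩
  haveI : p₁.LiesOver p := Ideal.LiesOver.trans p₁ P p
  have hbij : Function.Bijective (Ideal.ResidueField.mapₐ p p₁ (Algebra.ofId R Rg) (Ideal.over_def p₁ p)) :=
    bijective_mapₐ_trans p P p₁ hPbij
      (((RingHom.surjectiveOnStalks_of_isLocalization (Submonoid.powers g) Rg).residueFieldMap_bijective _ _ _))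
  let jg : Rg →ₐ[R] y.ResidueField := IsLocalization.liftAlgHom (M := Submonoid.powers g) (f := jy) (fun m => by
    obtain ⟨_, k, rfl⟩ := m
    exact (IsUnit.mk0 (jy (g ^ k)) fun h0 => hgP (Ideal.IsPrime.mem_of_pow_mem ‹_› k ((hjy _).1 h0))))
  have hjgA : ∀ r, jg (algebraMap R' Rg r) = jy r := fun r => IsLocalization.lift_eq _ r
  have hjg : ∀ r, jg r = 0 ↔ r ∈ p₁ := fun r => by
    obtain ⟨a, m, rfl⟩ := IsLocalization.exists_mk'_eq (Submonoid.powers g) r
    rw [IsLocalization.mk'_mem_iff, ← Ideal.mem_comap,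
      show p₁.comap (algebraMap R' Rg) = P from (Ideal.over_def p₁ P).symm, ← hjy, ← hjgA a,
      ← IsLocalization.mk'_spec Rg a m, map_mul]
    refine ⟨fun h0 => by rw [h0, zero_mul], fun h0 => (mul_eq_zero.1 h0).resolve_right fun h1 => ?_⟩
    exact ((IsLocalization.map_units Rg m).map jg).ne_zero h1
  let x : Rg ⊗[R] B := baseMap B (IsScalarTower.toAlgHom R R' Rg) h
  let τy : B →ₐ[R] y.ResidueField := IsScalarTower.toAlgHom R B y.ResidueField
  let τg : Rg ⊗[R] B →ₐ[R] y.ResidueField := Algebra.TensorProduct.lift jg τy fun _ _ => .all _ _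
  have hτg : τg x ≠ 0 := by
    suffices hall : ∀ w, τg (baseMap B (IsScalarTower.toAlgHom R R' Rg) w) = ptMap τy (baseMap B jy w) from
      hall h ▸ hhy
    intro w
    induction w using TensorProduct.induction_on with
    | zero => simp
    | tmul a b =>
      rw [baseMap_tmul, baseMap_tmul, ptMap_tmul, Algebra.TensorProduct.lift_tmul]
      exact congrArg (· * τy b) (hjgA a)
    | add u v hu hv => simp only [map_add, hu, hv]
  refine ⟨Rg, inferInstance, inferInstance, p₁, inferInstance, ⟨inferInstance, inferInstance, hbij⟩, x, ?_, ?_,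
    RingHom.ker τg, RingHom.ker_isPrime _, ?_, ?_, hτg⟩
  · haveI : IsLocalization.Away (1 : Rg) Rg := IsLocalization.away_of_isUnit_of_bijective _ isUnit_one Function.bijective_id
    exact smoothRelDim_shrink (R₁ := Rg) (R₂ := Rg) (1 : Rg) x (smoothRelDim_of_etale n)
  · refine geomIntegralFibres_of_forall fun L _ _ => ?_
    letI : Algebra R L := ((algebraMap Rg L).comp (algebraMap R Rg)).toAlgebra
    haveI : IsScalarTower R Rg L := IsScalarTower.of_algebraMap_eq fun _ => rfl
    refine isDomain_baseChange_away x ?_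
    let jL : R' →ₐ[R] L := (IsScalarTower.toAlgHom R Rg L).comp (IsScalarTower.toAlgHom R R' Rg)
    have hjLg : jL g ≠ 0 := ((IsLocalization.Away.algebraMap_isUnit (S := Rg) g).map (algebraMap Rg L)).ne_zero
    have heq : ∀ w, baseMap B (IsScalarTower.toAlgHom R Rg L) (baseMap B (IsScalarTower.toAlgHom R R' Rg) w) =
        baseMap B jL w := fun w => by
      induction w using TensorProduct.induction_on with
      | zero => simp
      | tmul a b => simp [jL]
      | add u v hu hv => simp only [map_add, hu, hv]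
    rw [show baseMap B (IsScalarTower.toAlgHom R Rg L) x = baseMap B jL h from heq h]
    exact hdom L jL hjLg
  · ext r
    show τg (r ⊗ₜ[R] (1 : B)) = 0 ↔ _
    rw [Algebra.TensorProduct.lift_tmul, map_one, mul_one, hjg]
  · ext b
    show τg ((1 : Rg) ⊗ₜ[R] b) = 0 ↔ _
    rw [Algebra.TensorProduct.lift_tmul, map_one, one_mul]
    exact Ideal.algebraMap_residueField_eq_zero

end Groth.Agent.RG29
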