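import Groth.Agent.RG29.DevGood
import Groth.Agent.Hensel20.PairEtale
import Mathlib

/-!
Lifting étale algebras over closed subschemes, and goodness after étale localisation.
-/

set_option autoImplicit false

universe u

open TensorProduct

namespace Groth.Agent.RG29

set_option maxHeartbeats 800000 in
/-- An étale algebra over a closed subscheme lifts to an étale algebra, over a given étale algebra of
the base. -/
theorem exists_etale_lift {R S R₁ C C₁ : Type u} [CommRing R] [CommRing S] [CommRing R₁] [CommRing C] [CommRing C₁]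
    [Algebra R S] [Algebra R R₁] [Algebra.Etale R R₁] [Algebra S C] (hsurj : Function.Surjective (algebraMap S C))
    [Algebra C C₁] [Algebra.Etale C C₁] [Algebra R C₁] [Algebra R₁ C₁] [IsScalarTower R R₁ C₁] [Algebra S C₁]
    [IsScalarTower S C C₁] [IsScalarTower R S C₁] :
    ∃ (S₁ : Type u) (_ : CommRing S₁) (_ : Algebra S S₁) (_ : Algebra R₁ S₁) (_ : Algebra R S₁)
      (_ : IsScalarTower R R₁ S₁) (_ : IsScalarTower R S S₁) (_ : Algebra S₁ C₁) (_ : IsScalarTower S S₁ C₁)
      (_ : IsScalarTower R₁ S₁ C₁), Algebra.Etale S S₁ ∧ Function.Surjective (algebraMap S₁ C₁) ∧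
        Algebra.IsPushout S S₁ C C₁ := by
  let J : Ideal S := RingHom.ker (algebraMap S C)
  let A := S ⊗[R] R₁
  let ψ : A →ₐ[S] C₁ := Algebra.TensorProduct.lift (Algebra.ofId S C₁) (IsScalarTower.toAlgHom R R₁ C₁)
    fun _ _ => .all _ _
  letI aAC : Algebra A C₁ := ψ.toRingHom.toAlgebra
  haveI : IsScalarTower S A C₁ := IsScalarTower.of_algHom ψ
  let I : Ideal A := J.map (algebraMap S A)
  have hJC : ∀ s ∈ J, algebraMap S C₁ s = 0 := fun s hs => by
    rw [IsScalarTower.algebraMap_apply S C C₁, show algebraMap S C s = 0 from hs, map_zero]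
  have hI : I ≤ RingHom.ker (algebraMap A C₁) := Ideal.map_le_iff_le_comap.2 fun s hs => by
    show algebraMap A C₁ (algebraMap S A s) = 0
    rw [← IsScalarTower.algebraMap_apply]
    exact hJC s hs
  letI : Algebra (A ⧸ I) C₁ := (Ideal.Quotient.lift I (algebraMap A C₁) hI).toAlgebra
  haveI : IsScalarTower A (A ⧸ I) C₁ :=
    IsScalarTower.of_algebraMap_eq (R := A) (S := A ⧸ I) (A := C₁) fun _ => rfl
  let eC : (S ⧸ J) ≃ₐ[S] C := Ideal.quotientKerAlgEquivOfSurjective (f := Algebra.ofId S C) hsurj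
  have hζ : ((algebraMap C C₁).comp eC.toRingEquiv.toRingHom).Etale :=
    RingHom.Etale.stableUnderComposition _ _ (RingHom.Etale.of_bijective eC.bijective)
      (RingHom.etale_algebraMap.2 inferInstance)
  letI : Algebra (S ⧸ J) C₁ := ((algebraMap C C₁).comp eC.toRingEquiv.toRingHom).toAlgebra
  haveI : Algebra.Etale (S ⧸ J) C₁ := hζ
  letI : Algebra (S ⧸ J) (A ⧸ I) := (Ideal.quotientMap I (algebraMap S A) Ideal.le_comap_map).toAlgebra
  haveI : IsScalarTower S (S ⧸ J) (A ⧸ I) :=
    IsScalarTower.of_algebraMap_eq (R := S) (S := S ⧸ J) (A := A ⧸ I) fun _ => rfl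
  haveI : IsScalarTower (S ⧸ J) (A ⧸ I) C₁ := IsScalarTower.of_algebraMap_eq fun z => by
    obtain ⟨s, rfl⟩ := Ideal.Quotient.mk_surjective z
    show algebraMap C C₁ (eC (algebraMap S (S ⧸ J) s)) = algebraMap A C₁ (algebraMap S A s)
    rw [AlgEquiv.commutes, ← IsScalarTower.algebraMap_apply, ← IsScalarTower.algebraMap_apply]
  haveI : Algebra.FormallyUnramified S (A ⧸ I) := Algebra.FormallyUnramified.comp S A (A ⧸ I)
  haveI : Algebra.FormallyUnramified (S ⧸ J) (A ⧸ I) :=
    Algebra.FormallyUnramified.of_restrictScalars S (S ⧸ J) (A ⧸ I)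
  haveI : Algebra.FiniteType S (A ⧸ I) := Algebra.FiniteType.trans (S := A) inferInstance inferInstance
  haveI : Algebra.FiniteType (S ⧸ J) (A ⧸ I) := Algebra.FiniteType.of_restrictScalars_finiteType S (S ⧸ J) (A ⧸ I)
  haveI : Algebra.FormallyEtale (A ⧸ I) C₁ :=
    Algebra.FormallyEtale.of_restrictScalars (R := S ⧸ J) (A := A ⧸ I) (B := C₁)
  haveI : Algebra.FinitePresentation (A ⧸ I) C₁ :=
    Algebra.FinitePresentation.of_restrict_scalars_finitePresentation (S ⧸ J) (A ⧸ I) C₁
  haveI : Algebra.Etale (A ⧸ I) C₁ := ⟨inferInstance, inferInstance⟩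
  obtain ⟨B₀, _, _, _, π, j, hπ, hj, hker, hEt⟩ := Groth.Agent.Hensel20.exists_presentation_lift (I := I) C₁
  let S₁ := Localization.Away j
  letI aSS₁ : Algebra S S₁ := ((algebraMap A S₁).comp (algebraMap S A)).toAlgebra
  haveI : IsScalarTower S A S₁ := IsScalarTower.of_algebraMap_eq fun _ => rfl
  letI aRS₁ : Algebra R S₁ := ((algebraMap S S₁).comp (algebraMap R S)).toAlgebra
  haveI hRSS₁ : IsScalarTower R S S₁ := IsScalarTower.of_algebraMap_eq fun _ => rfl
  letI aR₁S₁ : Algebra R₁ S₁ := ((algebraMap A S₁).comp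
    (Algebra.TensorProduct.includeRight : R₁ →ₐ[R] A).toRingHom).toAlgebra
  haveI hRR₁S₁ : IsScalarTower R R₁ S₁ := IsScalarTower.of_algebraMap_eq fun r => by
    show algebraMap A S₁ (algebraMap S A (algebraMap R S r)) =
      algebraMap A S₁ ((Algebra.TensorProduct.includeRight : R₁ →ₐ[R] A) (algebraMap R R₁ r))
    rw [AlgHom.commutes, ← IsScalarTower.algebraMap_apply R S A]
  haveI : Algebra.Etale A S₁ := hEt S₁ j (IsLocalization.Away.algebraMap_isUnit j)
  let π' : S₁ →ₐ[A] C₁ := IsLocalization.liftAlgHom (M := Submonoid.powers j) (f := π) (fun m => by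
    obtain ⟨_, k, rfl⟩ := m
    simpa using hj.pow k)
  have hπ'eq : ∀ b, π' (algebraMap B₀ S₁ b) = π b := fun b => by simp [π', IsLocalization.liftAlgHom]
  letI aS₁C₁ : Algebra S₁ C₁ := π'.toRingHom.toAlgebra
  haveI : IsScalarTower A S₁ C₁ := IsScalarTower.of_algHom π'
  haveI hSS₁C₁ : IsScalarTower S S₁ C₁ := IsScalarTower.of_algebraMap_eq fun s => by
    rw [IsScalarTower.algebraMap_apply S A C₁, IsScalarTower.algebraMap_apply S A S₁,
      ← IsScalarTower.algebraMap_apply A S₁ C₁]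
  haveI hR₁S₁C₁ : IsScalarTower R₁ S₁ C₁ := IsScalarTower.of_algebraMap_eq fun r => by
    show algebraMap R₁ C₁ r = algebraMap S₁ C₁ (algebraMap A S₁ ((1 : S) ⊗ₜ[R] r))
    rw [← IsScalarTower.algebraMap_apply]
    show _ = ψ ((1 : S) ⊗ₜ[R] r)
    rw [Algebra.TensorProduct.lift_tmul, map_one, one_mul]
    rfl
  have hsurj₁ : Function.Surjective (algebraMap S₁ C₁) := fun c => by
    obtain ⟨b, rfl⟩ := hπ c
    exact ⟨algebraMap B₀ S₁ b, hπ'eq b⟩
  have hkerS₁ : RingHom.ker (algebraMap S₁ C₁) ≤ J.map (algebraMap S S₁) := fun t ht => by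
    obtain ⟨b, m, rfl⟩ := IsLocalization.exists_mk'_eq (Submonoid.powers j) t
    have hb : π b = 0 := by
      rw [← hπ'eq, ← IsLocalization.mk'_spec S₁ b m, map_mul]
      rw [show π' (IsLocalization.mk' S₁ b m) = 0 from ht, zero_mul]
    rw [IsLocalization.mk'_mem_iff, IsScalarTower.algebraMap_eq S A S₁, ← Ideal.map_map]
    have hmem := Ideal.mem_map_of_mem (algebraMap B₀ S₁) (hker b hb)
    rw [Ideal.map_map, ← IsScalarTower.algebraMap_eq] at hmem
    exact hmem
  let φ : S₁ ⊗[S] C →ₐ[S₁] C₁ := Algebra.TensorProduct.lift (Algebra.ofId S₁ C₁) (IsScalarTower.toAlgHom S C C₁)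
    fun _ _ => .all _ _
  have hleft : ∀ u : S₁ ⊗[S] C, ∃ t : S₁, u = t ⊗ₜ 1 := fun u => by
    induction u using TensorProduct.induction_on with
    | zero => exact ⟨0, (TensorProduct.zero_tmul _ _).symm⟩
    | tmul a c =>
      obtain ⟨s, rfl⟩ := hsurj c
      exact ⟨s • a, by rw [TensorProduct.smul_tmul, Algebra.smul_def, mul_one]⟩
    | add u v hu hv =>
      obtain ⟨a, rfl⟩ := hu
      obtain ⟨b, rfl⟩ := hv
      exact ⟨a + b, (TensorProduct.add_tmul _ _ _).symm⟩
  have hφ : Function.Bijective φ := by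
    refine ⟨(injective_iff_map_eq_zero φ).2 fun u hu => ?_, fun c => ?_⟩
    · obtain ⟨t, rfl⟩ := hleft u
      rw [Algebra.TensorProduct.lift_tmul, map_one, mul_one] at hu
      have ht : t ∈ (J.map (algebraMap S S₁)) := hkerS₁ hu
      have hle : J.map (algebraMap S S₁) ≤
          RingHom.ker (Algebra.TensorProduct.includeLeft : S₁ →ₐ[S] S₁ ⊗[S] C).toRingHom :=
        Ideal.map_le_iff_le_comap.2 fun s hs => by
          show algebraMap S S₁ s ⊗ₜ[S] (1 : C) = 0
          rw [Algebra.algebraMap_eq_smul_one, TensorProduct.smul_tmul, ← Algebra.algebraMap_eq_smul_one,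
            show algebraMap S C s = 0 from hs, TensorProduct.tmul_zero]
      exact hle ht
    · obtain ⟨t, rfl⟩ := hsurj₁ c
      exact ⟨t ⊗ₜ 1, by rw [Algebra.TensorProduct.lift_tmul, map_one, mul_one]; rfl⟩
  have hpush : Algebra.IsPushout S S₁ C C₁ :=
    ⟨IsBaseChange.of_equiv (LinearEquiv.ofBijective φ.toLinearMap hφ) fun c => by
      show φ ((1 : S₁) ⊗ₜ[S] c) = algebraMap C C₁ c
      rw [Algebra.TensorProduct.lift_tmul, map_one, one_mul]
      rfl⟩
  exact ⟨S₁, inferInstance, aSS₁, aR₁S₁, aRS₁, hRR₁S₁, hRSS₁, aS₁C₁, hSS₁C₁, hR₁S₁C₁,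
    Algebra.Etale.comp S A S₁, hsurj₁, hpush⟩

set_option maxHeartbeats 800000 in
/-- Goodness passes to étale neighbourhoods of the base and open neighbourhoods of the point. -/
theorem Good.of_nhd {R S : Type u} [CommRing R] [CommRing S] [Algebra R S] {N : Type u} [AddCommGroup N] [Module S N]
    {p : Ideal R} [p.IsPrime] {q : Ideal S} [q.IsPrime] (hG : Good R S N p q)
    {R' S' S'' : Type u} [CommRing R'] [CommRing S'] [CommRing S''] [Algebra R R'] [Algebra S S'] [Algebra R' S']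
    [Algebra R S'] [IsScalarTower R R' S'] [IsScalarTower R S S'] [Algebra.IsPushout R S R' S'] (e : S')
    [Algebra S' S''] [IsLocalization.Away e S''] [Algebra R' S''] [IsScalarTower R' S' S''] [Algebra S S'']
    [IsScalarTower S S' S''] {N'' : Type u} [AddCommGroup N''] [Module S'' N''] [Module S N''] [IsScalarTower S S'' N'']
    {j : N →ₗ[S] N''} (hj : IsBaseChange S'' j) {p' : Ideal R'} [p'.IsPrime] {q'' : Ideal S''} [q''.IsPrime]
    [q''.LiesOver q] (hnhd : FlatCA.IsEtaleNhd R R' p p') :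
    Good R' S'' N'' p' q'' := by
  intro R₁ T _ _ _ _ _ _ _ _ _ p₁ _ qT _ _ _ hnhd₁ f hf
  -- the pushout before localisation
  let S₁ := R₁ ⊗[R'] S'
  letI aS'S₁ : Algebra S' S₁ := Algebra.TensorProduct.rightAlgebra
  haveI : IsScalarTower R' S' S₁ := IsScalarTower.of_algebraMap_eq fun r =>
    ((Algebra.TensorProduct.includeRight : S' →ₐ[R'] S₁).commutes r).symm
  haveI p'1 : Algebra.IsPushout R' S' R₁ S₁ := TensorProduct.isPushout'
  letI aRR₁ : Algebra R R₁ := Algebra.compHom R₁ (algebraMap R R')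
  haveI : IsScalarTower R R' R₁ := IsScalarTower.of_algebraMap_eq (R := R) (S := R') (A := R₁) fun _ => rfl
  letI aSS₁ : Algebra S S₁ := Algebra.compHom S₁ (algebraMap S S')
  haveI : IsScalarTower S S' S₁ := IsScalarTower.of_algebraMap_eq (R := S) (S := S') (A := S₁) fun _ => rfl
  haveI : IsScalarTower R R' S₁ := IsScalarTower.of_algebraMap_eq (R := R) (S := R') (A := S₁) fun _ => rfl
  haveI : IsScalarTower R R₁ S₁ := IsScalarTower.of_algebraMap_eq (R := R) (S := R₁) (A := S₁) fun r => by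
    rw [IsScalarTower.algebraMap_apply R R' S₁, IsScalarTower.algebraMap_apply R R' R₁,
      ← IsScalarTower.algebraMap_apply R' R₁ S₁]
  haveI : IsScalarTower R S' S₁ := IsScalarTower.of_algebraMap_eq (R := R) (S := S') (A := S₁) fun r => by
    rw [IsScalarTower.algebraMap_apply R R' S₁, IsScalarTower.algebraMap_apply R R' S',
      ← IsScalarTower.algebraMap_apply R' S' S₁]
  haveI : IsScalarTower R S S₁ := IsScalarTower.of_algebraMap_eq (R := R) (S := S) (A := S₁) fun r => by
    rw [IsScalarTower.algebraMap_apply R S' S₁, IsScalarTower.algebraMap_apply R S S',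
      ← IsScalarTower.algebraMap_apply S S' S₁]
  haveI : Algebra.IsPushout R R' S S' := Algebra.IsPushout.symm inferInstance
  haveI : Algebra.IsPushout R S R₁ S₁ := by
    have h2 : Algebra.IsPushout R' R₁ S' S₁ := p'1.symm
    exact ((Algebra.IsPushout.comp_iff R R' S S' (T := R₁) (T' := S₁)).2 h2).symm
  -- `T` is a localisation of it
  letI aS'T : Algebra S' T := Algebra.compHom T (algebraMap S' S'')
  haveI : IsScalarTower S' S'' T := IsScalarTower.of_algebraMap_eq (R := S') (S := S'') (A := T) fun _ => rfl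
  haveI : IsScalarTower R' S' T := IsScalarTower.of_algebraMap_eq (R := R') (S := S') (A := T) fun r => by
    rw [IsScalarTower.algebraMap_apply R' S'' T, IsScalarTower.algebraMap_apply R' S' S'',
      ← IsScalarTower.algebraMap_apply S' S'' T]
  let φ : S₁ →ₐ[R₁] T :=
    Algebra.TensorProduct.lift (Algebra.ofId R₁ T) (IsScalarTower.toAlgHom R' S' T) fun _ _ => .all _ _
  letI aS₁T : Algebra S₁ T := φ.toRingHom.toAlgebra
  haveI : IsScalarTower R₁ S₁ T := IsScalarTower.of_algHom φ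
  haveI : IsScalarTower S' S₁ T := IsScalarTower.of_algebraMap_eq (R := S') (S := S₁) (A := T) fun s => by
    show algebraMap S' T s = φ ((1 : R₁) ⊗ₜ s)
    rw [Algebra.TensorProduct.lift_tmul, map_one, one_mul]
    rfl
  haveI : IsScalarTower R' S₁ T := IsScalarTower.of_algebraMap_eq (R := R') (S := S₁) (A := T) fun r => by
    rw [IsScalarTower.algebraMap_apply R' R₁ S₁, ← IsScalarTower.algebraMap_apply R₁ S₁ T,
      ← IsScalarTower.algebraMap_apply R' R₁ T]
  haveI pT : Algebra.IsPushout S' S'' S₁ T :=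
    (Algebra.IsPushout.comp_iff R' S' R₁ S₁ (T := S'') (T' := T)).1 inferInstance
  haveI hTe : IsLocalization.Away (algebraMap S' S₁ e) T := by
    have := (Algebra.isLocalization_iff_isPushout (A := S'') (T := S₁) (B := T) (Submonoid.powers e)).2 pT.symm
    rwa [Algebra.algebraMapSubmonoid, Submonoid.map_powers] at this
  obtain ⟨k, a, ha⟩ := IsLocalization.Away.surj (algebraMap S' S₁ e) f
  let e₁ := algebraMap S' S₁ e
  have hue : IsUnit (algebraMap S₁ T e₁) := IsLocalization.Away.algebraMap_isUnit e₁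
  let q₁ := qT.under S₁
  haveI : q₁.LiesOver p₁ := ⟨(Ideal.over_def qT p₁).trans (Ideal.under_under (A := R₁) (B := S₁) qT).symm⟩
  haveI : q₁.LiesOver q := ⟨by
    rw [Ideal.over_def q'' q, Ideal.over_def qT q'']
    simp only [q₁, Ideal.under_def, Ideal.comap_comap]
    congr 1
    refine RingHom.ext fun s => ?_
    show algebraMap S'' T (algebraMap S S'' s) = algebraMap S₁ T (algebraMap S S₁ s)
    rw [IsScalarTower.algebraMap_apply S S' S'', IsScalarTower.algebraMap_apply S S' S₁,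
      ← IsScalarTower.algebraMap_apply S' S'' T, ← IsScalarTower.algebraMap_apply S' S₁ T]⟩
  have hae : a * e₁ ∉ q₁ := fun hm => by
    have hm' : algebraMap S₁ T a * algebraMap S₁ T e₁ ∈ qT := by
      rw [← map_mul]
      exact hm
    rw [Ideal.mul_unit_mem_iff_mem qT hue, ← ha, Ideal.mul_unit_mem_iff_mem qT (hue.pow k)] at hm'
    exact hf hm'
  obtain ⟨g, hg, h₀, hh₀, hrest⟩ :=
    hG R₁ S₁ p₁ q₁ (isEtaleNhd_trans hnhd hnhd₁) (a * e₁) hae
  refine ⟨algebraMap S₁ T g, hg, h₀, hh₀, fun h hdvd hhp R₂ T₂ N₂ _ _ _ _ _ _ _ _ _ _ _ _ _ _ _ _ i hi p₂ _ q₂ _ _ _ _ => ?_⟩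
  letI aS₁T₂ : Algebra S₁ T₂ := Algebra.compHom T₂ (algebraMap S₁ T)
  haveI : IsScalarTower S₁ T T₂ := IsScalarTower.of_algebraMap_eq (R := S₁) (S := T) (A := T₂) fun _ => rfl
  haveI : IsScalarTower R₁ S₁ T₂ := IsScalarTower.of_algebraMap_eq (R := R₁) (S := S₁) (A := T₂) fun r => by
    rw [IsScalarTower.algebraMap_apply R₁ T T₂, IsScalarTower.algebraMap_apply R₁ S₁ T,
      ← IsScalarTower.algebraMap_apply S₁ T T₂]
  haveI : IsLocalization.Away (algebraMap S₁ T (a * g * algebraMap R₁ S₁ h)) T₂ := by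
    refine IsLocalization.Away.of_associated (r := f * algebraMap S₁ T g * algebraMap R₁ T h) ?_
    refine ⟨(hue.pow k).unit, ?_⟩
    rw [IsUnit.unit_spec, map_mul, map_mul, ← ha, IsScalarTower.algebraMap_apply R₁ S₁ T h]
    ring
  haveI hT₂ : IsLocalization.Away (a * e₁ * g * algebraMap R₁ S₁ h) T₂ := by
    haveI := IsLocalization.Away.mul' T T₂ e₁ (a * g * algebraMap R₁ S₁ h)
    rw [show a * e₁ * g * algebraMap R₁ S₁ h = e₁ * (a * g * algebraMap R₁ S₁ h) by ring]
    infer_instance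
  letI aST₂ : Algebra S T₂ := Algebra.compHom T₂ (algebraMap S S'')
  haveI : IsScalarTower S S'' T₂ := IsScalarTower.of_algebraMap_eq (R := S) (S := S'') (A := T₂) fun _ => rfl
  haveI : IsScalarTower S S₁ T₂ := IsScalarTower.of_algebraMap_eq (R := S) (S := S₁) (A := T₂) fun s => by
    rw [IsScalarTower.algebraMap_apply S S'' T₂, IsScalarTower.algebraMap_apply S S' S'',
      IsScalarTower.algebraMap_apply S'' T T₂, ← IsScalarTower.algebraMap_apply S' S'' T,
      IsScalarTower.algebraMap_apply S S' S₁, IsScalarTower.algebraMap_apply S₁ T T₂,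
      ← IsScalarTower.algebraMap_apply S' S₁ T]
  letI : Module S N₂ := Module.compHom N₂ (algebraMap S S'')
  haveI : IsScalarTower S S'' N₂ := IsScalarTower.of_algebraMap_smul fun _ _ => rfl
  haveI : IsScalarTower S T₂ N₂ := IsScalarTower.of_algebraMap_smul fun s m => by
    rw [IsScalarTower.algebraMap_apply S S'' T₂, algebraMap_smul]
    rfl
  haveI : q₂.LiesOver q₁ := ⟨by
    rw [show q₁ = qT.under S₁ from rfl, Ideal.over_def q₂ qT]
    simp only [Ideal.under_def, Ideal.comap_comap, ← IsScalarTower.algebraMap_eq]⟩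
  exact hrest h hdvd hhp R₂ T₂ N₂ ((i.restrictScalars S).comp j) (hj.comp hi) p₂ q₂

end Groth.Agent.RG29
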