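import Groth.Agent.RG29.DevGeneric
import Groth.Agent.RG29.DevLift
import Groth.Agent.RG29.DevGeom
import Groth.Agent.RG29.Elem
import Mathlib

/-!
Existence of good dévissages after étale localisation.
-/

set_option autoImplicit false

universe u

open TensorProduct

namespace Groth.Agent.RG29

/-- A map from a finite free module which is bijective at a given point of the support. -/
theorem exists_map_bijective_at {D : Type u} [CommRing D] (G : Type u) [AddCommGroup G] [Module D G]
    [Module.Finite D G] (w : Ideal D) [hw : w.IsPrime] (hsupp : (⟨w, hw⟩ : PrimeSpectrum D) ∈ Module.support D G) :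
    ∃ (r : ℕ) (α : (Fin r → D) →ₗ[D] G), 0 < r ∧ Function.Bijective (α.baseChange w.ResidueField) := by
  classical
  let k := w.ResidueField
  have hnt : Nontrivial (w.ResidueField ⊗[D] G) :=
    (Module.mem_support_iff_nontrivial_residueField_tensorProduct (R := D) (M := G) ⟨w, hw⟩).1 hsupp
  let s : Set (k ⊗[D] G) := Set.range fun g : G => (1 : k) ⊗ₜ[D] g
  have hs : ⊤ ≤ Submodule.span k s := fun v _ => by
    induction v using TensorProduct.induction_on with
    | zero => exact zero_mem _
    | tmul a g =>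
      rw [show a ⊗ₜ[D] g = a • ((1 : k) ⊗ₜ[D] g) by rw [TensorProduct.smul_tmul', smul_eq_mul, mul_one]]
      exact Submodule.smul_mem _ _ (Submodule.subset_span ⟨g, rfl⟩)
    | add u v hu hv => exact add_mem (hu trivial) (hv trivial)
  let b₀ := Module.Basis.ofSpan hs
  haveI := Module.Finite.finite_basis b₀
  obtain ⟨r, ⟨e⟩⟩ := Finite.exists_equiv_fin ↥((linearIndepOn_empty k id).extend (Set.empty_subset s))
  let b := b₀.reindex e
  have hb : ∀ i, b i ∈ s := fun i => by
    rw [Module.Basis.reindex_apply]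
    exact Module.Basis.ofSpan_subset hs (Set.mem_range_self _)
  choose g hg using hb
  let α : (Fin r → D) →ₗ[D] G := (Pi.basisFun D (Fin r)).constr D g
  refine ⟨r, α, Nat.pos_of_ne_zero fun h0 => ?_, ?_⟩
  · subst h0
    haveI : IsEmpty (Fin 0) := inferInstance
    exact not_subsingleton _ b.repr.toEquiv.subsingleton
  · let src := (Pi.basisFun D (Fin r)).baseChange k
    have heq : α.baseChange k = (src.equiv b (Equiv.refl _)).toLinearMap := by
      refine src.ext fun i => ?_
      rw [LinearEquiv.coe_coe, Module.Basis.equiv_apply, Equiv.refl_apply, ← hg]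
      simp only [src, Module.Basis.baseChange_apply, LinearMap.baseChange_tmul, α, Module.Basis.constr_basis]
    rw [heq]
    exact LinearEquiv.bijective _

/-- The cokernel of such a map vanishes at the point. -/
theorem notMem_support_coker {D : Type u} [CommRing D] {G : Type u} [AddCommGroup G] [Module D G]
    [Module.Finite D G] (w : Ideal D) [hw : w.IsPrime] {r : ℕ} (α : (Fin r → D) →ₗ[D] G)
    (hb : Function.Bijective (α.baseChange w.ResidueField)) :
    (⟨w, hw⟩ : PrimeSpectrum D) ∉ Module.support D (G ⧸ LinearMap.range α) := fun h => by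
  haveI hnt : Nontrivial (w.ResidueField ⊗[D] (G ⧸ LinearMap.range α)) :=
    (Module.mem_support_iff_nontrivial_residueField_tensorProduct (R := D) (M := G ⧸ LinearMap.range α) ⟨w, hw⟩).1 h
  refine not_subsingleton (w.ResidueField ⊗[D] (G ⧸ LinearMap.range α)) ⟨fun u v => ?_⟩
  suffices h0 : ∀ z : w.ResidueField ⊗[D] (G ⧸ LinearMap.range α), z = 0 from (h0 u).trans (h0 v).symm
  intro z
  obtain ⟨z, rfl⟩ := LinearMap.lTensor_surjective w.ResidueField (LinearMap.range α).mkQ_surjective z
  obtain ⟨z, rfl⟩ := hb.2 z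
  rw [show α.baseChange w.ResidueField z = α.lTensor w.ResidueField z from rfl, ← LinearMap.lTensor_comp_apply,
    show (LinearMap.range α).mkQ.comp α = 0 from LinearMap.ext fun v =>
      (Submodule.Quotient.mk_eq_zero _).2 (LinearMap.mem_range_self α v), LinearMap.lTensor_zero, LinearMap.zero_apply]

/-- Conclusion of the existence theorem. -/
def HasGoodNhd (R S : Type u) [CommRing R] [CommRing S] [Algebra R S] (N : Type u) [AddCommGroup N] [Module S N]
    (p : Ideal R) [p.IsPrime] (q : Ideal S) [q.IsPrime] : Prop :=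
  ∃ (R' S' : Type u) (_ : CommRing R') (_ : CommRing S') (_ : Algebra R R') (_ : Algebra S S') (_ : Algebra R' S')
    (_ : Algebra R S') (_ : IsScalarTower R R' S') (_ : IsScalarTower R S S')
    (p' : Ideal R') (q' : Ideal S') (_ : p'.IsPrime) (_ : q'.IsPrime),
    FlatCA.IsEtaleNhd R R' p p' ∧ FlatCA.IsEtaleNhd S S' q q' ∧ q'.LiesOver p' ∧ Good R' S' (S' ⊗[S] N) p' q'

/-- Goodness transfers along isomorphisms of modules. -/
theorem Good.of_linearEquiv {R S : Type u} [CommRing R] [CommRing S] [Algebra R S] {N N' : Type u} [AddCommGroup N]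
    [Module S N] [AddCommGroup N'] [Module S N'] {p : Ideal R} [p.IsPrime] {q : Ideal S} [q.IsPrime]
    (hG : Good R S N p q) (e : N ≃ₗ[S] N') : Good R S N' p q := by
  intro R₁ S₁ _ _ _ _ _ _ _ _ _ p₁ _ q₁ _ _ _ hnhd f hf
  obtain ⟨g, hg, h₀, hh₀, hrest⟩ := hG R₁ S₁ p₁ q₁ hnhd f hf
  refine ⟨g, hg, h₀, hh₀, fun h hd hp R₂ S₂ N₂ _ _ _ _ _ _ _ _ _ _ _ _ _ _ _ _ i hi p₂ _ q₂ _ _ _ _ => ?_⟩
  exact hrest h hd hp R₂ S₂ N₂ _ ((IsBaseChange.ofEquiv e).comp hi) p₂ q₂

set_option maxHeartbeats 800000 in
/-- A good neighbourhood on a smooth algebra shrinks to one with geometrically integral fibres. -/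
theorem exists_good_geomInt {R' D : Type u} [CommRing R'] [CommRing D] [Algebra R' D] {m : ℕ}
    (hsm : FlatCA.SmoothRelDim m R' D) {p' : Ideal R'} [p'.IsPrime] {y : Ideal D} [y.IsPrime] [y.LiesOver p']
    (hpt : FlatCA.PurelyTranscendental p' y) {M : Type u} [AddCommGroup M] [Module D M]
    (htail : HasGoodNhd R' D M p' y) :
    ∃ (Rx Dx : Type u) (_ : CommRing Rx) (_ : CommRing Dx) (_ : Algebra R' Rx) (_ : Algebra D Dx) (_ : Algebra Rx Dx)
      (_ : Algebra R' Dx) (_ : IsScalarTower R' Rx Dx) (_ : IsScalarTower R' D Dx) (px : Ideal Rx) (yx : Ideal Dx)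
      (_ : px.IsPrime) (_ : yx.IsPrime) (_ : yx.LiesOver px) (_ : yx.LiesOver y),
      FlatCA.IsEtaleNhd R' Rx p' px ∧ FlatCA.IsEtaleNhd D Dx y yx ∧ FlatCA.PurelyTranscendental px yx ∧
        FlatCA.SmoothRelDim m Rx Dx ∧ FlatCA.GeomIntegralFibres Rx Dx ∧ Good Rx Dx (Dx ⊗[D] M) px yx := by
  obtain ⟨R'', D'', cR'', cD'', a₁, a₂, a₃, a₄, t₁, t₂, p'', y'', hp'', hy'', hnR, hnD, hyp'', hgood⟩ := htail
  have hnR' := hnR
  obtain ⟨hetR'', hop'', hbp''⟩ := hnR'
  obtain ⟨hetD'', hoy'', hby''⟩ := hnD
  haveI := hetR''; haveI := hop''; haveI := hetD''; haveI := hoy''; haveI := hyp''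
  haveI : Algebra.Smooth R' D := smooth_of_smoothRelDim hsm
  -- coordinates
  obtain ⟨s, hs, φ, hφ⟩ := exists_etale_polynomial hsm y
  let Ds := Localization.Away s
  letI aPDs : Algebra (MvPolynomial (Fin m) R') Ds := φ.toRingHom.toAlgebra
  haveI : Algebra.Etale (MvPolynomial (Fin m) R') Ds := hφ
  let s'' := algebraMap D D'' s
  let B := Localization.Away s''
  letI aDsB : Algebra Ds B := (IsLocalization.Away.lift s (g := algebraMap D B) (by
    rw [IsScalarTower.algebraMap_apply D D'' B]
    exact IsLocalization.Away.algebraMap_isUnit _)).toAlgebra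
  haveI : IsScalarTower D Ds B := IsScalarTower.of_algebraMap_eq fun d => (IsLocalization.Away.lift_eq s _ d).symm
  haveI : Algebra.Etale D'' B := Algebra.Etale.of_isLocalizationAway s''
  haveI : Algebra.Etale D Ds := Algebra.Etale.of_isLocalizationAway s
  haveI : Algebra.Etale D B := Algebra.Etale.comp D D'' B
  haveI : Algebra.Etale Ds B := Algebra.Etale.of_restrictScalars (R := D) (A := Ds) (B := B)
  haveI : IsScalarTower R' R'' B := IsScalarTower.of_algebraMap_eq fun a => by
    rw [IsScalarTower.algebraMap_apply R' D'' B, IsScalarTower.algebraMap_apply R' R'' D'',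
      ← IsScalarTower.algebraMap_apply R'' D'' B]
  let P' := MvPolynomial (Fin m) R'
  let P'' := MvPolynomial (Fin m) R''
  letI aP'B : Algebra P' B := ((algebraMap Ds B).comp (algebraMap P' Ds)).toAlgebra
  haveI : IsScalarTower P' Ds B := IsScalarTower.of_algebraMap_eq fun _ => rfl
  haveI : Algebra.Etale P' B := Algebra.Etale.comp P' Ds B
  letI aP''B : Algebra P'' B :=
    (MvPolynomial.aeval (R := R'') fun i => algebraMap P' B (MvPolynomial.X i)).toRingHom.toAlgebra
  haveI : IsScalarTower R'' P'' B :=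
    IsScalarTower.of_algHom (MvPolynomial.aeval (R := R'') fun i => algebraMap P' B (MvPolynomial.X i))
  letI aPP : Algebra P' P'' := MvPolynomial.algebraMvPolynomial
  haveI : IsScalarTower P' P'' B := IsScalarTower.of_algebraMap_eq' <| MvPolynomial.ringHom_ext (fun a => by
      show algebraMap Ds B (φ (MvPolynomial.C a)) = algebraMap P'' B (MvPolynomial.map _ (MvPolynomial.C a))
      rw [MvPolynomial.map_C, ← MvPolynomial.algebraMap_eq, AlgHom.commutes, ← MvPolynomial.algebraMap_eq,
        ← IsScalarTower.algebraMap_apply R'' P'' B, ← IsScalarTower.algebraMap_apply R' R'' B,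
        IsScalarTower.algebraMap_apply R' D Ds, ← IsScalarTower.algebraMap_apply D Ds B,
        IsScalarTower.algebraMap_apply D D'' B, ← IsScalarTower.algebraMap_apply R' D D'',
        ← IsScalarTower.algebraMap_apply R' D'' B]) fun i => by
      show algebraMap P' B (MvPolynomial.X i) = MvPolynomial.aeval _ (MvPolynomial.map _ (MvPolynomial.X i))
      rw [MvPolynomial.map_X, MvPolynomial.aeval_X]
  haveI : IsScalarTower R' P'' B := IsScalarTower.of_algebraMap_eq fun a => by
    rw [IsScalarTower.algebraMap_apply R' R'' B, IsScalarTower.algebraMap_apply R' R'' P'',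
      ← IsScalarTower.algebraMap_apply R'' P'' B]
  haveI : Algebra.IsPushout R' R'' P' P'' := inferInstance
  haveI : Algebra.IsPushout R' P' R'' P'' := Algebra.IsPushout.symm inferInstance
  haveI : Algebra.Etale P' P'' := Algebra.Etale.of_equiv (Algebra.IsPushout.equiv R' P' R'' P'')
  haveI : Algebra.Etale P'' B := Algebra.Etale.of_restrictScalars (R := P') (A := P'') (B := B)
  haveI : Algebra.Smooth R'' P'' := ⟨inferInstance, inferInstance⟩
  haveI : Algebra.Smooth R'' B := Algebra.Smooth.comp R'' P'' B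
  -- the point of `B`
  have hs'' : s'' ∉ y'' := fun h => hs ((SetLike.ext_iff.1 hoy''.over s).2 h)
  have hdisj : Disjoint (Submonoid.powers s'' : Set D'') (y'' : Set D'') :=
    (Ideal.disjoint_powers_iff_notMem_of_isPrime _).2 hs''
  let yB : Ideal B := y''.map (algebraMap D'' B)
  haveI : yB.IsPrime := IsLocalization.isPrime_of_isPrime_disjoint (Submonoid.powers s'') B y'' hy'' hdisj
  haveI : yB.LiesOver y'' :=
    ⟨(IsLocalization.under_map_of_isPrime_disjoint (Submonoid.powers s'') B hy'' hdisj).symm⟩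
  haveI : yB.LiesOver y := Ideal.LiesOver.trans yB y'' y
  haveI : yB.LiesOver p'' := Ideal.LiesOver.trans yB y'' p''
  have hbyB : Function.Bijective (Ideal.ResidueField.mapₐ y yB (Algebra.ofId D B) (Ideal.over_def yB y)) :=
    bijective_mapₐ_trans y y'' yB hby''
      (((RingHom.surjectiveOnStalks_of_isLocalization (Submonoid.powers s'') B).residueFieldMap_bijective _ _ _))
  have hptB : FlatCA.PurelyTranscendental p'' yB := pureTrans_transfer hbp'' hbyB hpt
  -- geometrically integral neighbourhood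
  obtain ⟨Rx, _, _, px, _, hnx, x, hsmx, hgix, Y, hYp, hYc, hYi, hxY⟩ := exists_geomInt_nhd m p'' yB hptB
  haveI := hYp
  have hnx' := hnx
  obtain ⟨hetx, hox, hbx⟩ := hnx'
  haveI := hetx; haveI := hox
  let SD := Rx ⊗[R''] D''
  let T := Rx ⊗[R''] B
  let Dx := Localization.Away x
  letI aD''SD : Algebra D'' SD := Algebra.TensorProduct.rightAlgebra
  letI aBT : Algebra B T := Algebra.TensorProduct.rightAlgebra
  haveI : IsScalarTower R'' D'' SD := IsScalarTower.of_algebraMap_eq fun a =>
    ((Algebra.TensorProduct.includeRight : D'' →ₐ[R''] SD).commutes a).symm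
  haveI : IsScalarTower R'' B T := IsScalarTower.of_algebraMap_eq fun a =>
    ((Algebra.TensorProduct.includeRight : B →ₐ[R''] T).commutes a).symm
  haveI pSD : Algebra.IsPushout R'' D'' Rx SD := TensorProduct.isPushout'
  haveI pT : Algebra.IsPushout R'' B Rx T := TensorProduct.isPushout'
  let χ : SD →ₐ[Rx] T := Algebra.TensorProduct.map (AlgHom.id Rx Rx) (IsScalarTower.toAlgHom R'' D'' B)
  letI aSDT : Algebra SD T := χ.toRingHom.toAlgebra
  haveI : IsScalarTower Rx SD T := IsScalarTower.of_algHom χ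
  letI aD''T : Algebra D'' T := Algebra.compHom T (algebraMap D'' B)
  haveI : IsScalarTower D'' B T := IsScalarTower.of_algebraMap_eq (R := D'') (S := B) (A := T) fun _ => rfl
  haveI : IsScalarTower D'' SD T := IsScalarTower.of_algebraMap_eq (R := D'') (S := SD) (A := T) fun d => by
    show algebraMap B T (algebraMap D'' B d) = χ ((1 : Rx) ⊗ₜ d)
    rfl
  haveI : IsScalarTower R'' SD T := IsScalarTower.of_algebraMap_eq (R := R'') (S := SD) (A := T) fun a => by
    rw [IsScalarTower.algebraMap_apply R'' Rx SD, ← IsScalarTower.algebraMap_apply Rx SD T,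
      ← IsScalarTower.algebraMap_apply R'' Rx T]
  haveI pDB : Algebra.IsPushout D'' B SD T :=
    (Algebra.IsPushout.comp_iff R'' D'' Rx SD (T := B) (T' := T)).1 inferInstance
  let s₁ := algebraMap D'' SD s''
  haveI hTs : IsLocalization.Away s₁ T := by
    have := (Algebra.isLocalization_iff_isPushout (A := B) (T := SD) (B := T) (Submonoid.powers s'')).2 pDB.symm
    rwa [Algebra.algebraMapSubmonoid, Submonoid.map_powers] at this
  obtain ⟨k, num, hnum⟩ := IsLocalization.Away.surj s₁ x
  haveI : IsLocalization.Away (algebraMap SD T num) Dx := by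
    refine IsLocalization.Away.of_associated (r := x) ?_
    exact ⟨((IsLocalization.Away.algebraMap_isUnit (S := T) s₁).pow k).unit, by rw [IsUnit.unit_spec, ← hnum]⟩
  haveI hDx : IsLocalization.Away (s₁ * num) Dx := IsLocalization.Away.mul' T Dx s₁ num
  -- the algebra structures
  haveI : Algebra.Etale R'' Rx := hetx
  letI aR'Rx : Algebra R' Rx := Algebra.compHom Rx (algebraMap R' R'')
  haveI : IsScalarTower R' R'' Rx := IsScalarTower.of_algebraMap_eq (R := R') (S := R'') (A := Rx) fun _ => rfl
  haveI : Algebra.Etale R' Rx := Algebra.Etale.comp R' R'' Rx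
  letI aDT : Algebra D T := Algebra.compHom T (algebraMap D B)
  haveI : IsScalarTower D B T := IsScalarTower.of_algebraMap_eq (R := D) (S := B) (A := T) fun _ => rfl
  haveI : IsScalarTower D D'' Dx := IsScalarTower.of_algebraMap_eq fun d => by
    rw [IsScalarTower.algebraMap_apply D T Dx, IsScalarTower.algebraMap_apply D'' SD Dx,
      IsScalarTower.algebraMap_apply D B T, IsScalarTower.algebraMap_apply D D'' B,
      ← IsScalarTower.algebraMap_apply D'' B T, IsScalarTower.algebraMap_apply D'' SD T,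
      ← IsScalarTower.algebraMap_apply SD T Dx]
  haveI : Algebra.Etale D'' SD :=
    RingHom.etale_algebraMap.1 (etale_includeRight R'' Rx D'')
  haveI : Algebra.Etale SD Dx := Algebra.Etale.of_isLocalizationAway (s₁ * num)
  haveI : Algebra.Etale D'' Dx := Algebra.Etale.comp D'' SD Dx
  haveI : Algebra.Etale D Dx := Algebra.Etale.comp D D'' Dx
  haveI : IsScalarTower R' Rx Dx := IsScalarTower.of_algebraMap_eq fun a => by
    rw [IsScalarTower.algebraMap_apply R' T Dx, IsScalarTower.algebraMap_apply Rx T Dx]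
    rfl
  haveI : IsScalarTower R' D Dx := IsScalarTower.of_algebraMap_eq fun a => by
    rw [IsScalarTower.algebraMap_apply D D'' Dx, ← IsScalarTower.algebraMap_apply R' D D'',
      IsScalarTower.algebraMap_apply R' R'' D'', IsScalarTower.algebraMap_apply D'' SD Dx,
      ← IsScalarTower.algebraMap_apply R'' D'' SD, IsScalarTower.algebraMap_apply R'' Rx SD,
      ← IsScalarTower.algebraMap_apply Rx SD Dx, IsScalarTower.algebraMap_apply R' Rx Dx,
      IsScalarTower.algebraMap_apply R' R'' Rx]
  -- the point of `Dx`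
  haveI : Y.LiesOver px := ⟨hYc.symm⟩
  haveI : Y.LiesOver yB := ⟨hYi.symm⟩
  haveI : Y.LiesOver y := by
    haveI : Y.LiesOver y'' := Ideal.LiesOver.trans Y yB y''
    exact ⟨by
      rw [hoy''.over, Ideal.over_def Y y'']
      rfl⟩
  have hdisjY : Disjoint (Submonoid.powers x : Set T) (Y : Set T) :=
    (Ideal.disjoint_powers_iff_notMem_of_isPrime _).2 hxY
  let yx : Ideal Dx := Y.map (algebraMap T Dx)
  haveI : yx.IsPrime := IsLocalization.isPrime_of_isPrime_disjoint (Submonoid.powers x) Dx Y hYp hdisjY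
  haveI : yx.LiesOver Y := ⟨(IsLocalization.under_map_of_isPrime_disjoint (Submonoid.powers x) Dx hYp hdisjY).symm⟩
  haveI : yx.LiesOver px := Ideal.LiesOver.trans yx Y px
  haveI : yx.LiesOver y := Ideal.LiesOver.trans yx Y y
  haveI : yx.LiesOver y'' := by
    refine ⟨?_⟩
    haveI : Y.LiesOver y'' := Ideal.LiesOver.trans Y yB y''
    rw [Ideal.over_def Y y'', Ideal.over_def yx Y]
    simp only [Ideal.under_def, Ideal.comap_comap]
    congr 1
  have hbY : Function.Bijective (Ideal.ResidueField.mapₐ y Y (Algebra.ofId D T) (Ideal.over_def Y y)) :=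
    bijective_mapₐ_trans y yB Y hbyB (pushout_bijective_mapₐ (R := R'') (S := B) (R' := Rx) (S' := T) hbx yB Y)
  have hbyx : Function.Bijective (Ideal.ResidueField.mapₐ y yx (Algebra.ofId D Dx) (Ideal.over_def yx y)) :=
    bijective_mapₐ_trans y Y yx hbY
      (((RingHom.surjectiveOnStalks_of_isLocalization (Submonoid.powers x) Dx).residueFieldMap_bijective _ _ _))
  have hbpx : Function.Bijective (Ideal.ResidueField.mapₐ p' px (Algebra.ofId R' Rx)
      ((Ideal.LiesOver.trans px p'' p').over)) := by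
    haveI : px.LiesOver p' := Ideal.LiesOver.trans px p'' p'
    exact bijective_mapₐ_trans p' p'' px hbp'' hbx
  haveI : px.LiesOver p' := Ideal.LiesOver.trans px p'' p'
  have hptx : FlatCA.PurelyTranscendental px yx := pureTrans_transfer hbpx hbyx hpt
  refine ⟨Rx, Dx, inferInstance, inferInstance, inferInstance, inferInstance, inferInstance, inferInstance,
    inferInstance, inferInstance, px, yx, inferInstance, inferInstance, inferInstance, inferInstance,
    ⟨inferInstance, inferInstance, hbpx⟩, ⟨inferInstance, inferInstance, hbyx⟩, hptx, hsmx, hgix, ?_⟩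
  haveI : SMulCommClass D D'' Dx := ⟨fun c d v => by rw [Algebra.smul_def c, Algebra.smul_def c, mul_smul_comm]⟩
  let h : D'' ⊗[D] M →ₗ[D''] Dx ⊗[D] M :=
    (TensorProduct.isBaseChange D M D'').lift (TensorProduct.mk D Dx M 1)
  have hh : IsBaseChange Dx h := by
    refine IsBaseChange.of_comp (TensorProduct.isBaseChange D M D'') ?_
    rw [IsBaseChange.lift_comp]
    exact TensorProduct.isBaseChange D M Dx
  exact Good.of_nhd hgood (R' := Rx) (S' := SD) (S'' := Dx) (s₁ * num) hh hnx

set_option maxHeartbeats 1600000 in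
/-- The inductive step: a good neighbourhood for the cokernel gives one for the module. -/
theorem hasGoodNhd_of_tail {R S : Type u} [CommRing R] [CommRing S] [Algebra R S] {N : Type u} [AddCommGroup N]
    [Module S N] {p : Ideal R} [p.IsPrime] {q : Ideal S} [q.IsPrime] {m : ℕ}
    (E : FlatCA.ElemDevissage R S N p q m) {r : ℕ} (hr : 0 < r) (α : (Fin r → E.D) →ₗ[E.D] E.G)
    [hP : (E.p'.map (algebraMap E.R' E.D)).IsPrime]
    (hα : Function.Bijective (α.baseChange (E.p'.map (algebraMap E.R' E.D)).ResidueField))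
    (htail : HasGoodNhd E.R' E.D (E.G ⧸ LinearMap.range α) E.p' E.y) : HasGoodNhd R S N p q := by
  obtain ⟨Rx, Dx, _, _, _, _, _, _, _, _, px, yx, _, _, _, _, hnRx, hnDx, hptx, hsmx, hgix, hgood⟩ :=
    exists_good_geomInt E.smooth E.pureTrans htail
  have hnRx' := hnRx
  obtain ⟨hetRx, hox, hbpx⟩ := hnRx'
  obtain ⟨hetDx, hoyx, hbyx⟩ := hnDx
  obtain ⟨hetS', hoq', hbq'⟩ := E.etaleS
  haveI := hetRx; haveI := hox; haveI := hetDx; haveI := hetS'; haveI := hoq'
  haveI := E.finiteDC
  haveI := E.finiteG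
  haveI := E.fpC
  haveI : Algebra.Smooth E.R' E.D := smooth_of_smoothRelDim E.smooth
  -- the closed subscheme
  let Cx := Dx ⊗[E.D] E.C
  letI aCCx : Algebra E.C Cx := Algebra.TensorProduct.rightAlgebra
  haveI : IsScalarTower E.D E.C Cx := IsScalarTower.of_algebraMap_eq (R := E.D) (S := E.C) (A := Cx) fun d =>
    ((Algebra.TensorProduct.includeRight : E.C →ₐ[E.D] Cx).commutes d).symm
  haveI : Algebra.IsPushout E.D E.C Dx Cx := TensorProduct.isPushout'
  haveI : Algebra.IsPushout E.D Dx E.C Cx := Algebra.IsPushout.symm inferInstance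
  haveI : IsScalarTower E.R' Rx Cx := inferInstance
  letI aS'Cx : Algebra E.S' Cx := Algebra.compHom Cx (algebraMap E.S' E.C)
  haveI : IsScalarTower E.S' E.C Cx := IsScalarTower.of_algebraMap_eq (R := E.S') (S := E.C) (A := Cx) fun _ => rfl
  haveI : IsScalarTower E.R' E.S' Cx := IsScalarTower.of_algebraMap_eq fun a => by
    rw [IsScalarTower.algebraMap_apply E.S' E.C Cx, ← IsScalarTower.algebraMap_apply E.R' E.S' E.C,
      IsScalarTower.algebraMap_apply E.R' E.D E.C, ← IsScalarTower.algebraMap_apply E.D E.C Cx,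
      IsScalarTower.algebraMap_apply E.D Dx Cx, ← IsScalarTower.algebraMap_apply E.R' E.D Dx,
      IsScalarTower.algebraMap_apply E.R' Rx Dx, ← IsScalarTower.algebraMap_apply Rx Dx Cx,
      IsScalarTower.algebraMap_apply E.R' Rx Cx]
  haveI : Algebra.Etale E.C Cx := by
    haveI : Algebra.IsPushout E.D E.C Dx Cx := TensorProduct.isPushout'
    exact Algebra.Etale.of_equiv (Algebra.IsPushout.equiv E.D E.C Dx Cx)
  obtain ⟨Sx, _, aS'Sx, aRxSx, aR'Sx, tA, tB, aSxCx, tC, tD, hetSx, hsurjx, hpushx⟩ :=
    exists_etale_lift (R := E.R') (S := E.S') (R₁ := Rx) (C := E.C) (C₁ := Cx) E.surjC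
  haveI := hpushx
  -- the points
  obtain ⟨zx, _, _, _⟩ := pushout_exists_prime (S := E.C) (S' := Cx) (p' := yx) hbyx E.z
  let qx : Ideal Sx := zx.under Sx
  haveI : zx.LiesOver px := Ideal.LiesOver.trans zx yx px
  haveI : qx.LiesOver px := ⟨(Ideal.over_def zx px).trans (Ideal.under_under (A := Rx) (B := Sx) zx).symm⟩
  haveI : zx.LiesOver E.q' := Ideal.LiesOver.trans zx E.z E.q'
  haveI : qx.LiesOver E.q' := ⟨(Ideal.over_def zx E.q').trans (Ideal.under_under (A := E.S') (B := Sx) zx).symm⟩
  haveI : zx.LiesOver qx := ⟨rfl⟩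
  have hbqx : Function.Bijective (Ideal.ResidueField.mapₐ E.q' qx (Algebra.ofId E.S' Sx) (Ideal.over_def qx E.q')) := by
    have h1 : Function.Bijective (Ideal.ResidueField.mapₐ E.q' E.z (Algebra.ofId E.S' E.C) (Ideal.over_def E.z E.q')) :=
      bijective_mapₐ_of_quot E.q' E.z fun t => by
        obtain ⟨a, rfl⟩ := E.surjC t
        exact ⟨a, 1, fun h => Ideal.IsPrime.ne_top E.hq' (E.q'.eq_top_iff_one.2 h), by simp⟩
    exact bijective_mapₐ_of_trans E.q' qx zx
      (bijective_mapₐ_trans E.q' E.z zx h1 (pushout_bijective_mapₐ (S := E.C) (S' := Cx) (p' := yx) hbyx E.z zx))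
  have huniqx : ∀ (Q : Ideal Cx) [Q.IsPrime], Q.LiesOver yx → Q = zx := by
    intro Q _ hQ
    haveI := hQ
    haveI : (Q.under E.C).LiesOver E.y := ⟨by
      rw [Ideal.over_def yx E.y, Ideal.over_def Q yx]
      simp only [Ideal.under_def, Ideal.comap_comap, ← IsScalarTower.algebraMap_eq]⟩
    refine pushout_prime_le (S := E.C) hbyx Q zx ?_
    rw [E.uniq (Q.under E.C) inferInstance, ← Ideal.over_def zx E.z]
  -- the module
  haveI : Module.Finite E.D E.G := Module.Finite.trans E.C E.G
  haveI : Module.Finite Dx Cx := Module.Finite.base_change E.D Dx E.C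
  haveI : Algebra.FinitePresentation Sx Cx :=
    Algebra.FinitePresentation.equiv (Algebra.IsPushout.equiv E.S' Sx E.C Cx)
  letI aSSx : Algebra S Sx := Algebra.compHom Sx (algebraMap S E.S')
  haveI : IsScalarTower S E.S' Sx := IsScalarTower.of_algebraMap_eq (R := S) (S := E.S') (A := Sx) fun _ => rfl
  letI aSCx : Algebra S Cx := Algebra.compHom Cx (algebraMap S Sx)
  haveI : IsScalarTower S Sx Cx := IsScalarTower.of_algebraMap_eq (R := S) (S := Sx) (A := Cx) fun _ => rfl
  haveI : IsScalarTower S E.S' Cx := IsScalarTower.of_algebraMap_eq (R := S) (S := E.S') (A := Cx) fun a => by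
    rw [IsScalarTower.algebraMap_apply S Sx Cx, IsScalarTower.algebraMap_apply S E.S' Sx,
      ← IsScalarTower.algebraMap_apply E.S' Sx Cx]
  haveI : SMulCommClass E.C Dx Cx := ⟨fun c d v => by rw [Algebra.smul_def c, Algebra.smul_def c, mul_smul_comm]⟩
  haveI : SMulCommClass E.C E.D Cx := ⟨fun c d v => by rw [Algebra.smul_def c, Algebra.smul_def c, mul_smul_comm]⟩
  haveI : SMulCommClass E.C Sx Cx := ⟨fun c d v => by rw [Algebra.smul_def c, Algebra.smul_def c, mul_smul_comm]⟩
  haveI : SMulCommClass E.C E.S' Cx := ⟨fun c d v => by rw [Algebra.smul_def c, Algebra.smul_def c, mul_smul_comm]⟩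
  haveI : SMulCommClass E.C S Cx := ⟨fun c d v => by rw [Algebra.smul_def c, Algebra.smul_def c, mul_smul_comm]⟩
  let Gx := Cx ⊗[E.C] E.G
  let jD : E.G →ₗ[E.D] Gx := ((TensorProduct.mk E.C Cx E.G) 1).restrictScalars E.D
  have hjD : IsBaseChange Dx jD := isBaseChange_of_pushout E.G
  let jS : E.G →ₗ[E.S'] Gx := ((TensorProduct.mk E.C Cx E.G) 1).restrictScalars E.S'
  have hjS : IsBaseChange Sx jS := isBaseChange_of_pushout E.G
  have hjS' : IsBaseChange Sx ((jS.restrictScalars E.S').comp E.iso.toLinearMap) :=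
    (IsBaseChange.ofEquiv E.iso).comp hjS
  have hN : IsBaseChange Sx ((((jS.restrictScalars E.S').comp E.iso.toLinearMap).restrictScalars S).comp E.f) :=
    E.isBaseChange.comp hjS'
  obtain ⟨αx, hαx⟩ := exists_map_baseChange (D₂ := Dx) (G₂ := Gx) α jD
  haveI : Algebra.Smooth Rx Dx := smooth_of_smoothRelDim hsmx
  haveI := isPrime_map px (geomIrred_of_geomIntegral hgix)
  haveI := liesOver_map px (geomIrred_of_geomIntegral hgix)
  haveI := liesOver_map E.p' (geomIrred_of_geomIntegral E.geomInt)
  haveI hwo : (px.map (algebraMap Rx Dx)).LiesOver (E.p'.map (algebraMap E.R' E.D)) := comap_map_eq E.p' px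
  have hbijx : Function.Bijective (αx.baseChange (px.map (algebraMap Rx Dx)).ResidueField) := by
    letI : Algebra (E.p'.map (algebraMap E.R' E.D)).ResidueField (px.map (algebraMap Rx Dx)).ResidueField :=
      (Ideal.ResidueField.mapₐ _ _ (Algebra.ofId E.D Dx) hwo.over).toRingHom.toAlgebra
    haveI : IsScalarTower E.D (E.p'.map (algebraMap E.R' E.D)).ResidueField (px.map (algebraMap Rx Dx)).ResidueField :=
      IsScalarTower.of_algHom (Ideal.ResidueField.mapₐ _ _ (Algebra.ofId E.D Dx) hwo.over)
    exact bijective_baseChange_ext hjD hαx hα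
  let st : Step Rx Sx (Sx ⊗[S] N) px qx :=
    { C := Cx
      D := Dx
      G := Gx
      z := zx
      y := yx
      iso := hN.equiv
      surj := hsurjx
      fp := inferInstance
      finiteDC := inferInstance
      finiteG := Module.Finite.base_change E.C Cx E.G
      uniq := huniqx
      pureTrans := hptx
      n := m
      smooth := hsmx
      geomInt := hgix
      r := r
      pos := hr
      α := αx
      bij := hbijx }
  -- the cokernels agree
  have hgoodK : Good Rx Dx (Gx ⧸ LinearMap.range αx) px yx :=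
    hgood.of_linearEquiv (isBaseChange_coker hjD hαx).equiv
  letI aRRx : Algebra R Rx := Algebra.compHom Rx (algebraMap R E.R')
  haveI : IsScalarTower R E.R' Rx := IsScalarTower.of_algebraMap_eq (R := R) (S := E.R') (A := Rx) fun _ => rfl
  letI aRSx : Algebra R Sx := Algebra.compHom Sx (algebraMap R Rx)
  haveI : IsScalarTower R Rx Sx := IsScalarTower.of_algebraMap_eq (R := R) (S := Rx) (A := Sx) fun _ => rfl
  haveI : IsScalarTower R S Sx := IsScalarTower.of_algebraMap_eq (R := R) (S := S) (A := Sx) fun a => by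
    rw [IsScalarTower.algebraMap_apply R Rx Sx, IsScalarTower.algebraMap_apply R E.R' Rx,
      ← IsScalarTower.algebraMap_apply E.R' Rx Sx, IsScalarTower.algebraMap_apply S E.S' Sx,
      ← IsScalarTower.algebraMap_apply R S E.S', IsScalarTower.algebraMap_apply R E.R' E.S',
      ← IsScalarTower.algebraMap_apply E.R' E.S' Sx]
  refine ⟨Rx, Sx, inferInstance, inferInstance, inferInstance, inferInstance, inferInstance, inferInstance,
    inferInstance, inferInstance, px, qx, inferInstance, inferInstance,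
    isEtaleNhd_trans E.etaleR hnRx,
    isEtaleNhd_trans E.etaleS ⟨hetSx, inferInstance, hbqx⟩, inferInstance, Step.good st (Or.inr hgoodK)⟩

/-- Near a point of the support of its fibre, a finite module has a good neighbourhood. -/
theorem hasGoodNhd : ∀ (n : ℕ) {R S : Type u} [CommRing R] [CommRing S] [Algebra R S] [Algebra.FiniteType R S]
    (N : Type u) [AddCommGroup N] [Module S N] [Module.Finite S N] (p : Ideal R) [p.IsPrime] (q : Ideal S)
    [q.IsPrime] [q.LiesOver p] (x : PrimeSpectrum (p.Fiber S)), x.asIdeal = FlatCA.fiberIdeal p q →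
    ∀ hx : x ∈ Module.support (p.Fiber S) (FlatCA.fiberMod p S N),
    FlatMor.localDim (Module.support (p.Fiber S) (FlatCA.fiberMod p S N)) ⟨x, hx⟩ = (n : WithBot ℕ∞) →
    HasGoodNhd R S N p q := by
  intro n
  induction n using Nat.strong_induction_on with
  | _ n IH =>
  intro R S _ _ _ _ N _ _ _ p _ q _ _ x hxq hx hn
  letI : Module R N := Module.compHom N (algebraMap R S)
  haveI : IsScalarTower R S N := IsScalarTower.of_algebraMap_smul fun _ _ => rfl
  obtain ⟨E⟩ := nonempty_elemDevissage N p q n x hxq hx hn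
  haveI := E.finiteDC
  haveI := E.finiteG
  haveI : Module.Finite E.D E.G := Module.Finite.trans E.C E.G
  haveI : Algebra.Smooth E.R' E.D := smooth_of_smoothRelDim E.smooth
  have hirr := geomIrred_of_geomIntegral E.geomInt
  haveI := isPrime_map E.p' hirr
  have hxc : x.asIdeal.comap (Algebra.TensorProduct.includeRight (R := R) (A := p.ResidueField) (B := S)).toRingHom = q := by
    obtain ⟨x', hx', hx'c⟩ := exists_fiber_point p q
    rwa [show x = x' from PrimeSpectrum.ext (hxq.trans hx'.symm)]
  have hgen := ElemDevissage_generic_mem_support E x hxc hx hn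
  obtain ⟨r, α, hr, hα⟩ := exists_map_bijective_at E.G _ hgen
  let M₁ := E.G ⧸ LinearMap.range α
  by_cases hy : (⟨E.y, inferInstance⟩ : PrimeSpectrum E.D) ∈ Module.support E.D M₁
  · refine hasGoodNhd_of_tail E hr α hα ?_
    haveI : Algebra.FiniteType E.R' E.D := inferInstance
    obtain ⟨x₁, hx₁q, hx₁c⟩ := exists_fiber_point E.p' E.y
    have hx₁ : x₁ ∈ Module.support (E.p'.Fiber E.D) (FlatCA.fiberMod E.p' E.D M₁) := by
      refine (mem_support_fiberMod_iff E.p' M₁ x₁).2 ?_
      convert hy using 2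
      exact hx₁c
    obtain ⟨n₁, hn₁⟩ := exists_localDim_support E.p' M₁ x₁ hx₁
    have hlt : n₁ < n := by
      have h1 := (TopDim50.localDim_le_dim (⟨x₁, hx₁⟩ : Module.support (E.p'.Fiber E.D)
        (FlatCA.fiberMod E.p' E.D M₁))).trans_lt
          (exists_dim_support_lt E.p' E.smooth hirr M₁ (notMem_support_coker _ α hα))
      rw [hn₁] at h1
      exact_mod_cast h1
    exact IH n₁ hlt M₁ E.p' E.y x₁ hx₁q hx₁ hn₁
  · refine ⟨E.R', E.S', inferInstance, inferInstance, inferInstance, inferInstance, inferInstance, inferInstance,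
      inferInstance, inferInstance, E.p', E.q', inferInstance, inferInstance, E.etaleR, E.etaleS, inferInstance, ?_⟩
    let st : Step E.R' E.S' (E.S' ⊗[S] N) E.p' E.q' :=
      { C := E.C
        D := E.D
        G := E.G
        z := E.z
        y := E.y
        iso := E.isBaseChange.equiv.trans E.iso
        surj := E.surjC
        fp := E.fpC
        finiteDC := E.finiteDC
        finiteG := E.finiteG
        uniq := E.uniq
        pureTrans := E.pureTrans
        n := n
        smooth := E.smooth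
        geomInt := E.geomInt
        r := r
        pos := hr
        α := α
        bij := hα }
    exact Step.good st (Or.inl (exists_smul_eq_zero_of_notMem_support M₁ _ hy))


set_option maxHeartbeats 800000 in
/-- A complete dévissage after shrinking, from goodness. -/
theorem Good.exists_completeDevissage {R S : Type u} [CommRing R] [CommRing S] [Algebra R S] {N : Type u}
    [AddCommGroup N] [Module S N] {p : Ideal R} [p.IsPrime] {q : Ideal S} [q.IsPrime] [q.LiesOver p]
    (hG : Good R S N p q) :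
    ∃ (R' S' : Type u) (_ : CommRing R') (_ : CommRing S') (_ : Algebra R R') (_ : Algebra S S') (_ : Algebra R' S')
      (_ : Algebra R S') (_ : IsScalarTower R R' S') (_ : IsScalarTower R S S')
      (p' : Ideal R') (q' : Ideal S') (_ : p'.IsPrime) (_ : q'.IsPrime),
      FlatCA.IsEtaleNhd R R' p p' ∧ FlatCA.IsEtaleNhd S S' q q' ∧ q'.LiesOver p' ∧
      ∀ (N' : Type u) [AddCommGroup N'] [Module S' N'] [Module S N'] [IsScalarTower S S' N']
        (f : N →ₗ[S] N'), IsBaseChange S' f → FlatCA.HasCompleteDevissageAt R' S' N' p' q' := by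
  haveI : q.LiesOver q := ⟨by ext; simp⟩
  haveI : p.LiesOver p := ⟨by ext; simp⟩
  obtain ⟨g, hg, h₀, hh₀, hrest⟩ :=
    hG R S p q (isEtaleNhd_refl p) 1 fun h => Ideal.IsPrime.ne_top ‹q.IsPrime› (q.eq_top_iff_one.2 h)
  let R₂ := Localization.Away h₀
  let x := 1 * g * algebraMap R S h₀
  let S₂ := Localization.Away x
  have hx : x ∉ q := fun hm => by
    rw [show x = g * algebraMap R S h₀ from congrArg (· * algebraMap R S h₀) (one_mul g)] at hm
    exact (‹q.IsPrime›.mem_or_mem hm).elim hg fun h => hh₀ ((SetLike.ext_iff.1 (Ideal.over_def q p) h₀).2 h)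
  letI a22 : Algebra R₂ S₂ := (IsLocalization.Away.lift h₀ (g := algebraMap R S₂) (by
    rw [IsScalarTower.algebraMap_apply R S S₂]
    exact IsLocalization.Away.isUnit_of_dvd (x := x) (Dvd.intro_left _ rfl))).toAlgebra
  haveI : IsScalarTower R R₂ S₂ := IsScalarTower.of_algebraMap_eq fun r => (IsLocalization.Away.lift_eq h₀ _ r).symm
  have hd₁ : Disjoint (Submonoid.powers h₀ : Set R) (p : Set R) :=
    (Ideal.disjoint_powers_iff_notMem_of_isPrime _).2 hh₀
  have hd₂ : Disjoint (Submonoid.powers x : Set S) (q : Set S) :=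
    (Ideal.disjoint_powers_iff_notMem_of_isPrime _).2 hx
  let p₂ : Ideal R₂ := p.map (algebraMap R R₂)
  haveI : p₂.IsPrime := IsLocalization.isPrime_of_isPrime_disjoint (Submonoid.powers h₀) R₂ p ‹_› hd₁
  haveI : p₂.LiesOver p := ⟨(IsLocalization.under_map_of_isPrime_disjoint (Submonoid.powers h₀) R₂ ‹p.IsPrime› hd₁).symm⟩
  let q₂ : Ideal S₂ := q.map (algebraMap S S₂)
  haveI : q₂.IsPrime := IsLocalization.isPrime_of_isPrime_disjoint (Submonoid.powers x) S₂ q ‹_› hd₂
  haveI : q₂.LiesOver q := ⟨(IsLocalization.under_map_of_isPrime_disjoint (Submonoid.powers x) S₂ ‹q.IsPrime› hd₂).symm⟩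
  haveI : q₂.LiesOver p := Ideal.LiesOver.trans q₂ q p
  haveI : Algebra.Etale R R₂ := Algebra.Etale.of_isLocalizationAway h₀
  haveI : Algebra.Etale S S₂ := Algebra.Etale.of_isLocalizationAway x
  have h₂ : q₂.LiesOver p₂ := ⟨by
    show p.map (algebraMap R R₂) = q₂.under R₂
    rw [← IsLocalization.map_under (Submonoid.powers h₀) R₂ (q₂.under R₂), Ideal.under_under, ← Ideal.over_def q₂ p]⟩
  haveI := h₂
  refine ⟨R₂, S₂, inferInstance, inferInstance, inferInstance, inferInstance, inferInstance, inferInstance,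
    inferInstance, inferInstance, p₂, q₂, inferInstance, inferInstance,
    ⟨inferInstance, inferInstance,
      (RingHom.surjectiveOnStalks_of_isLocalization (Submonoid.powers h₀) R₂).residueFieldMap_bijective _ _ _⟩,
    ⟨inferInstance, inferInstance,
      (RingHom.surjectiveOnStalks_of_isLocalization (Submonoid.powers x) S₂).residueFieldMap_bijective _ _ _⟩,
    h₂, fun N' _ _ _ _ f hf => ?_⟩
  exact hrest h₀ dvd_rfl hh₀ R₂ S₂ N' f hf p₂ q₂

/-- Complete dévissages exist after étale localisation near a point of the fibre support. -/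
theorem exists_hasCompleteDevissageAt {R S : Type u} [CommRing R] [CommRing S] [Algebra R S] [Algebra.FiniteType R S]
    (N : Type u) [AddCommGroup N] [Module S N] [Module.Finite S N]
    (p : Ideal R) [p.IsPrime] (q : Ideal S) [q.IsPrime] [q.LiesOver p]
    (hsupp : ∃ x ∈ Module.support (p.Fiber S) (FlatCA.fiberMod p S N), x.asIdeal = FlatCA.fiberIdeal p q) :
    ∃ (R' S' : Type u) (_ : CommRing R') (_ : CommRing S') (_ : Algebra R R') (_ : Algebra S S') (_ : Algebra R' S')
      (_ : Algebra R S') (_ : IsScalarTower R R' S') (_ : IsScalarTower R S S')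
      (p' : Ideal R') (q' : Ideal S') (_ : p'.IsPrime) (_ : q'.IsPrime),
      FlatCA.IsEtaleNhd R R' p p' ∧ FlatCA.IsEtaleNhd S S' q q' ∧ q'.LiesOver p' ∧
      ∀ (N' : Type u) [AddCommGroup N'] [Module S' N'] [Module S N'] [IsScalarTower S S' N']
        (f : N →ₗ[S] N'), IsBaseChange S' f → FlatCA.HasCompleteDevissageAt R' S' N' p' q' := by
  obtain ⟨x, hx, hxq⟩ := hsupp
  obtain ⟨n, hn⟩ := exists_localDim_support p N x hx
  obtain ⟨R₁, S₁, _, _, _, _, _, _, _, _, p₁, q₁, _, _, hnR, hnS, hqp, hgood⟩ := hasGoodNhd n N p q x hxq hx hn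
  haveI := hqp
  obtain ⟨R₂, S₂, _, _, _, _, _, _, _, _, p₂, q₂, _, _, hnR₂, hnS₂, hqp₂, hdev⟩ := hgood.exists_completeDevissage
  letI : Algebra R R₂ := Algebra.compHom R₂ (algebraMap R R₁)
  haveI : IsScalarTower R R₁ R₂ := IsScalarTower.of_algebraMap_eq (R := R) (S := R₁) (A := R₂) fun _ => rfl
  letI : Algebra S S₂ := Algebra.compHom S₂ (algebraMap S S₁)
  haveI : IsScalarTower S S₁ S₂ := IsScalarTower.of_algebraMap_eq (R := S) (S := S₁) (A := S₂) fun _ => rfl
  letI : Algebra R S₂ := Algebra.compHom S₂ (algebraMap R R₂)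
  haveI : IsScalarTower R R₂ S₂ := IsScalarTower.of_algebraMap_eq (R := R) (S := R₂) (A := S₂) fun _ => rfl
  haveI : IsScalarTower R S S₂ := IsScalarTower.of_algebraMap_eq (R := R) (S := S) (A := S₂) fun a => by
    rw [IsScalarTower.algebraMap_apply R R₂ S₂, IsScalarTower.algebraMap_apply R R₁ R₂,
      ← IsScalarTower.algebraMap_apply R₁ R₂ S₂, IsScalarTower.algebraMap_apply S S₁ S₂,
      ← IsScalarTower.algebraMap_apply R S S₁, IsScalarTower.algebraMap_apply R R₁ S₁,
      ← IsScalarTower.algebraMap_apply R₁ S₁ S₂]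
  refine ⟨R₂, S₂, inferInstance, inferInstance, inferInstance, inferInstance, inferInstance, inferInstance,
    inferInstance, inferInstance, p₂, q₂, inferInstance, inferInstance, isEtaleNhd_trans hnR hnR₂,
    isEtaleNhd_trans hnS hnS₂, hqp₂, fun N' _ _ _ _ f hf => ?_⟩
  letI : Module S₁ N' := Module.compHom N' (algebraMap S₁ S₂)
  haveI : IsScalarTower S₁ S₂ N' := IsScalarTower.of_algebraMap_smul fun _ _ => rfl
  haveI : IsScalarTower S S₁ N' := IsScalarTower.of_algebraMap_smul fun a v => by
    show algebraMap S₁ S₂ (algebraMap S S₁ a) • v = a • v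
    rw [← IsScalarTower.algebraMap_apply, algebraMap_smul]
  refine hdev N' ((TensorProduct.isBaseChange S N S₁).lift f) (IsBaseChange.of_comp (TensorProduct.isBaseChange S N S₁) ?_)
  rwa [IsBaseChange.lift_comp]

end Groth.Agent.RG29
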