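import Groth.Agent.FlatCrit65.Point.Tools
import Groth.Agent.RelFP3.Basic
import Mathlib

/-!
Transfer of finite presentation of localized modules along base change and along finite algebras.
-/

set_option autoImplicit false

universe u

open TensorProduct

namespace Groth.Agent.RG29

/-- The map between localizations along an algebra map. -/
noncomputable def locMap {S S' : Type u} [CommRing S] [CommRing S'] [Algebra S S'] (T : Submonoid S) (T' : Submonoid S')
    (hT : ∀ t ∈ T, ∃ t' ∈ T', algebraMap S S' t ∣ t') : Localization T →+* Localization T' :=
  IsLocalization.lift (M := T) (g := (algebraMap S' (Localization T')).comp (algebraMap S S')) fun t => by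
    obtain ⟨t', ht', hdvd⟩ := hT t t.2
    exact isUnit_of_dvd_unit (map_dvd (algebraMap S' (Localization T')) hdvd)
      (IsLocalization.map_units (Localization T') ⟨t', ht'⟩)

theorem isScalarTower_locMap {S S' : Type u} [CommRing S] [CommRing S'] [Algebra S S'] (T : Submonoid S)
    (T' : Submonoid S') (hT : ∀ t ∈ T, ∃ t' ∈ T', algebraMap S S' t ∣ t') :
    letI := (locMap T T' hT).toAlgebra
    IsScalarTower S (Localization T) (Localization T') := by
  letI := (locMap T T' hT).toAlgebra
  exact IsScalarTower.of_algebraMap_eq fun s => by
    show algebraMap S (Localization T') s = locMap T T' hT (algebraMap S (Localization T) s)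
    rw [locMap, IsLocalization.lift_eq, RingHom.comp_apply, ← IsScalarTower.algebraMap_apply]

section BaseChange

variable {S S' : Type u} [CommRing S] [CommRing S'] [Algebra S S'] {N M : Type u} [AddCommGroup N] [Module S N]
  [AddCommGroup M] [Module S' M] [Module S M] [IsScalarTower S S' M] {f : N →ₗ[S] M}

/-- Localized base changes are base changes of the localizations. -/
theorem exists_isBaseChange_localized (hf : IsBaseChange S' f) (T : Submonoid S) (T' : Submonoid S')
    (hT : ∀ t ∈ T, ∃ t' ∈ T', algebraMap S S' t ∣ t') :
    letI := (locMap T T' hT).toAlgebra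
    letI := Module.compHom (LocalizedModule T' M) (locMap T T' hT)
    haveI : IsScalarTower (Localization T) (Localization T') (LocalizedModule T' M) :=
      IsScalarTower.of_algebraMap_smul fun _ _ => rfl
    ∃ j : LocalizedModule T N →ₗ[Localization T] LocalizedModule T' M, IsBaseChange (Localization T') j := by
  letI := (locMap T T' hT).toAlgebra
  letI := Module.compHom (LocalizedModule T' M) (locMap T T' hT)
  haveI : IsScalarTower (Localization T) (Localization T') (LocalizedModule T' M) :=
    IsScalarTower.of_algebraMap_smul fun _ _ => rfl
  haveI := isScalarTower_locMap T T' hT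
  haveI : IsScalarTower S (Localization T') (LocalizedModule T' M) := IsScalarTower.of_algebraMap_smul fun c m => by
    rw [IsScalarTower.algebraMap_apply S S' (Localization T'), algebraMap_smul, algebraMap_smul]
  haveI : IsScalarTower S (Localization T) (LocalizedModule T' M) := IsScalarTower.of_algebraMap_smul fun c m => by
    rw [← algebraMap_smul (Localization T') (algebraMap S (Localization T) c), ← IsScalarTower.algebraMap_apply,
      algebraMap_smul]
  have hN : IsBaseChange (Localization T) (LocalizedModule.mkLinearMap T N) :=
    IsLocalizedModule.isBaseChange T _ _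
  have hM : IsBaseChange (Localization T') (LocalizedModule.mkLinearMap T' M) :=
    IsLocalizedModule.isBaseChange T' _ _
  have hNM := hf.comp hM
  refine ⟨hN.lift ((LocalizedModule.mkLinearMap T' M).restrictScalars S ∘ₗ f), IsBaseChange.of_comp hN ?_⟩
  rw [hN.lift_comp]
  exact hNM

/-- Finite presentation of localizations is preserved by base change. -/
theorem fp_localized_baseChange (hf : IsBaseChange S' f) (T : Submonoid S) (T' : Submonoid S')
    (hT : ∀ t ∈ T, ∃ t' ∈ T', algebraMap S S' t ∣ t')
    [Module.FinitePresentation (Localization T) (LocalizedModule T N)] :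
    Module.FinitePresentation (Localization T') (LocalizedModule T' M) := by
  letI := (locMap T T' hT).toAlgebra
  letI := Module.compHom (LocalizedModule T' M) (locMap T T' hT)
  haveI : IsScalarTower (Localization T) (Localization T') (LocalizedModule T' M) :=
    IsScalarTower.of_algebraMap_smul fun _ _ => rfl
  obtain ⟨j, hj⟩ := exists_isBaseChange_localized hf T T' hT
  exact FinitePresentation.of_isBaseChange j hj

/-- Finite presentation of localizations descends along a faithfully flat map of localizations. -/
theorem fp_localized_descend (hf : IsBaseChange S' f) (T : Submonoid S) (T' : Submonoid S')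
    (hT : ∀ t ∈ T, ∃ t' ∈ T', algebraMap S S' t ∣ t')
    (hff : letI := (locMap T T' hT).toAlgebra
      Module.FaithfullyFlat (Localization T) (Localization T'))
    [Module.FinitePresentation (Localization T') (LocalizedModule T' M)] :
    Module.FinitePresentation (Localization T) (LocalizedModule T N) := by
  letI := (locMap T T' hT).toAlgebra
  letI := Module.compHom (LocalizedModule T' M) (locMap T T' hT)
  haveI : IsScalarTower (Localization T) (Localization T') (LocalizedModule T' M) :=
    IsScalarTower.of_algebraMap_smul fun _ _ => rfl
  haveI := hff
  obtain ⟨j, hj⟩ := exists_isBaseChange_localized hf T T' hT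
  haveI : Module.FinitePresentation (Localization T') (Localization T' ⊗[Localization T] LocalizedModule T N) :=
    Module.finitePresentation_of_surjective hj.equiv.symm.toLinearMap hj.equiv.symm.surjective
      (by rw [LinearEquiv.ker]; exact Submodule.fg_bot)
  exact FlatCrit65.finitePresentation_of_faithfullyFlat (Localization T') _

end BaseChange

/-- A localization over an algebra is a localization over the base when the submonoids have the same
saturation. -/
theorem isLocalizedModule_restrict {D C : Type u} [CommRing D] [CommRing C] [Algebra D C] (T : Submonoid D)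
    (T' : Submonoid C) (h1 : ∀ t ∈ T, ∃ t' ∈ T', algebraMap D C t ∣ t')
    (h2 : ∀ c ∈ T', ∃ t ∈ T, c ∣ algebraMap D C t) {M M' : Type u} [AddCommGroup M] [Module C M] [Module D M]
    [IsScalarTower D C M] [AddCommGroup M'] [Module C M'] [Module D M'] [IsScalarTower D C M'] (f : M →ₗ[C] M')
    [IsLocalizedModule T' f] : IsLocalizedModule T (f.restrictScalars D) where
  map_units t := by
    obtain ⟨t', ht', hdvd⟩ := h1 t t.2
    obtain ⟨e, he⟩ := hdvd
    have hu : IsUnit (algebraMap C (Module.End C M') (algebraMap D C t)) := by
      have h := IsLocalizedModule.map_units f (⟨t', ht'⟩ : T')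
      rw [show ((⟨t', ht'⟩ : T') : C) = algebraMap D C t * e from he, map_mul,
        ((Commute.all (algebraMap D C t) e).map (algebraMap C (Module.End C M'))).isUnit_mul_iff] at h
      exact h.1
    rw [Module.End.isUnit_iff] at hu ⊢
    convert hu using 1
    funext x
    simp [Module.algebraMap_end_apply]
  surj x := by
    obtain ⟨⟨m, c⟩, hc⟩ := IsLocalizedModule.surj T' f x
    obtain ⟨t, ht, e, he⟩ := h2 c c.2
    refine ⟨⟨e • m, ⟨t, ht⟩⟩, ?_⟩
    show t • x = f (e • m)
    rw [map_smul, ← hc, Submonoid.smul_def, ← algebraMap_smul C t x, he, mul_comm, mul_smul]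
  exists_of_eq {x₁ x₂} h := by
    obtain ⟨c, hc⟩ := IsLocalizedModule.exists_of_eq (S := T') (f := f) h
    obtain ⟨t, ht, e, he⟩ := h2 c c.2
    refine ⟨⟨t, ht⟩, ?_⟩
    show t • x₁ = t • x₂
    rw [← algebraMap_smul C t x₁, ← algebraMap_smul C t x₂, he, mul_comm, mul_smul, mul_smul]
    exact congrArg (e • ·) hc

set_option maxHeartbeats 800000 in
/-- Finite presentation of localizations may be tested over an algebra finitely presented as a module. -/
theorem fp_localized_iff {D C : Type u} [CommRing D] [CommRing C] [Algebra D C] [Module.FinitePresentation D C]
    (T : Submonoid D) (T' : Submonoid C) (h1 : ∀ t ∈ T, ∃ t' ∈ T', algebraMap D C t ∣ t')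
    (h2 : ∀ c ∈ T', ∃ t ∈ T, c ∣ algebraMap D C t) (M : Type u) [AddCommGroup M] [Module C M] [Module D M]
    [IsScalarTower D C M] :
    Module.FinitePresentation (Localization T') (LocalizedModule T' M) ↔
      Module.FinitePresentation (Localization T) (LocalizedModule T M) := by
  letI := (locMap T T' h1).toAlgebra
  haveI := isScalarTower_locMap T T' h1
  letI := Module.compHom (LocalizedModule T' M) (locMap T T' h1)
  haveI : IsScalarTower (Localization T) (Localization T') (LocalizedModule T' M) :=
    IsScalarTower.of_algebraMap_smul fun _ _ => rfl
  haveI : IsScalarTower D (Localization T') (LocalizedModule T' M) := IsScalarTower.of_algebraMap_smul fun c m => by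
    rw [IsScalarTower.algebraMap_apply D C (Localization T'), algebraMap_smul, algebraMap_smul]
  haveI : IsScalarTower D (Localization T) (LocalizedModule T' M) := IsScalarTower.of_algebraMap_smul fun c m => by
    rw [← algebraMap_smul (Localization T') (algebraMap D (Localization T) c), ← IsScalarTower.algebraMap_apply,
      algebraMap_smul]
  haveI := isLocalizedModule_restrict T T' h1 h2 (LocalizedModule.mkLinearMap T' M)
  haveI := isLocalizedModule_restrict T T' h1 h2 (Algebra.linearMap C (Localization T'))
  haveI : Module.FinitePresentation (Localization T) (Localization T') :=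
    FinitePresentation.of_isBaseChange ((Algebra.linearMap C (Localization T')).restrictScalars D)
      (IsLocalizedModule.isBaseChange T _ _)
  let e : LocalizedModule T M ≃ₗ[Localization T] LocalizedModule T' M :=
    (IsLocalizedModule.iso T ((LocalizedModule.mkLinearMap T' M).restrictScalars D)).extendScalarsOfIsLocalization T
      (Localization T)
  rw [← RelFP3.fp_iff_of_fp (Localization T) (Localization T') (LocalizedModule T' M)]
  constructor
  · intro _
    exact Module.finitePresentation_of_surjective e.symm.toLinearMap e.symm.surjective
      (by rw [LinearEquiv.ker]; exact Submodule.fg_bot)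
  · intro _
    exact Module.finitePresentation_of_surjective e.toLinearMap e.surjective
      (by rw [LinearEquiv.ker]; exact Submodule.fg_bot)

end Groth.Agent.RG29
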