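import Groth.Agent.RG29.FlatSpread
import Groth.Agent.RG29.FPTransfer
import Groth.Prelude.Def_FlatCA
import Mathlib

/-!
A module with a complete dévissage over a prime of the base, flat at a point (with the dévissage at that
point) or along the whole fibre, becomes free, and finitely presented, after localizing the base at the prime.
-/

set_option autoImplicit false

universe u

open TensorProduct

namespace Groth.Agent.RG29

/-- All kernels after tensor products are killed outside `p`. -/
def KerKilledAt {R P Q : Type u} [CommRing R] [AddCommGroup P] [Module R P] [AddCommGroup Q] [Module R Q]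
    (p : Ideal R) (φ : P →ₗ[R] Q) : Prop :=
  ∀ (X : Type u) [AddCommGroup X] [Module R X] (z : P ⊗[R] X), φ.rTensor X z = 0 → ∃ c : R, c ∉ p ∧ c • z = 0

theorem KerKilledAt.exists_smul_eq_zero {R P Q : Type u} [CommRing R] [AddCommGroup P] [Module R P] [AddCommGroup Q]
    [Module R Q] {p : Ideal R} {φ : P →ₗ[R] Q} (h : KerKilledAt p φ) (v : P) (hv : φ v = 0) :
    ∃ c : R, c ∉ p ∧ c • v = 0 := by
  obtain ⟨c, hc, hcv⟩ := h R (v ⊗ₜ (1 : R)) (by rw [LinearMap.rTensor_tmul, hv, TensorProduct.zero_tmul])
  exact ⟨c, hc, by simpa using congrArg (TensorProduct.rid R P) hcv⟩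

theorem KerKilledAt.injective_baseChange {R P Q : Type u} [CommRing R] [AddCommGroup P] [Module R P] [AddCommGroup Q]
    [Module R Q] {p : Ideal R} [p.IsPrime] {φ : P →ₗ[R] Q} (h : KerKilledAt p φ) :
    Function.Injective (φ.baseChange (Localization.AtPrime p)) := by
  have hcomm : ∀ w : Localization.AtPrime p ⊗[R] P,
      φ.rTensor (Localization.AtPrime p) (TensorProduct.comm R (Localization.AtPrime p) P w) =
        TensorProduct.comm R (Localization.AtPrime p) Q (φ.baseChange (Localization.AtPrime p) w) := fun w => by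
    induction w using TensorProduct.induction_on with
    | zero => simp
    | tmul a p => simp
    | add a b ha hb => simp only [map_add, ha, hb]
  refine (injective_iff_map_eq_zero _).2 fun w hw => ?_
  obtain ⟨c, hc, hcw⟩ := h _ (TensorProduct.comm R (Localization.AtPrime p) P w) (by rw [hcomm, hw, map_zero])
  rw [← map_smul, LinearEquiv.map_eq_zero_iff, ← algebraMap_smul (Localization.AtPrime p)] at hcw
  exact ((IsLocalization.map_units (M := p.primeCompl) (Localization.AtPrime p) ⟨c, hc⟩).smul_eq_zero).1 hcw

/-- An element outside a fibre ideal is regular after tensor products near that point of the base. -/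
theorem exists_kerKilled_mulLeft {R D : Type u} [CommRing R] [CommRing D] [Algebra R D] [Algebra.Smooth R D]
    (hirr : FlatCA.GeomIrredFibres R D) (p : Ideal R) [hp : p.IsPrime] [hw : (p.map (algebraMap R D)).IsPrime]
    (s : D) (hs : s ∉ p.map (algebraMap R D)) : ∃ f : R, f ∉ p ∧ KerKilled f (LinearMap.mulLeft R s) := by
  haveI := liesOver_map p hirr
  have hopen : IsOpen (PrimeSpectrum.comap (algebraMap R D) '' PrimeSpectrum.basicOpen s) :=
    PrimeSpectrum.isOpenMap_comap_of_hasGoingDown_of_finitePresentation _ (PrimeSpectrum.basicOpen s).isOpen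
  have hmem : (⟨p, hp⟩ : PrimeSpectrum R) ∈ PrimeSpectrum.comap (algebraMap R D) '' PrimeSpectrum.basicOpen s :=
    ⟨⟨p.map (algebraMap R D), hw⟩, hs, PrimeSpectrum.ext (Ideal.over_def (p.map (algebraMap R D)) p).symm⟩
  obtain ⟨_, ⟨f, rfl⟩, hf, hsub⟩ :=
    PrimeSpectrum.isTopologicalBasis_basic_opens.exists_subset_of_mem_open hmem hopen
  refine ⟨f, hf, kerKilled_mulLeft hirr _ s fun t ht hft hst => ?_⟩
  obtain ⟨P, hP, hPt⟩ := hsub (show (⟨t, ht⟩ : PrimeSpectrum R) ∈ (PrimeSpectrum.basicOpen f : Set _) from hft)
  exact hP (Ideal.map_le_iff_le_comap.2 (congrArg PrimeSpectrum.asIdeal hPt).ge hst)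

set_option maxHeartbeats 800000 in
/-- One step: flatness at the generic point of the fibre gives universal injectivity near the prime of the base. -/
theorem kerKilledAt_step {R D G : Type u} [CommRing R] [CommRing D] [Algebra R D] [Algebra.Smooth R D]
    (hirr : FlatCA.GeomIrredFibres R D) [AddCommGroup G] [Module D G] [Module R G] [IsScalarTower R D G]
    [Module.Finite D G] (p : Ideal R) [p.IsPrime] [hp : (p.map (algebraMap R D)).IsPrime]
    (hflat : FlatCA.FlatAt R (p.map (algebraMap R D)) G) {r : ℕ} (α : (Fin r → D) →ₗ[D] G)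
    (hb : Function.Bijective (α.baseChange (p.map (algebraMap R D)).ResidueField)) :
    KerKilledAt p (α.restrictScalars R) := by
  classical
  intro X _ _ z hz
  let w := p.map (algebraMap R D)
  let L := Localization.AtPrime w
  obtain ⟨β, hβ, hcomp⟩ := exists_bijective_localized p w rfl hflat α hb
  let mkG : G →ₗ[D] LocalizedModule w.primeCompl G := LocalizedModule.mkLinearMap w.primeCompl G
  let ι := ((Algebra.linearMap D L).restrictScalars R).compLeft (Fin r)
  let e : (Fin r → L) ≃ₗ[R] LocalizedModule w.primeCompl G := (LinearEquiv.ofBijective β hβ).restrictScalars R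
  have hιz : ι.rTensor X z = 0 := (LinearEquiv.rTensor X e).injective (by
    rw [map_zero, show LinearEquiv.rTensor X e (ι.rTensor X z) = e.toLinearMap.rTensor X (ι.rTensor X z) from rfl,
      ← LinearMap.rTensor_comp_apply,
      show e.toLinearMap.comp ι = (mkG.restrictScalars R).comp (α.restrictScalars R) from LinearMap.ext hcomp,
      LinearMap.rTensor_comp_apply, hz, map_zero])
  have hproj : ∀ i, ∃ c : R, c ∉ p ∧ c • (LinearMap.proj i : (Fin r → D) →ₗ[R] D).rTensor X z = 0 := fun i => by
    have h1 : ((Algebra.linearMap D L).restrictScalars R).rTensor X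
        ((LinearMap.proj i : (Fin r → D) →ₗ[R] D).rTensor X z) = 0 := by
      rw [← LinearMap.rTensor_comp_apply,
        show ((Algebra.linearMap D L).restrictScalars R).comp (LinearMap.proj i) =
          (LinearMap.proj i : (Fin r → L) →ₗ[R] L).comp ι from rfl,
        LinearMap.rTensor_comp_apply, hιz, map_zero]
    obtain ⟨s, hs⟩ := (IsLocalizedModule.eq_zero_iff w.primeCompl
      (AlgebraTensorModule.rTensor R X (Algebra.linearMap D L))).1 h1
    obtain ⟨f, hf, hk⟩ := exists_kerKilled_mulLeft hirr p (s : D) s.2
    have hmul : ∀ a : D ⊗[R] X, (LinearMap.mulLeft R (s : D)).rTensor X a = (s : D) • a := fun a => by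
      induction a using TensorProduct.induction_on with
      | zero => simp
      | tmul d c => simp [TensorProduct.smul_tmul']
      | add a b ha hb => simp only [map_add, smul_add, ha, hb]
    obtain ⟨n, hn⟩ := hk X _ ((hmul _).trans hs)
    exact ⟨f ^ n, fun h => hf (‹p.IsPrime›.mem_of_pow_mem n h), hn⟩
  choose c hc hcz using hproj
  refine ⟨∏ i, c i, fun h => ?_, ?_⟩
  · obtain ⟨i, -, hi⟩ := (‹p.IsPrime›.prod_mem_iff).1 h
    exact hc i hi
  have hid : (∑ i, (LinearMap.single R (fun _ => D) i).comp (LinearMap.proj i)) =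
      (LinearMap.id : (Fin r → D) →ₗ[R] (Fin r → D)) := LinearMap.ext fun v => by
    rw [LinearMap.sum_apply]
    exact Finset.univ_sum_single v
  rw [← LinearMap.id_apply (R := R) z, ← LinearMap.rTensor_id X, ← hid]
  show (∏ i, c i) • LinearMap.rTensorHom X (∑ i, (LinearMap.single R (fun _ => D) i).comp (LinearMap.proj i)) z = 0
  rw [map_sum, LinearMap.sum_apply, Finset.smul_sum]
  refine Finset.sum_eq_zero fun i _ => ?_
  show (∏ i, c i) • ((LinearMap.single R (fun _ => D) i).comp (LinearMap.proj i)).rTensor X z = 0
  obtain ⟨d, hd⟩ : c i ∣ ∏ i, c i := Finset.dvd_prod_of_mem _ (Finset.mem_univ i)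
  rw [LinearMap.rTensor_comp_apply, ← map_smul, hd, mul_comm, mul_smul, hcz, smul_zero, map_zero]

/-- The cokernel of a map with kernels killed near `p` is flat at the points over `p` where the target is flat. -/
theorem flatAt_coker_at {R D : Type u} [CommRing R] [CommRing D] [Algebra R D] {P G Q : Type u}
    [AddCommGroup P] [Module R P] [AddCommGroup G] [Module D G] [Module R G] [IsScalarTower R D G]
    [AddCommGroup Q] [Module D Q] [Module R Q] [IsScalarTower R D Q]
    (p : Ideal R) [p.IsPrime] (y : Ideal D) [y.IsPrime] [hy : y.LiesOver p] (hG : FlatCA.FlatAt R y G)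
    (φ : P →ₗ[R] G) (hφ : KerKilledAt p φ) (g : G →ₗ[D] Q) (hg : Function.Surjective g)
    (hex : Function.Exact φ g) : FlatCA.FlatAt R y Q := by
  unfold FlatCA.FlatAt at *
  rw [flat_localized_iff] at hG ⊢
  intro I x hx
  let gR := g.restrictScalars R
  obtain ⟨x', rfl⟩ : ∃ x', gR.rTensor I x' = x := LinearMap.rTensor_surjective I (g := gR) hg x
  have hx0 : g (TensorProduct.rid R G (I.subtype.lTensor G x')) = 0 := by
    have h2 : ∀ w : G ⊗[R] R, TensorProduct.rid R Q (gR.rTensor R w) = g (TensorProduct.rid R G w) := fun w => by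
      induction w using TensorProduct.induction_on with
      | zero => simp
      | tmul a c => simp [gR]
      | add a b ha hb => simp only [map_add, ha, hb]
    rw [← h2, ← LinearMap.comp_apply (gR.rTensor R), LinearMap.rTensor_comp_lTensor,
      ← LinearMap.lTensor_comp_rTensor, LinearMap.comp_apply, hx, map_zero]
  obtain ⟨v, hv⟩ := (hex _).1 hx0
  have hv' : φ.rTensor R (v ⊗ₜ[R] (1 : R)) = I.subtype.lTensor G x' := by
    rw [LinearMap.rTensor_tmul, hv, ← TensorProduct.rid_symm_apply, LinearEquiv.symm_apply_apply]
  obtain ⟨c, hc, hcv⟩ := hφ (R ⧸ I) (I.mkQ.lTensor P (v ⊗ₜ[R] (1 : R))) (by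
    rw [← LinearMap.comp_apply, LinearMap.rTensor_comp_lTensor,
      ← LinearMap.lTensor_comp_rTensor, LinearMap.comp_apply, hv', ← LinearMap.lTensor_comp_apply,
      (LinearMap.exact_subtype_mkQ I).linearMap_comp_eq_zero, LinearMap.lTensor_zero, LinearMap.zero_apply])
  rw [← map_smul] at hcv
  obtain ⟨w, hw⟩ := (lTensor_exact P (LinearMap.exact_subtype_mkQ I) (Submodule.mkQ_surjective I) _).1 hcv
  obtain ⟨s, hs, hsx⟩ := hG I (c • x' - φ.rTensor I w) (by
    rw [map_sub, map_smul, ← LinearMap.comp_apply (I.subtype.lTensor G), LinearMap.lTensor_comp_rTensor,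
      ← LinearMap.rTensor_comp_lTensor, LinearMap.comp_apply, hw, map_smul, hv', sub_self])
  have hgf : gR.rTensor I (φ.rTensor I w) = 0 := by
    rw [← LinearMap.rTensor_comp_apply,
      show gR.comp φ = 0 from LinearMap.ext fun p => hex.apply_apply_eq_zero p,
      LinearMap.rTensor_zero, LinearMap.zero_apply]
  have hD : ∀ a : G ⊗[R] I, gR.rTensor I (s • a) = s • gR.rTensor I a :=
    fun a => map_smul (AlgebraTensorModule.rTensor R I g) s a
  refine ⟨s * algebraMap R D c, fun h => (‹y.IsPrime›.mem_or_mem h).elim hs fun h' =>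
    hc ((SetLike.ext_iff.1 hy.over c).2 h'), ?_⟩
  calc (s * algebraMap R D c) • gR.rTensor I x'
      = gR.rTensor I (s • (c • x' - φ.rTensor I w)) := by
        rw [hD, map_sub, map_smul, hgf, sub_zero, mul_smul, algebraMap_smul]
    _ = 0 := by rw [hsx, map_zero]

/-- Flatness at a prime from flatness at all primes of an integral algebra over it. -/
theorem flatAt_of_forall_over {R D C M : Type u} [CommRing R] [CommRing D] [CommRing C] [Algebra R D]
    [Algebra R C] [Algebra D C] [Algebra.IsIntegral D C] [AddCommGroup M] [Module C M] [Module D M] [Module R M]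
    [IsScalarTower D C M] [IsScalarTower R C M] [IsScalarTower R D M] (y : Ideal D) [y.IsPrime]
    (h : ∀ (Q : Ideal C) [Q.IsPrime], Q.LiesOver y → FlatCA.FlatAt R Q M) : FlatCA.FlatAt R y M := by
  unfold FlatCA.FlatAt at *
  rw [flat_localized_iff]
  intro I x hx
  by_contra hcon
  push Not at hcon
  obtain ⟨Q, hJQ, hQ, hQy⟩ := Ideal.exists_ideal_over_prime_of_isIntegral y
    (LinearMap.ker (LinearMap.toSpanSingleton C _ x)) fun d hd => by
      by_contra hdy
      rw [Ideal.mem_comap, LinearMap.mem_ker, LinearMap.toSpanSingleton_apply, algebraMap_smul] at hd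
      exact hcon d hdy hd
  haveI := hQ
  obtain ⟨s, hs, hsx⟩ := (flat_localized_iff Q.primeCompl).1 (h Q ⟨hQy.symm⟩) I x hx
  exact hs (hJQ (by rw [LinearMap.mem_ker, LinearMap.toSpanSingleton_apply, hsx]))

section Devissage

variable {R S : Type u} [CommRing R] [CommRing S] [Algebra R S] {N : Type u} [AddCommGroup N] [Module S N]
  {p : Ideal R} [p.IsPrime] (D : FlatCA.CompleteDevissage R S N p)

theorem tower_RAM (i : ℕ) : IsScalarTower R (D.A i) (D.M i) := IsScalarTower.of_algebraMap_smul fun c m => by
  rw [IsScalarTower.algebraMap_apply R (D.B i) (D.A i), algebraMap_smul, algebraMap_smul]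

theorem tower_RBM' (i : ℕ) : IsScalarTower R (D.B i) (D.M (i + 1)) := IsScalarTower.of_algebraMap_smul fun c m => by
  rw [← algebraMap_smul (D.A (i + 1)) (algebraMap R (D.B i) c), ← IsScalarTower.algebraMap_apply,
    IsScalarTower.algebraMap_apply R (D.B (i + 1)) (D.A (i + 1)), algebraMap_smul, algebraMap_smul]

/-- The quotient map of a step. -/
noncomputable def stepMap (i : ℕ) (hi : i + 1 < D.n) : D.M i →ₗ[D.B i] D.M (i + 1) :=
  (D.isoCoker i hi).toLinearMap.comp (LinearMap.range (D.α i)).mkQ

theorem stepMap_surjective (i : ℕ) (hi : i + 1 < D.n) : Function.Surjective (stepMap D i hi) :=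
  (D.isoCoker i hi).surjective.comp (Submodule.mkQ_surjective _)

theorem exact_stepMap (i : ℕ) (hi : i + 1 < D.n) : Function.Exact (D.α i) (stepMap D i hi) :=
  LinearMap.exact_iff.2 (by rw [stepMap, LinearEquiv.ker_comp, Submodule.ker_mkQ])

/-- Universal injectivity near the prime of all steps, from flatness at the point of a dévissage at a point. -/
theorem kerKilledAt_of_point {q : Ideal S} [q.IsPrime] [Module R N] [IsScalarTower R S N]
    (hA : FlatCA.CompleteDevissageAt R S N p q D) (hflat : FlatCA.FlatAt R q N) :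
    ∀ j, j < D.n → KerKilledAt p ((D.α j).restrictScalars R) := by
  haveI := fun i => tower_RAM D i
  haveI := fun i => tower_RBM' D i
  haveI := fun i => hA.hqA i
  haveI := fun i => hA.hqB i
  haveI := fun i => hA.overA i
  haveI := fun i => hA.overB i
  suffices h : ∀ j, j < D.n → FlatCA.FlatAt R (hA.qA j) (D.M j) ∧ KerKilledAt p ((D.α j).restrictScalars R) from
    fun j hj => (h j hj).2
  have hkill : ∀ j, j < D.n → FlatCA.FlatAt R (hA.qA j) (D.M j) →
      FlatCA.FlatAt R (hA.qB j) (D.M j) ∧ KerKilledAt p ((D.α j).restrictScalars R) := fun j hj h => by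
    haveI := D.smooth j hj
    haveI := D.finiteBA j hj
    haveI := D.finiteM j hj
    haveI : Module.Finite (D.B j) (D.M j) := Module.Finite.trans (D.A j) (D.M j)
    haveI : Algebra.IsIntegral (D.B j) (D.A j) := Algebra.IsIntegral.of_finite (D.B j) (D.A j)
    have hy : FlatCA.FlatAt R (hA.qB j) (D.M j) :=
      (flatAt_iff_of_algebra (hA.qA j) (hA.qB j) (hA.overA j).over.symm
        fun J hJ => exists_mem_of_unique (hA.qA j) (hA.qB j) (hA.uniq j hj) J hJ).1 h
    exact ⟨hy, kerKilledAt_step (D.geomIrred j hj) p (FlatCrit65.flat_localized_of_le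
      (Ideal.map_le_iff_le_comap.2 (hA.overB j).over.le) hy) (D.α j) (D.fibreIso j hj)⟩
  intro j
  induction j with
  | zero =>
    intro hj
    haveI : IsScalarTower R S (D.M 0) := IsScalarTower.of_algebraMap_smul fun c m => by
      rw [← algebraMap_smul (D.A 0) (algebraMap R S c), ← IsScalarTower.algebraMap_apply, algebraMap_smul]
    have h0 : FlatCA.FlatAt R (hA.qA 0) (D.M 0) :=
      (flatAt_iff_of_algebra (hA.qA 0) q hA.q0 fun J hJ => hA.q0 ▸ exists_mem_of_surjective D.surjSA _ J hJ).2
        (FlatCrit65.flat_localized_equiv D.isoN q hflat)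
    exact ⟨h0, (hkill 0 hj h0).2⟩
  | succ j ih =>
    intro hj
    obtain ⟨hjf, -⟩ := ih (by omega)
    obtain ⟨hy, hk⟩ := hkill j (by omega) hjf
    have h1 : FlatCA.FlatAt R (hA.qA (j + 1)) (D.M (j + 1)) :=
      (flatAt_iff_of_algebra (hA.qA (j + 1)) (hA.qB j) (hA.qStep j hj) fun J hJ => by
        rw [← hA.qStep j hj]
        exact exists_mem_of_surjective (D.surjBA' j hj) _ J hJ).2
      (flatAt_coker_at p (hA.qB j) hy ((D.α j).restrictScalars R) hk (stepMap D j hj) (stepMap_surjective D j hj)
        (exact_stepMap D j hj))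
    exact ⟨h1, (hkill (j + 1) hj h1).2⟩

/-- Universal injectivity near the prime of all steps, from flatness along the fibre. -/
theorem kerKilledAt_of_fibre [Module R N] [IsScalarTower R S N]
    (hflat : ∀ (Q : Ideal S) [Q.IsPrime], Q.LiesOver p → FlatCA.FlatAt R Q N) :
    ∀ j, j < D.n → KerKilledAt p ((D.α j).restrictScalars R) := by
  haveI := fun i => tower_RAM D i
  haveI := fun i => tower_RBM' D i
  suffices h : ∀ j, j < D.n → (∀ (z : Ideal (D.A j)) [z.IsPrime], z.LiesOver p → FlatCA.FlatAt R z (D.M j)) ∧
      KerKilledAt p ((D.α j).restrictScalars R) from fun j hj => (h j hj).2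
  have hkill : ∀ j, j < D.n → (∀ (z : Ideal (D.A j)) [z.IsPrime], z.LiesOver p → FlatCA.FlatAt R z (D.M j)) →
      (∀ (y : Ideal (D.B j)) [y.IsPrime], y.LiesOver p → FlatCA.FlatAt R y (D.M j)) ∧
        KerKilledAt p ((D.α j).restrictScalars R) := fun j hj h => by
    haveI := D.smooth j hj
    haveI := D.finiteBA j hj
    haveI := D.finiteM j hj
    haveI : Module.Finite (D.B j) (D.M j) := Module.Finite.trans (D.A j) (D.M j)
    haveI : Algebra.IsIntegral (D.B j) (D.A j) := Algebra.IsIntegral.of_finite (D.B j) (D.A j)
    have hy : ∀ (y : Ideal (D.B j)) [y.IsPrime], y.LiesOver p → FlatCA.FlatAt R y (D.M j) := fun y _ hyp =>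
      flatAt_of_forall_over (C := D.A j) y fun Q _ hQ => h Q (Ideal.LiesOver.trans Q y p)
    exact ⟨hy, kerKilledAt_step (D.geomIrred j hj) p (hy _ (liesOver_map p (D.geomIrred j hj))) (D.α j)
      (D.fibreIso j hj)⟩
  intro j
  induction j with
  | zero =>
    intro hj
    haveI : IsScalarTower R S (D.M 0) := IsScalarTower.of_algebraMap_smul fun c m => by
      rw [← algebraMap_smul (D.A 0) (algebraMap R S c), ← IsScalarTower.algebraMap_apply, algebraMap_smul]
    have h0 : ∀ (z : Ideal (D.A 0)) [z.IsPrime], z.LiesOver p → FlatCA.FlatAt R z (D.M 0) := fun z _ hz => by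
      have hq : (z.comap (algebraMap S (D.A 0))).LiesOver p := ⟨by
        rw [Ideal.under_def, Ideal.comap_comap, ← IsScalarTower.algebraMap_eq]
        exact hz.over⟩
      exact (flatAt_iff_of_algebra z _ rfl fun J hJ => exists_mem_of_surjective D.surjSA z J hJ).2
        (FlatCrit65.flat_localized_equiv D.isoN _ (hflat _ hq))
    exact ⟨h0, (hkill 0 hj h0).2⟩
  | succ j ih =>
    intro hj
    obtain ⟨hjf, -⟩ := ih (by omega)
    obtain ⟨hy, hk⟩ := hkill j (by omega) hjf
    have h1 : ∀ (z : Ideal (D.A (j + 1))) [z.IsPrime], z.LiesOver p → FlatCA.FlatAt R z (D.M (j + 1)) :=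
      fun z _ hz => by
        haveI hyp : (z.comap (algebraMap (D.B j) (D.A (j + 1)))).LiesOver p := ⟨by
          rw [Ideal.under_def, Ideal.comap_comap, ← IsScalarTower.algebraMap_eq]
          exact hz.over⟩
        exact (flatAt_iff_of_algebra z _ rfl fun J hJ => exists_mem_of_surjective (D.surjBA' j hj) z J hJ).2
          (flatAt_coker_at p _ (hy _ hyp) ((D.α j).restrictScalars R) hk (stepMap D j hj) (stepMap_surjective D j hj)
            (exact_stepMap D j hj))
    exact ⟨h1, (hkill (j + 1) hj h1).2⟩

/-- Freeness of the localized modules. -/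
theorem projective_localized_aux (hk : ∀ j, j < D.n → KerKilledAt p ((D.α j).restrictScalars R)) :
    ∀ (k i : ℕ), i + k + 1 = D.n →
      Module.Projective (Localization.AtPrime p) (Localization.AtPrime p ⊗[R] D.M i) := by
  intro k
  induction k with
  | zero =>
    intro i hi
    have hin : i < D.n := by omega
    haveI := D.smooth i hin
    haveI : Module.Projective R (D.B i) := projective_of_smooth_geomIrred (D.geomIrred i hin)
    have hsurj : Function.Surjective ((D.α i).restrictScalars R) := by
      obtain rfl : i = D.n - 1 := by omega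
      exact D.cokerLast
    haveI : Module.Projective (Localization.AtPrime p) (Fin (D.r i) → Localization.AtPrime p ⊗[R] D.B i) :=
      Module.Projective.of_equiv (DFinsupp.linearEquivFunOnFintype (R := Localization.AtPrime p)
        (M := fun _ : Fin (D.r i) => Localization.AtPrime p ⊗[R] D.B i))
    exact Module.Projective.of_equiv
      ((TensorProduct.piRight R (Localization.AtPrime p) (Localization.AtPrime p) fun _ : Fin (D.r i) => D.B i).symm.trans
        (LinearEquiv.ofBijective (((D.α i).restrictScalars R).baseChange (Localization.AtPrime p))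
          ⟨(hk i hin).injective_baseChange, LinearMap.lTensor_surjective _ hsurj⟩))
  | succ k IH =>
    intro i hi
    have hin : i < D.n := by omega
    have hin1 : i + 1 < D.n := by omega
    haveI := D.smooth i hin
    haveI := tower_RBM' D i
    haveI : Module.Projective R (D.B i) := projective_of_smooth_geomIrred (D.geomIrred i hin)
    haveI : Module.Projective (Localization.AtPrime p) (Fin (D.r i) → Localization.AtPrime p ⊗[R] D.B i) :=
      Module.Projective.of_equiv (DFinsupp.linearEquivFunOnFintype (R := Localization.AtPrime p)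
        (M := fun _ : Fin (D.r i) => Localization.AtPrime p ⊗[R] D.B i))
    haveI := IH (i + 1) (by omega)
    have hg : Function.Surjective ((stepMap D i hin1).restrictScalars R) := stepMap_surjective D i hin1
    have hex : Function.Exact ((D.α i).restrictScalars R) ((stepMap D i hin1).restrictScalars R) :=
      exact_stepMap D i hin1
    obtain ⟨e⟩ := exists_equiv_prod (((D.α i).restrictScalars R).baseChange (Localization.AtPrime p))
      (((stepMap D i hin1).restrictScalars R).baseChange (Localization.AtPrime p)) (hk i hin).injective_baseChange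
      (LinearMap.lTensor_surjective _ hg) (lTensor_exact (Localization.AtPrime p) hex hg)
    exact Module.Projective.of_equiv (e.trans (LinearEquiv.prodCongr
      (TensorProduct.piRight R (Localization.AtPrime p) (Localization.AtPrime p) fun _ : Fin (D.r i) => D.B i)
      (LinearEquiv.refl (Localization.AtPrime p) _))).symm

set_option maxHeartbeats 1000000 in
/-- Finite presentation of the localized modules. -/
theorem fp_localized_aux (hk : ∀ j, j < D.n → KerKilledAt p ((D.α j).restrictScalars R)) :
    ∀ (k i : ℕ), i + k + 1 = D.n →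
      Module.FinitePresentation (Localization (Algebra.algebraMapSubmonoid (D.B i) p.primeCompl))
        (LocalizedModule (Algebra.algebraMapSubmonoid (D.B i) p.primeCompl) (D.M i)) := by
  intro k i hi
  have hinj : ∀ j, j < D.n → Function.Injective (LocalizedModule.map
      (Algebra.algebraMapSubmonoid (D.B j) p.primeCompl) (D.α j)) := fun j hj => by
    refine (injective_iff_map_eq_zero _).2 fun v hv => ?_
    induction v using LocalizedModule.induction_on with
    | _ v t =>
      rw [LocalizedModule.map_mk, ← LocalizedModule.zero_mk t, LocalizedModule.mk_eq] at hv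
      obtain ⟨u, hu⟩ := hv
      simp only [smul_zero, Submonoid.smul_def, smul_smul, ← map_smul] at hu
      obtain ⟨c, hc, hcv⟩ := (hk j hj).exists_smul_eq_zero _ hu
      rw [← LocalizedModule.zero_mk t, LocalizedModule.mk_eq]
      refine ⟨⟨algebraMap R (D.B j) c * u, (Algebra.algebraMapSubmonoid (D.B j) p.primeCompl).mul_mem
        ⟨c, hc, rfl⟩ u.2⟩, ?_⟩
      simp only [smul_zero, Submonoid.smul_def, smul_smul, mul_assoc]
      rw [mul_smul, algebraMap_smul, hcv]
  induction k generalizing i with
  | zero =>
    have hin : i < D.n := by omega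
    let T := Algebra.algebraMapSubmonoid (D.B i) p.primeCompl
    have hsurj : Function.Surjective (D.α i) := by
      obtain rfl : i = D.n - 1 := by omega
      exact D.cokerLast
    haveI := Module.finitePresentation_of_projective (D.B i) (Fin (D.r i) → D.B i)
    let e := LinearEquiv.ofBijective (LocalizedModule.map T (D.α i))
      ⟨hinj i hin, LocalizedModule.map_surjective T _ hsurj⟩
    exact Module.finitePresentation_of_surjective e.toLinearMap e.surjective
      (by rw [LinearEquiv.ker]; exact Submodule.fg_bot)
  | succ k IH =>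
    have hin : i < D.n := by omega
    have hin1 : i + 1 < D.n := by omega
    haveI := D.smooth i hin
    haveI := D.smooth (i + 1) hin1
    haveI := D.finiteBA (i + 1) hin1
    haveI := D.fpBA' i hin1
    haveI := tower_RBM' D i
    haveI : Module.FinitePresentation (D.B i) (D.A (i + 1)) :=
      Module.finitePresentation_of_surjective (Algebra.linearMap (D.B i) (D.A (i + 1))) (D.surjBA' i hin1)
        (Algebra.FinitePresentation.ker_fG_of_surjective (Algebra.ofId (D.B i) (D.A (i + 1))) (D.surjBA' i hin1))
    haveI : Algebra.FinitePresentation R (D.A (i + 1)) :=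
      Algebra.FinitePresentation.trans R (D.B i) (D.A (i + 1))
    haveI : Algebra.FinitePresentation (D.B (i + 1)) (D.A (i + 1)) :=
      Algebra.FinitePresentation.of_restrict_scalars_finitePresentation R (D.B (i + 1)) (D.A (i + 1))
    haveI : Module.FinitePresentation (D.B (i + 1)) (D.A (i + 1)) :=
      Module.FinitePresentation.of_finite_of_finitePresentation (D.B (i + 1)) (D.A (i + 1))
    have h1 : Module.FinitePresentation (Localization (Algebra.algebraMapSubmonoid (D.A (i + 1)) p.primeCompl))
        (LocalizedModule (Algebra.algebraMapSubmonoid (D.A (i + 1)) p.primeCompl) (D.M (i + 1))) :=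
      (fp_localized_iff _ _ (by rintro _ ⟨c, hc, rfl⟩; exact ⟨_, ⟨c, hc, rfl⟩, by rw [← IsScalarTower.algebraMap_apply]⟩)
        (by rintro _ ⟨c, hc, rfl⟩; exact ⟨_, ⟨c, hc, rfl⟩, by rw [← IsScalarTower.algebraMap_apply]⟩)
        (D.M (i + 1))).2 (IH (i + 1) (by omega))
    let T := Algebra.algebraMapSubmonoid (D.B i) p.primeCompl
    haveI : Module.FinitePresentation (Localization T) (LocalizedModule T (D.M (i + 1))) :=
      (fp_localized_iff _ _ (by rintro _ ⟨c, hc, rfl⟩; exact ⟨_, ⟨c, hc, rfl⟩, by rw [← IsScalarTower.algebraMap_apply]⟩)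
        (by rintro _ ⟨c, hc, rfl⟩; exact ⟨_, ⟨c, hc, rfl⟩, by rw [← IsScalarTower.algebraMap_apply]⟩)
        (D.M (i + 1))).1 h1
    let g := LocalizedModule.map T (stepMap D i hin1)
    have hex : Function.Exact (LocalizedModule.map T (D.α i)) g :=
      LocalizedModule.map_exact T _ _ (exact_stepMap D i hin1)
    haveI := Module.finitePresentation_of_projective (D.B i) (Fin (D.r i) → D.B i)
    haveI : Module.FinitePresentation (Localization T) (LinearMap.ker g) :=
      Module.finitePresentation_of_surjective
        ((LinearEquiv.ofInjective _ (hinj i hin)).trans (LinearEquiv.ofEq _ _ (LinearMap.exact_iff.1 hex).symm)).toLinearMap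
        (LinearEquiv.surjective _) (by rw [LinearEquiv.ker]; exact Submodule.fg_bot)
    exact Module.finitePresentation_of_ker g (LocalizedModule.map_surjective T _ (stepMap_surjective D i hin1))

end Devissage

/-- Freeness, and finite presentation, at the local ring of the base. -/
theorem completeDevissage_localized {R S : Type u} [CommRing R] [CommRing S] [Algebra R S] {N : Type u}
    [AddCommGroup N] [Module S N] [Module R N] [IsScalarTower R S N] {p : Ideal R} [p.IsPrime]
    (D : FlatCA.CompleteDevissage R S N p) (hk : ∀ j, j < D.n → KerKilledAt p ((D.α j).restrictScalars R)) :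
    Module.Free (Localization.AtPrime p) (Localization.AtPrime p ⊗[R] N) ∧
      (Algebra.FinitePresentation R S →
        Module.FinitePresentation (Localization (Algebra.algebraMapSubmonoid S p.primeCompl))
          (LocalizedModule (Algebra.algebraMapSubmonoid S p.primeCompl) N)) := by
  obtain ⟨k, hk0⟩ : ∃ k, 0 + k + 1 = D.n := ⟨D.n - 1, by have := D.pos; omega⟩
  haveI := tower_RAM D 0
  haveI : IsScalarTower R S (D.M 0) := IsScalarTower.of_algebraMap_smul fun c m => by
    rw [← algebraMap_smul (D.A 0) (algebraMap R S c), ← IsScalarTower.algebraMap_apply, algebraMap_smul]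
  refine ⟨?_, fun hS => ?_⟩
  · haveI := projective_localized_aux D hk k 0 hk0
    haveI : Module.Projective (Localization.AtPrime p) (Localization.AtPrime p ⊗[R] N) :=
      Module.Projective.of_equiv ((D.isoN.restrictScalars R).baseChange R (Localization.AtPrime p)).symm
    exact CAlg1.free_of_projective
  · haveI := hS
    haveI := D.smooth 0 D.pos
    haveI := D.finiteBA 0 D.pos
    haveI := D.fpSA
    haveI : Algebra.FinitePresentation R (D.A 0) := Algebra.FinitePresentation.trans R S (D.A 0)
    haveI : Algebra.FinitePresentation (D.B 0) (D.A 0) :=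
      Algebra.FinitePresentation.of_restrict_scalars_finitePresentation R (D.B 0) (D.A 0)
    haveI : Module.FinitePresentation (D.B 0) (D.A 0) :=
      Module.FinitePresentation.of_finite_of_finitePresentation (D.B 0) (D.A 0)
    haveI : Module.FinitePresentation S (D.A 0) :=
      Module.finitePresentation_of_surjective (Algebra.linearMap S (D.A 0)) D.surjSA
        (Algebra.FinitePresentation.ker_fG_of_surjective (Algebra.ofId S (D.A 0)) D.surjSA)
    have h1 : Module.FinitePresentation (Localization (Algebra.algebraMapSubmonoid (D.A 0) p.primeCompl))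
        (LocalizedModule (Algebra.algebraMapSubmonoid (D.A 0) p.primeCompl) (D.M 0)) :=
      (fp_localized_iff _ _ (by rintro _ ⟨c, hc, rfl⟩; exact ⟨_, ⟨c, hc, rfl⟩, by rw [← IsScalarTower.algebraMap_apply]⟩)
        (by rintro _ ⟨c, hc, rfl⟩; exact ⟨_, ⟨c, hc, rfl⟩, by rw [← IsScalarTower.algebraMap_apply]⟩)
        (D.M 0)).2 (fp_localized_aux D hk k 0 hk0)
    let T := Algebra.algebraMapSubmonoid S p.primeCompl
    haveI : Module.FinitePresentation (Localization T) (LocalizedModule T (D.M 0)) :=
      (fp_localized_iff _ _ (by rintro _ ⟨c, hc, rfl⟩; exact ⟨_, ⟨c, hc, rfl⟩, by rw [← IsScalarTower.algebraMap_apply]⟩)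
        (by rintro _ ⟨c, hc, rfl⟩; exact ⟨_, ⟨c, hc, rfl⟩, by rw [← IsScalarTower.algebraMap_apply]⟩)
        (D.M 0)).1 h1
    exact Module.finitePresentation_of_surjective (LocalizedModule.map T D.isoN.symm.toLinearMap)
      (LocalizedModule.map_surjective T _ D.isoN.symm.surjective)
      (by rw [LinearMap.ker_eq_bot.2 (LocalizedModule.map_injective T _ D.isoN.symm.injective)]; exact Submodule.fg_bot)

end Groth.Agent.RG29
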