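import Groth.Agent.RG29.SectionML
import Groth.Agent.RG29.DevExist
import Groth.Agent.FlatCrit65.Point.General
import Groth.Agent.FlatCrit65.FlatLocus.Module
import Groth.Agent.CAlgH2.Lemmas
import Groth.Agent.CAlgH2.UnivInj
import Mathlib

/-!
Flatness along one step of a dévissage over a local ring: transfer of flatness at a point along the
maps of a step, universal injectivity of the map from the free module, flatness of the cokernel.
-/

set_option autoImplicit false

universe u

open TensorProduct

namespace Groth.Agent.RG29

/-- Flatness at a prime may be tested over a smaller algebra, if elements outside the prime divide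
images of elements outside its contraction up to the given ideal. -/
theorem flatAt_iff_of_algebra {R D C M : Type u} [CommRing R] [CommRing D] [CommRing C] [Algebra R D]
    [Algebra R C] [Algebra D C] [AddCommGroup M] [Module C M] [Module D M] [Module R M]
    [IsScalarTower D C M] [IsScalarTower R C M] [IsScalarTower R D M]
    (z : Ideal C) [z.IsPrime] (y : Ideal D) [y.IsPrime] (hzy : z.comap (algebraMap D C) = y)
    (h : ∀ J : Ideal C, ¬ J ≤ z → ∃ d : D, d ∉ y ∧ algebraMap D C d ∈ J) :
    FlatCA.FlatAt R z M ↔ FlatCA.FlatAt R y M := by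
  unfold FlatCA.FlatAt
  rw [FlatCrit65.flat_localized_iff_kernels, FlatCrit65.flat_localized_iff_kernels]
  refine forall_congr' fun I => forall_congr' fun x => imp_congr_right fun _ => ⟨?_, ?_⟩
  · rintro ⟨s, hs, hsx⟩
    obtain ⟨d, hd, hdJ⟩ := h (LinearMap.ker (LinearMap.toSpanSingleton C _ x)) fun hle =>
      hs (hle (by rw [LinearMap.mem_ker, LinearMap.toSpanSingleton_apply, hsx]))
    rw [LinearMap.mem_ker, LinearMap.toSpanSingleton_apply, algebraMap_smul] at hdJ
    exact ⟨d, hd, hdJ⟩
  · rintro ⟨d, hd, hdx⟩
    exact ⟨algebraMap D C d, fun h' => hd (hzy.le h'), by rw [algebraMap_smul, hdx]⟩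

/-- The hypothesis of `flatAt_iff_of_algebra` for surjections. -/
theorem exists_mem_of_surjective {D C : Type u} [CommRing D] [CommRing C] [Algebra D C]
    (hsurj : Function.Surjective (algebraMap D C)) (z : Ideal C) (J : Ideal C) (hJ : ¬ J ≤ z) :
    ∃ d : D, d ∉ z.comap (algebraMap D C) ∧ algebraMap D C d ∈ J := by
  obtain ⟨c, hcJ, hcz⟩ := SetLike.not_le_iff_exists.1 hJ
  obtain ⟨d, rfl⟩ := hsurj c
  exact ⟨d, hcz, hcJ⟩

/-- The hypothesis of `flatAt_iff_of_algebra` for integral algebras with a unique prime over the point. -/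
theorem exists_mem_of_unique {D C : Type u} [CommRing D] [CommRing C] [Algebra D C]
    [Algebra.IsIntegral D C] (z : Ideal C) (y : Ideal D) [y.IsPrime]
    (huniq : ∀ (Q : Ideal C) [Q.IsPrime], Q.LiesOver y → Q = z) (J : Ideal C) (hJ : ¬ J ≤ z) :
    ∃ d : D, d ∉ y ∧ algebraMap D C d ∈ J := by
  by_contra hcon
  push Not at hcon
  obtain ⟨Q, hQJ, hQp, hQy⟩ := Ideal.exists_ideal_over_prime_of_isIntegral y J fun d hd => by
    by_contra hdy
    exact hcon d hdy hd
  haveI := hQp
  exact hJ ((huniq Q ⟨hQy.symm⟩) ▸ hQJ)

/-- Flatness of the cokernel of a universally injective map at a prime where the target is flat. -/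
theorem flatAt_coker {R D : Type u} [CommRing R] [CommRing D] [Algebra R D] {P G Q : Type u}
    [AddCommGroup P] [Module R P]
    [AddCommGroup G] [Module D G] [Module R G] [IsScalarTower R D G]
    [AddCommGroup Q] [Module D Q] [Module R Q] [IsScalarTower R D Q]
    (y : Ideal D) [y.IsPrime] (hG : FlatCA.FlatAt R y G) (f : P →ₗ[R] G)
    (hf : CAlgX.UniversallyInjective R f) (g : G →ₗ[D] Q) (hg : Function.Surjective g)
    (hex : Function.Exact f g) : FlatCA.FlatAt R y Q := by
  unfold FlatCA.FlatAt at *
  rw [FlatCrit65.flat_localized_iff_kernels] at hG ⊢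
  intro I x hx
  obtain ⟨x', rfl⟩ : ∃ x', (g.restrictScalars R).rTensor I x' = x :=
    LinearMap.rTensor_surjective I (g := g.restrictScalars R) hg x
  have hx0 : g (TensorProduct.rid R G (I.subtype.lTensor G x')) = 0 := by
    have h1 : I.subtype.lTensor Q ((g.restrictScalars R).rTensor I x') =
        (g.restrictScalars R).rTensor R (I.subtype.lTensor G x') := by
      rw [← LinearMap.comp_apply, ← LinearMap.comp_apply, LinearMap.lTensor_comp_rTensor,
        LinearMap.rTensor_comp_lTensor]
    have h2 : ∀ w : G ⊗[R] R, TensorProduct.rid R Q ((g.restrictScalars R).rTensor R w) =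
        g (TensorProduct.rid R G w) := fun w => by
      induction w using TensorProduct.induction_on with
      | zero => simp
      | tmul a c => simp
      | add a b ha hb => simp only [map_add, ha, hb]
    rw [← h2, ← h1, hx, map_zero]
  obtain ⟨v, hv⟩ := (hex _).1 hx0
  have hv' : f.rTensor R (v ⊗ₜ[R] (1 : R)) = I.subtype.lTensor G x' := by
    rw [LinearMap.rTensor_tmul, hv, ← TensorProduct.rid_symm_apply, LinearEquiv.symm_apply_apply]
  have hzero : I.mkQ.lTensor P (v ⊗ₜ[R] (1 : R)) = 0 := by
    refine hf (R ⧸ I) ?_
    rw [map_zero, ← LinearMap.comp_apply, LinearMap.rTensor_comp_lTensor,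
      ← LinearMap.lTensor_comp_rTensor, LinearMap.comp_apply, hv', ← LinearMap.lTensor_comp_apply,
      (LinearMap.exact_subtype_mkQ I).linearMap_comp_eq_zero, LinearMap.lTensor_zero, LinearMap.zero_apply]
  obtain ⟨w, hw⟩ := (lTensor_exact P (LinearMap.exact_subtype_mkQ I) (Submodule.mkQ_surjective I) _).1 hzero
  obtain ⟨s, hs, hsx⟩ := hG I (x' - f.rTensor I w) (by
    rw [map_sub, ← LinearMap.comp_apply (I.subtype.lTensor G), LinearMap.lTensor_comp_rTensor,
      ← LinearMap.rTensor_comp_lTensor, LinearMap.comp_apply, hw, hv', sub_self])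
  refine ⟨s, hs, ?_⟩
  have hgf : (g.restrictScalars R).rTensor I (f.rTensor I w) = 0 := by
    rw [← LinearMap.rTensor_comp_apply,
      show (g.restrictScalars R).comp f = 0 from LinearMap.ext fun p => hex.apply_apply_eq_zero p,
      LinearMap.rTensor_zero, LinearMap.zero_apply]
  have hD : ∀ a : G ⊗[R] I, (g.restrictScalars R).rTensor I (s • a) =
      s • (g.restrictScalars R).rTensor I a :=
    fun a => map_smul (AlgebraTensorModule.rTensor R I g) s a
  calc s • (g.restrictScalars R).rTensor I x'
      = s • (g.restrictScalars R).rTensor I (x' - f.rTensor I w) := by rw [map_sub, hgf, sub_zero]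
    _ = 0 := by rw [← hD, hsx, map_zero]

/-- An element outside a fibre ideal is nonzero in that fibre. -/
theorem one_tmul_ne_zero_of_notMem {R D : Type u} [CommRing R] [CommRing D] [Algebra R D]
    [Algebra.Smooth R D] (hirr : FlatCA.GeomIrredFibres R D) (p : Ideal R) [p.IsPrime] (s : D)
    (hs : s ∉ p.map (algebraMap R D)) : ((1 : p.ResidueField) ⊗ₜ[R] s : p.Fiber D) ≠ 0 := fun h0 => by
  haveI := isPrime_map p hirr
  haveI := liesOver_map p hirr
  obtain ⟨x, -, hx⟩ := exists_fiber_point p (p.map (algebraMap R D))
  exact hs (hx ▸ (show (1 : p.ResidueField) ⊗ₜ[R] s ∈ x.asIdeal from h0 ▸ x.asIdeal.zero_mem))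

/-- An element outside the fibre ideal of the closed point is nonzero in every fibre. -/
theorem one_tmul_ne_zero {R D : Type u} [CommRing R] [IsLocalRing R] [CommRing D] [Algebra R D]
    [Algebra.Smooth R D] (hirr : FlatCA.GeomIrredFibres R D) (s : D)
    (hs : s ∉ (IsLocalRing.maximalIdeal R).map (algebraMap R D)) (p : Ideal R) [p.IsPrime] :
    ((1 : p.ResidueField) ⊗ₜ[R] s : p.Fiber D) ≠ 0 :=
  one_tmul_ne_zero_of_notMem hirr p s fun h => hs (Ideal.map_mono (IsLocalRing.le_maximalIdeal ‹p.IsPrime›.ne_top) h)

/-- The localization of a smooth algebra at the fibre ideal of the closed point is universally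
injective over the base. -/
theorem univInj_localization_closedFibre {R D : Type u} [CommRing R] [IsLocalRing R] [CommRing D]
    [Algebra R D] [Algebra.Smooth R D] (hirr : FlatCA.GeomIrredFibres R D) (w : Ideal D) [w.IsPrime]
    (hw : w = (IsLocalRing.maximalIdeal R).map (algebraMap R D))
    (X : Type u) [AddCommGroup X] [Module R X] :
    Function.Injective (((Algebra.linearMap D (Localization.AtPrime w)).restrictScalars R).rTensor X) := by
  refine (injective_iff_map_eq_zero _).2 fun x hx => ?_
  obtain ⟨t, ht⟩ := (IsLocalizedModule.eq_zero_iff w.primeCompl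
    (AlgebraTensorModule.rTensor R X (Algebra.linearMap D (Localization.AtPrime w)))).1 hx
  have hmul : ∀ a : D ⊗[R] X, (LinearMap.mulLeft R (t : D)).rTensor X a = (t : D) • a := fun a => by
    induction a using TensorProduct.induction_on with
    | zero => simp
    | tmul d c => simp [TensorProduct.smul_tmul']
    | add a b ha hb => simp only [map_add, smul_add, ha, hb]
  refine (univInj_mulLeft hirr (t : D) (fun p _ => one_tmul_ne_zero hirr _ (fun h => t.2 (hw.ge h)) p) X) ?_
  rw [hmul, map_zero]
  exact ht

/-- Componentwise universally injective maps give universally injective maps on finite powers. -/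
theorem univInj_compLeft {R P Q : Type u} [CommRing R] [AddCommGroup P] [Module R P] [AddCommGroup Q]
    [Module R Q] (f : P →ₗ[R] Q) (hf : CAlgX.UniversallyInjective R f) (r : ℕ) :
    CAlgX.UniversallyInjective R (f.compLeft (Fin r)) := fun X _ _ => by
  classical
  refine (injective_iff_map_eq_zero _).2 fun x hx => ?_
  have hproj : ∀ i, (LinearMap.proj i : (Fin r → P) →ₗ[R] P).rTensor X x = 0 := fun i => by
    refine hf X ?_
    rw [map_zero, ← LinearMap.rTensor_comp_apply,
      show f.comp (LinearMap.proj i) = (LinearMap.proj i : (Fin r → Q) →ₗ[R] Q).comp (f.compLeft (Fin r)) from rfl,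
      LinearMap.rTensor_comp_apply, hx, map_zero]
  have hid : (∑ i, (LinearMap.single R (fun _ => P) i).comp (LinearMap.proj i)) =
      (LinearMap.id : (Fin r → P) →ₗ[R] (Fin r → P)) := LinearMap.ext fun v => by
      rw [LinearMap.sum_apply]
      exact Finset.univ_sum_single v
  have h1 := congrArg (fun φ : (Fin r → P) →ₗ[R] (Fin r → P) => φ.rTensor X x) hid
  simp only [LinearMap.rTensor_id, LinearMap.id_apply] at h1
  rw [← h1]
  show LinearMap.rTensorHom X (∑ i, (LinearMap.single R (fun _ => P) i).comp (LinearMap.proj i)) x = 0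
  rw [map_sum, LinearMap.sum_apply]
  refine Finset.sum_eq_zero fun i _ => ?_
  show ((LinearMap.single R (fun _ => P) i).comp (LinearMap.proj i)).rTensor X x = 0
  rw [LinearMap.rTensor_comp_apply, hproj, map_zero]

set_option maxHeartbeats 800000 in
/-- A map from a finite free module, bijective on the residue field at a prime extended from the base,
into a module flat there becomes bijective at that prime. -/
theorem exists_bijective_localized {R D G : Type u} [CommRing R] [CommRing D] [Algebra R D]
    [Algebra.FinitePresentation R D] [AddCommGroup G] [Module D G] [Module R G]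
    [IsScalarTower R D G] [Module.Finite D G] (J : Ideal R) (w : Ideal D) [w.IsPrime]
    (hw : w = J.map (algebraMap R D)) (hflat : FlatCA.FlatAt R w G)
    {r : ℕ} (α : (Fin r → D) →ₗ[D] G) (hb : Function.Bijective (α.baseChange w.ResidueField)) :
    ∃ β : (Fin r → Localization.AtPrime w) →ₗ[Localization.AtPrime w] LocalizedModule w.primeCompl G,
      Function.Bijective β ∧
        ∀ v : Fin r → D, β (fun i => algebraMap D (Localization.AtPrime w) (v i)) =
          LocalizedModule.mkLinearMap w.primeCompl G (α v) := by
  classical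
  let L := Localization.AtPrime w
  let Gw := LocalizedModule w.primeCompl G
  let mkG : G →ₗ[D] Gw := LocalizedModule.mkLinearMap w.primeCompl G
  let ι : (Fin r → D) →ₗ[D] (Fin r → L) := LinearMap.pi fun i => Algebra.linearMap D L ∘ₗ LinearMap.proj i
  let β : (Fin r → L) →ₗ[L] Gw := (Pi.basisFun L (Fin r)).constr L fun i => mkG (α (Pi.single i 1))
  have hcomp : (β.restrictScalars D).comp ι = mkG.comp α := by
    refine (Pi.basisFun D (Fin r)).ext fun i => ?_
    have hι : ι (Pi.single i 1) = Pi.single i (1 : L) := funext fun j => by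
      rcases eq_or_ne j i with rfl | hj
      · simp [ι]
      · simp [ι, hj]
    rw [LinearMap.comp_apply, LinearMap.comp_apply, LinearMap.restrictScalars_apply, Pi.basisFun_apply, hι,
      ← Pi.basisFun_apply L]
    exact Module.Basis.constr_basis _ _ _ _
  have hcomp' : ∀ v, β (ι v) = mkG (α v) := fun v => LinearMap.congr_fun hcomp v
  haveI hGflat : Module.Flat R Gw := hflat
  haveI : Module.Finite L Gw := Module.Finite.of_isLocalizedModule w.primeCompl mkG
  haveI hfp : Module.FinitePresentation L Gw :=
    FlatCrit65.finitePresentation_of_flat_local (R := R) (S := D) (L := L) (M := Gw) w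
  have hsurj : Function.Surjective β := fun z => by
    induction z using LocalizedModule.induction_on with
    | _ g s =>
      obtain ⟨a, ha, hag⟩ := (Module.notMem_support_iff'.1 (notMem_support_coker w α hb))
        (Submodule.Quotient.mk g)
      rw [← Submodule.Quotient.mk_smul, Submodule.Quotient.mk_eq_zero] at hag
      obtain ⟨v, hv⟩ := hag
      let u : w.primeCompl := ⟨a, ha⟩ * s
      refine ⟨(IsLocalization.mk' L (1 : D) u) • ι v, ?_⟩
      rw [map_smul, hcomp', hv, LocalizedModule.mkLinearMap_apply, ← Localization.mk_eq_mk', LocalizedModule.mk_smul_mk, one_smul, mul_one,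
        LocalizedModule.mk_eq]
      exact ⟨1, by simp [u, Submonoid.smul_def, smul_smul, mul_comm]⟩
  have hK : LinearMap.ker β = ⊥ := by
    have hcoord : ∀ x ∈ LinearMap.ker β, ∀ i, x i ∈ IsLocalRing.maximalIdeal L := by
      intro x hx i
      obtain ⟨⟨v, s⟩, hs⟩ := IsLocalizedModule.surj w.primeCompl ι x
      have hα : mkG (α v) = 0 := by
        rw [← hcomp', ← hs, Submonoid.smul_def, LinearMap.map_smul_of_tower, LinearMap.mem_ker.1 hx, smul_zero]
      obtain ⟨t, ht⟩ := (IsLocalizedModule.eq_zero_iff w.primeCompl mkG).1 hα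
      rw [Submonoid.smul_def, ← map_smul] at ht
      have hv : ((1 : w.ResidueField) ⊗ₜ[D] ((t : D) • v)) = 0 := hb.1 (by
        rw [map_zero, LinearMap.baseChange_tmul, ht, TensorProduct.tmul_zero])
      have hti : algebraMap D w.ResidueField (((t : D) • v) i) = 0 := by
        have h1 := congrArg (TensorProduct.piScalarRight D w.ResidueField w.ResidueField (Fin r)) hv
        rw [TensorProduct.piScalarRight_apply, TensorProduct.piScalarRightHom_tmul, map_zero] at h1
        simpa [Algebra.algebraMap_eq_smul_one] using congrFun h1 i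
      rw [Ideal.algebraMap_residueField_eq_zero] at hti
      have hvi : v i ∈ w := (‹w.IsPrime›.mem_or_mem hti).resolve_left t.2
      have hxi : algebraMap D L (s : D) * x i = algebraMap D L (v i) := by
        rw [← Algebra.smul_def]
        exact congrFun hs i
      rw [← Ideal.unit_mul_mem_iff_mem _ (IsLocalization.map_units L s), hxi]
      exact (IsLocalization.AtPrime.to_map_mem_maximal_iff L w (v i)).2 hvi
    have hmax : IsLocalRing.maximalIdeal L = J.map (algebraMap R L) := by
      rw [← IsLocalization.AtPrime.map_eq_maximalIdeal w L, IsScalarTower.algebraMap_eq R D L,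
        ← Ideal.map_map, ← hw]
    have hflatR : Module.Flat R Gw := hflat
    have hui : CAlgX.UniversallyInjective R ((LinearMap.ker β).subtype.restrictScalars R) :=
      CAlgH2.universallyInjective_of_flat_coker (g := β.restrictScalars R)
        (fun a => ⟨fun h => ⟨⟨a, h⟩, rfl⟩, by rintro ⟨b, rfl⟩; exact b.2⟩) hsurj Subtype.val_injective
    refine Submodule.eq_bot_of_le_smul_of_le_jacobson_bot (IsLocalRing.maximalIdeal L) _
      (Module.FinitePresentation.fg_ker β hsurj) (fun x hx => ?_)
      (IsLocalRing.maximalIdeal_le_jacobson _)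
    have hxm : x ∈ J • (⊤ : Submodule R (Fin r → L)) := by
      rw [pi_eq_sum_univ x]
      refine Submodule.sum_mem _ fun i _ => ?_
      obtain hxi := hcoord x hx i
      rw [hmax, Ideal.map] at hxi
      generalize x i = c' at hxi ⊢
      induction hxi using Submodule.span_induction with
      | mem y hy =>
        obtain ⟨c, hc, rfl⟩ := hy
        rw [algebraMap_smul]
        exact Submodule.smul_mem_smul hc trivial
      | zero => simp
      | add a b _ _ ha hb => simpa [add_smul] using Submodule.add_mem _ ha hb
      | smul a b _ hb =>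
        rw [smul_eq_mul, mul_smul]
        refine Submodule.smul_induction_on hb (fun c hc n _ => ?_) fun c d hc hd => ?_
        · rw [smul_comm]
          exact Submodule.smul_mem_smul hc trivial
        · rw [smul_add]
          exact Submodule.add_mem _ hc hd
    have hxK := CAlgH2.mem_smul_top_of_universallyInjective hui J
      (x := ⟨x, hx⟩) hxm
    refine Submodule.smul_induction_on (p := fun y : ↥(LinearMap.ker β) =>
      (y : Fin r → L) ∈ IsLocalRing.maximalIdeal L • LinearMap.ker β) hxK (fun c hc n _ => ?_)
      fun a b ha hb => ?_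
    · rw [Submodule.coe_smul_of_tower, ← algebraMap_smul L c]
      exact Submodule.smul_mem_smul (hmax ▸ Ideal.mem_map_of_mem _ hc) n.2
    · rw [Submodule.coe_add]
      exact Submodule.add_mem _ ha hb
  exact ⟨β, ⟨LinearMap.ker_eq_bot.1 hK, hsurj⟩, hcomp'⟩

/-- A map from a finite free module, bijective on the closed fibre ideal, into a module flat at a point of
the closed fibre is universally injective over the base. -/
theorem univInj_of_flatAt {R D G : Type u} [CommRing R] [IsLocalRing R] [CommRing D] [Algebra R D]
    [Algebra.Smooth R D] (hirr : FlatCA.GeomIrredFibres R D) [AddCommGroup G] [Module D G] [Module R G]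
    [IsScalarTower R D G] [Module.Finite D G] (w : Ideal D) [w.IsPrime]
    (hw : w = (IsLocalRing.maximalIdeal R).map (algebraMap R D)) (hflat : FlatCA.FlatAt R w G)
    {r : ℕ} (α : (Fin r → D) →ₗ[D] G) (hb : Function.Bijective (α.baseChange w.ResidueField)) :
    CAlgX.UniversallyInjective R (α.restrictScalars R) := by
  obtain ⟨β, hβ, hcomp⟩ := exists_bijective_localized _ w hw hflat α hb
  let mkG : G →ₗ[D] LocalizedModule w.primeCompl G := LocalizedModule.mkLinearMap w.primeCompl G
  intro X _ _
  refine Function.Injective.of_comp (f := (mkG.restrictScalars R).rTensor X) ?_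
  let ι := ((Algebra.linearMap D (Localization.AtPrime w)).restrictScalars R).compLeft (Fin r)
  let e : (Fin r → Localization.AtPrime w) ≃ₗ[R] LocalizedModule w.primeCompl G :=
    (LinearEquiv.ofBijective β hβ).restrictScalars R
  rw [← LinearMap.coe_comp, ← LinearMap.rTensor_comp,
    show (mkG.restrictScalars R).comp (α.restrictScalars R) = e.toLinearMap.comp ι from
      LinearMap.ext fun v => (hcomp v).symm,
    LinearMap.rTensor_comp, LinearMap.coe_comp]
  exact (LinearEquiv.rTensor X e).injective.comp
    (univInj_compLeft _ (fun X _ _ => univInj_localization_closedFibre hirr w hw X) r X)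

end Groth.Agent.RG29
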