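import Groth.Agent.RG29.FlatSpread
import Groth.Prelude.Def_FlatCA
import Mathlib

/-!
A finitely presented flat module with a complete dévissage over a prime of the base is, after inverting
one element outside the prime, the product of the free modules of the dévissage, hence projective.
-/

set_option autoImplicit false

universe u

open TensorProduct

namespace Groth.Agent.RG29

/-- Finite presentation of a module moves along a finitely presented surjection followed by a finite map. -/
theorem fp_of_surjective_finite {R B A B' M : Type u} [CommRing R] [CommRing B] [CommRing A] [CommRing B']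
    [Algebra R B] [Algebra.FinitePresentation R B] [Algebra R A] [Algebra B A] [IsScalarTower R B A]
    [Algebra.FinitePresentation B A] (hsurj : Function.Surjective (algebraMap B A))
    [Algebra R B'] [Algebra.FiniteType R B'] [Algebra B' A] [IsScalarTower R B' A] [Module.Finite B' A]
    [AddCommGroup M] [Module A M] [Module B M] [IsScalarTower B A M] [Module B' M] [IsScalarTower B' A M]
    [Module.FinitePresentation B M] : Module.FinitePresentation B' M := by
  haveI : Module.FinitePresentation B A :=
    Module.finitePresentation_of_surjective (Algebra.linearMap B A) hsurj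
      (Algebra.FinitePresentation.ker_fG_of_surjective (Algebra.ofId B A) hsurj)
  haveI : Module.FinitePresentation A M := (RelFP3.fp_iff_of_fp B A M).1 inferInstance
  haveI : Algebra.FinitePresentation R A := Algebra.FinitePresentation.trans R B A
  haveI : Algebra.FinitePresentation B' A := Algebra.FinitePresentation.of_restrict_scalars_finitePresentation R B' A
  haveI : Module.FinitePresentation B' A := Module.FinitePresentation.of_finite_of_finitePresentation B' A
  exact Module.FinitePresentation.trans B' M A

set_option maxHeartbeats 800000 in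
/-- One element outside the prime after inverting which all maps of the dévissage are universally injective. -/
theorem exists_kerKilled_all {R S : Type u} [CommRing R] [CommRing S] [Algebra R S] {N : Type u} [AddCommGroup N]
    [Module S N] (rr : Ideal R) [rr.IsPrime] (D : FlatCA.CompleteDevissage R S N rr) :
    ∀ (k i : ℕ), i + k + 1 = D.n → Module.FinitePresentation (D.B i) (D.M i) → ∀ f₀ : R, f₀ ∉ rr →
      Module.Flat R (LocalizedModule (Submonoid.powers f₀) (D.M i)) →
      ∃ f : R, f ∉ rr ∧ f₀ ∣ f ∧ ∀ j, i ≤ j → j < D.n → KerKilled f ((D.α j).restrictScalars R) := by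
  intro k
  induction k with
  | zero =>
    intro i hi hfp f₀ hf₀ hflat
    haveI := D.smooth i (by omega)
    obtain ⟨f, hf, hdvd, hk⟩ := exists_kerKilled_step (D.geomIrred i (by omega)) rr f₀ hf₀ hflat (D.α i)
      (D.fibreIso i (by omega))
    exact ⟨f, hf, hdvd, fun j hij hj => by obtain rfl : j = i := by omega
                                           exact hk⟩
  | succ k IH =>
    intro i hi hfp f₀ hf₀ hflat
    have hin : i < D.n := by omega
    have hin1 : i + 1 < D.n := by omega
    haveI := D.smooth i hin
    haveI := D.smooth (i + 1) hin1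
    haveI := D.finiteBA (i + 1) hin1
    haveI := D.fpBA' i hin1
    haveI : IsScalarTower R (D.B i) (D.M (i + 1)) := IsScalarTower.of_algebraMap_smul fun c m => by
      rw [← algebraMap_smul (D.A (i + 1)) (algebraMap R (D.B i) c), ← IsScalarTower.algebraMap_apply,
        IsScalarTower.algebraMap_apply R (D.B (i + 1)) (D.A (i + 1)), algebraMap_smul, algebraMap_smul]
    obtain ⟨f₁, hf₁, hdvd₁, hk⟩ := exists_kerKilled_step (D.geomIrred i hin) rr f₀ hf₀ hflat (D.α i)
      (D.fibreIso i hin)
    let g : D.M i →ₗ[D.B i] D.M (i + 1) :=
      (D.isoCoker i hin1).toLinearMap.comp (LinearMap.range (D.α i)).mkQ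
    have hg : Function.Surjective g :=
      (D.isoCoker i hin1).surjective.comp (Submodule.mkQ_surjective _)
    have hker : LinearMap.ker g = LinearMap.range (D.α i) := by
      rw [LinearEquiv.ker_comp, Submodule.ker_mkQ]
    have hflat₁ : Module.Flat R (LocalizedModule (Submonoid.powers f₁) (D.M (i + 1))) :=
      flat_powers_coker f₁ (flat_powers_of_dvd hdvd₁ hflat) ((D.α i).restrictScalars R) hk
        (g.restrictScalars R) hg (LinearMap.exact_iff.2 hker : Function.Exact (D.α i) g)
    haveI : Module.FinitePresentation (D.B i) (D.M (i + 1)) :=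
      Module.finitePresentation_of_surjective g hg (hker ▸ Module.Finite.iff_fg.1 (Module.Finite.range (D.α i)))
    have hfp₁ : Module.FinitePresentation (D.B (i + 1)) (D.M (i + 1)) :=
      fp_of_surjective_finite (R := R) (A := D.A (i + 1)) (D.surjBA' i hin1)
    obtain ⟨f, hf, hdvd, hall⟩ := IH (i + 1) (by omega) hfp₁ f₁ hf₁ hflat₁
    refine ⟨f, hf, hdvd₁.trans hdvd, fun j hij hj => ?_⟩
    rcases eq_or_lt_of_le hij with h | h
    · subst h
      exact hk.of_dvd hdvd
    · exact hall j h hj

/-- Killed kernels give injectivity after inverting the element. -/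
theorem KerKilled.injective_baseChange {R P Q : Type u} [CommRing R] [AddCommGroup P] [Module R P] [AddCommGroup Q]
    [Module R Q] {f : R} {φ : P →ₗ[R] Q} (h : KerKilled f φ) :
    Function.Injective (φ.baseChange (Localization.Away f)) := by
  have hcomm : ∀ w : Localization.Away f ⊗[R] P,
      φ.rTensor (Localization.Away f) (TensorProduct.comm R (Localization.Away f) P w) =
        TensorProduct.comm R (Localization.Away f) Q (φ.baseChange (Localization.Away f) w) := fun w => by
    induction w using TensorProduct.induction_on with
    | zero => simp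
    | tmul a p => simp
    | add a b ha hb => simp only [map_add, ha, hb]
  refine (injective_iff_map_eq_zero _).2 fun w hw => ?_
  obtain ⟨n, hn⟩ := h _ (TensorProduct.comm R (Localization.Away f) P w) (by rw [hcomm, hw, map_zero])
  rw [← map_smul, LinearEquiv.map_eq_zero_iff, ← algebraMap_smul (Localization.Away f), map_pow] at hn
  exact (((IsLocalization.Away.algebraMap_isUnit f).pow n).smul_eq_zero).1 hn

set_option maxHeartbeats 800000 in
/-- The product decomposition after inverting the element. -/
theorem completeDevissage_proj_aux {R S : Type u} [CommRing R] [CommRing S] [Algebra R S] {N : Type u}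
    [AddCommGroup N] [Module S N] (rr : Ideal R) [rr.IsPrime] (D : FlatCA.CompleteDevissage R S N rr) (f : R)
    (hf : ∀ j, j < D.n → KerKilled f ((D.α j).restrictScalars R)) :
    ∀ (k i : ℕ), i + k + 1 = D.n →
      Module.Projective (Localization.Away f) (Localization.Away f ⊗[R] D.M i) ∧
        Nonempty ((Localization.Away f ⊗[R] D.M i) ≃ₗ[Localization.Away f]
          ∀ j : Fin (k + 1), Fin (D.r (i + j)) → Localization.Away f ⊗[R] D.B (i + j)) := by
  intro k
  induction k with
  | zero =>
    intro i hi
    have hin : i < D.n := by omega
    haveI := D.smooth i hin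
    haveI : Module.Projective R (D.B i) := projective_of_smooth_geomIrred (D.geomIrred i hin)
    have hsurj : Function.Surjective ((D.α i).restrictScalars R) := by
      obtain rfl : i = D.n - 1 := by omega
      exact D.cokerLast
    let e := (LinearEquiv.ofBijective (((D.α i).restrictScalars R).baseChange (Localization.Away f))
      ⟨(hf i hin).injective_baseChange, LinearMap.lTensor_surjective _ hsurj⟩).symm.trans
        (TensorProduct.piRight R (Localization.Away f) (Localization.Away f) fun _ : Fin (D.r i) => D.B i)
    obtain ⟨e3⟩ := nonempty_piSucc_equiv (R := Localization.Away f)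
      (fun j => Fin (D.r j) → Localization.Away f ⊗[R] D.B j) i 0
    let e2 : (Fin (D.r i) → Localization.Away f ⊗[R] D.B i) ≃ₗ[Localization.Away f]
        ∀ j : Fin (0 + 1), Fin (D.r (i + j)) → Localization.Away f ⊗[R] D.B (i + j) :=
      (LinearEquiv.prodUnique (R := Localization.Away f) (M := Fin (D.r i) → Localization.Away f ⊗[R] D.B i)
        (M₂ := ∀ j : Fin 0, Fin (D.r (i + 1 + j)) → Localization.Away f ⊗[R] D.B (i + 1 + j))).symm.trans e3
    haveI : Module.Projective (Localization.Away f) (Fin (D.r i) → Localization.Away f ⊗[R] D.B i) :=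
      Module.Projective.of_equiv
        (DFinsupp.linearEquivFunOnFintype (R := Localization.Away f) (M := fun _ : Fin (D.r i) => Localization.Away f ⊗[R] D.B i))
    exact ⟨Module.Projective.of_equiv e.symm, ⟨e.trans e2⟩⟩
  | succ k IH =>
    intro i hi
    have hin : i < D.n := by omega
    have hin1 : i + 1 < D.n := by omega
    haveI := D.smooth i hin
    haveI : Module.Projective R (D.B i) := projective_of_smooth_geomIrred (D.geomIrred i hin)
    haveI : IsScalarTower R (D.B i) (D.M (i + 1)) := IsScalarTower.of_algebraMap_smul fun c m => by
      rw [← algebraMap_smul (D.A (i + 1)) (algebraMap R (D.B i) c), ← IsScalarTower.algebraMap_apply,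
        IsScalarTower.algebraMap_apply R (D.B (i + 1)) (D.A (i + 1)), algebraMap_smul, algebraMap_smul]
    let g : D.M i →ₗ[D.B i] D.M (i + 1) :=
      (D.isoCoker i hin1).toLinearMap.comp (LinearMap.range (D.α i)).mkQ
    have hg : Function.Surjective (g.restrictScalars R) :=
      (D.isoCoker i hin1).surjective.comp (Submodule.mkQ_surjective _)
    have hex : Function.Exact ((D.α i).restrictScalars R) (g.restrictScalars R) :=
      (LinearMap.exact_iff.2 (by rw [LinearEquiv.ker_comp, Submodule.ker_mkQ]) : Function.Exact (D.α i) g)
    obtain ⟨hproj, ⟨e1⟩⟩ := IH (i + 1) (by omega)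
    haveI := hproj
    obtain ⟨e⟩ := exists_equiv_prod (((D.α i).restrictScalars R).baseChange (Localization.Away f))
      ((g.restrictScalars R).baseChange (Localization.Away f)) (hf i hin).injective_baseChange
      (LinearMap.lTensor_surjective _ hg) (lTensor_exact (Localization.Away f) hex hg)
    obtain ⟨e2⟩ := nonempty_piSucc_equiv (R := Localization.Away f)
      (fun j => Fin (D.r j) → Localization.Away f ⊗[R] D.B j) i (k + 1)
    let e' := e.trans (LinearEquiv.prodCongr
      (TensorProduct.piRight R (Localization.Away f) (Localization.Away f) fun _ : Fin (D.r i) => D.B i)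
      (LinearEquiv.refl (Localization.Away f) _))
    haveI : Module.Projective (Localization.Away f) (Fin (D.r i) → Localization.Away f ⊗[R] D.B i) :=
      Module.Projective.of_equiv
        (DFinsupp.linearEquivFunOnFintype (R := Localization.Away f) (M := fun _ : Fin (D.r i) => Localization.Away f ⊗[R] D.B i))
    exact ⟨Module.Projective.of_equiv e'.symm,
      ⟨(e'.trans (LinearEquiv.prodCongr (LinearEquiv.refl _ _) e1)).trans e2⟩⟩

set_option maxHeartbeats 800000 in
/-- A flat finitely presented module with a complete dévissage over a prime is, after inverting an element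
outside the prime, a product of free modules over smooth algebras, and projective. -/
theorem exists_projective_localization {R S : Type u} [CommRing R] [CommRing S] [Algebra R S]
    [Algebra.FinitePresentation R S] (N : Type u) [AddCommGroup N] [Module S N] [Module R N] [IsScalarTower R S N]
    [Module.FinitePresentation S N] [Module.Flat R N] (rr : Ideal R) [rr.IsPrime]
    (D : FlatCA.CompleteDevissage R S N rr) :
    ∃ f : R, f ∉ rr ∧
      Module.Projective (Localization.Away f) (LocalizedModule (Submonoid.powers f) N) ∧
      ∃ (k : ℕ) (B : Fin k → Type u) (_ : ∀ i, CommRing (B i)) (_ : ∀ i, Algebra (Localization.Away f) (B i)) (r : Fin k → ℕ),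
        (∀ i, Algebra.Smooth (Localization.Away f) (B i) ∧ FlatCA.GeomIrredFibres (Localization.Away f) (B i)) ∧
        Nonempty (LocalizedModule (Submonoid.powers f) N ≃ₗ[Localization.Away f] (∀ i, Fin (r i) → B i)) := by
  haveI := D.smooth 0 D.pos
  haveI := D.fpSA
  haveI := D.finiteBA 0 D.pos
  haveI : IsScalarTower R S (D.M 0) := IsScalarTower.of_algebraMap_smul fun c m => by
    rw [← algebraMap_smul (D.A 0) (algebraMap R S c), ← IsScalarTower.algebraMap_apply,
      IsScalarTower.algebraMap_apply R (D.B 0) (D.A 0), algebraMap_smul, algebraMap_smul]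
  let eR : N ≃ₗ[R] D.M 0 := D.isoN.restrictScalars R
  haveI : Module.Flat R (D.M 0) := Module.Flat.of_linearEquiv eR.symm
  haveI : Module.FinitePresentation S (D.M 0) :=
    Module.finitePresentation_of_surjective D.isoN.toLinearMap D.isoN.surjective
      (by rw [LinearEquiv.ker]; exact Submodule.fg_bot)
  have hfp : Module.FinitePresentation (D.B 0) (D.M 0) :=
    fp_of_surjective_finite (R := R) (A := D.A 0) D.surjSA
  obtain ⟨k, hk⟩ : ∃ k, 0 + k + 1 = D.n := ⟨D.n - 1, by have := D.pos; omega⟩
  obtain ⟨f, hf, -, hall⟩ := exists_kerKilled_all rr D k 0 hk hfp 1 (fun h =>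
      ‹rr.IsPrime›.ne_top (rr.eq_top_iff_one.2 h))
    ((flat_localized_iff _).2 fun I z hz => ⟨1, Submonoid.one_mem _, by
      rw [one_smul]
      exact Module.Flat.lTensor_preserves_injective_linearMap I.subtype Subtype.val_injective
        (hz.trans (map_zero _).symm)⟩)
  obtain ⟨hproj, ⟨e⟩⟩ := completeDevissage_proj_aux rr D f (fun j hj => hall j j.zero_le hj) k 0 hk
  let e₀ : LocalizedModule (Submonoid.powers f) N ≃ₗ[Localization.Away f] Localization.Away f ⊗[R] D.M 0 :=
    (LocalizedModule.equivTensorProduct (Submonoid.powers f) N).trans
      (eR.baseChange R (Localization.Away f))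
  haveI := hproj
  refine ⟨f, hf, Module.Projective.of_equiv e₀.symm, k + 1, fun i => Localization.Away f ⊗[R] D.B (0 + i),
    fun i => inferInstance, fun i => inferInstance, fun i => D.r (0 + i), fun i => ?_, ⟨e₀.trans e⟩⟩
  haveI := D.smooth (0 + i) (by omega)
  exact ⟨inferInstance, geomIrred_baseChange (D.geomIrred (0 + i) (by omega))⟩

end Groth.Agent.RG29
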