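import Groth.Agent.RG29.DevFlatFree
import Groth.Agent.RG29.FlatTransfer
import Groth.Agent.RelFP3.Basic
import Mathlib

/-!
Spreading of universal injectivity along the base: a map from a finite free module over a smooth algebra with
geometrically irreducible fibres into a finitely presented flat module, bijective at a fibre ideal, has kernels
killed by powers of one element of the base after any tensor product.
-/

set_option autoImplicit false

universe u

open TensorProduct

namespace Groth.Agent.RG29

/-- All kernels after tensor products are killed by powers of `f`. -/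
def KerKilled {R P Q : Type u} [CommRing R] [AddCommGroup P] [Module R P] [AddCommGroup Q] [Module R Q]
    (f : R) (φ : P →ₗ[R] Q) : Prop :=
  ∀ (X : Type u) [AddCommGroup X] [Module R X] (z : P ⊗[R] X), φ.rTensor X z = 0 → ∃ n : ℕ, f ^ n • z = 0

theorem KerKilled.of_dvd {R P Q : Type u} [CommRing R] [AddCommGroup P] [Module R P] [AddCommGroup Q] [Module R Q]
    {f g : R} (hfg : f ∣ g) {φ : P →ₗ[R] Q} (h : KerKilled f φ) : KerKilled g φ := fun X _ _ z hz => by
  obtain ⟨n, hn⟩ := h X z hz
  obtain ⟨c, rfl⟩ := hfg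
  exact ⟨n, by rw [mul_pow, mul_comm, mul_smul, hn, smul_zero]⟩

theorem flat_powers_of_dvd {R M : Type u} [CommRing R] [AddCommGroup M] [Module R M] {f g : R} (hfg : f ∣ g)
    (h : Module.Flat R (LocalizedModule (Submonoid.powers f) M)) :
    Module.Flat R (LocalizedModule (Submonoid.powers g) M) := by
  rw [flat_localized_iff] at h ⊢
  intro I z hz
  obtain ⟨_, ⟨n, rfl⟩, hn⟩ := h I z hz
  dsimp only at hn
  obtain ⟨c, rfl⟩ := hfg
  exact ⟨(f * c) ^ n, ⟨n, rfl⟩, by rw [mul_pow, mul_comm, mul_smul, hn, smul_zero]⟩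

/-- The cokernel of a map with killed kernels into a module flat after inverting `f` is flat after
inverting `f`. -/
theorem flat_powers_coker {R P G Q : Type u} [CommRing R] [AddCommGroup P] [Module R P] [AddCommGroup G]
    [Module R G] [AddCommGroup Q] [Module R Q] (f : R)
    (hG : Module.Flat R (LocalizedModule (Submonoid.powers f) G)) (φ : P →ₗ[R] G) (hφ : KerKilled f φ)
    (g : G →ₗ[R] Q) (hg : Function.Surjective g) (hex : Function.Exact φ g) :
    Module.Flat R (LocalizedModule (Submonoid.powers f) Q) := by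
  rw [flat_localized_iff] at hG ⊢
  intro I x hx
  obtain ⟨x', rfl⟩ : ∃ x', g.rTensor I x' = x := LinearMap.rTensor_surjective I hg x
  have hx0 : g (TensorProduct.rid R G (I.subtype.lTensor G x')) = 0 := by
    have h2 : ∀ w : G ⊗[R] R, TensorProduct.rid R Q (g.rTensor R w) = g (TensorProduct.rid R G w) := fun w => by
      induction w using TensorProduct.induction_on with
      | zero => simp
      | tmul a c => simp
      | add a b ha hb => simp only [map_add, ha, hb]
    rw [← h2, ← LinearMap.comp_apply (g.rTensor R), LinearMap.rTensor_comp_lTensor, ← LinearMap.lTensor_comp_rTensor,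
      LinearMap.comp_apply, hx, map_zero]
  obtain ⟨v, hv⟩ := (hex _).1 hx0
  have hv' : φ.rTensor R (v ⊗ₜ[R] (1 : R)) = I.subtype.lTensor G x' := by
    rw [LinearMap.rTensor_tmul, hv, ← TensorProduct.rid_symm_apply, LinearEquiv.symm_apply_apply]
  obtain ⟨a, ha⟩ := hφ (R ⧸ I) (I.mkQ.lTensor P (v ⊗ₜ[R] (1 : R))) (by
    rw [← LinearMap.comp_apply, LinearMap.rTensor_comp_lTensor,
      ← LinearMap.lTensor_comp_rTensor, LinearMap.comp_apply, hv', ← LinearMap.lTensor_comp_apply,
      (LinearMap.exact_subtype_mkQ I).linearMap_comp_eq_zero, LinearMap.lTensor_zero, LinearMap.zero_apply])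
  rw [← map_smul] at ha
  obtain ⟨w, hw⟩ := (lTensor_exact P (LinearMap.exact_subtype_mkQ I) (Submodule.mkQ_surjective I) _).1 ha
  obtain ⟨_, ⟨b, rfl⟩, hb⟩ := hG I (f ^ a • x' - φ.rTensor I w) (by
    rw [map_sub, map_smul, ← LinearMap.comp_apply (I.subtype.lTensor G), LinearMap.lTensor_comp_rTensor,
      ← LinearMap.rTensor_comp_lTensor, LinearMap.comp_apply, hw, map_smul, hv', sub_self])
  dsimp only at hb
  refine ⟨f ^ (b + a), ⟨b + a, rfl⟩, ?_⟩
  have hgf : g.rTensor I (φ.rTensor I w) = 0 := by
    rw [← LinearMap.rTensor_comp_apply, hex.linearMap_comp_eq_zero, LinearMap.rTensor_zero, LinearMap.zero_apply]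
  calc f ^ (b + a) • g.rTensor I x' = g.rTensor I (f ^ b • (f ^ a • x' - φ.rTensor I w)) := by
        rw [map_smul, map_sub, map_smul, hgf, sub_zero, smul_smul, pow_add]
    _ = 0 := by rw [hb, map_zero]

/-- A retraction up to an element outside the prime. -/
theorem exists_retraction {R D G : Type u} [CommRing R] [CommRing D] [Algebra R D] [Algebra.FinitePresentation R D]
    [AddCommGroup G] [Module D G] [Module R G] [IsScalarTower R D G] [Module.FinitePresentation D G]
    (J : Ideal R) (w : Ideal D) [w.IsPrime] (hw : w = J.map (algebraMap R D)) (hflat : FlatCA.FlatAt R w G)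
    {r : ℕ} (α : (Fin r → D) →ₗ[D] G) (hb : Function.Bijective (α.baseChange w.ResidueField)) :
    ∃ (s : D) (δ : G →ₗ[D] (Fin r → D)), s ∉ w ∧ δ.comp α = s • LinearMap.id := by
  classical
  obtain ⟨β, hβ, hcomp⟩ := exists_bijective_localized J w hw hflat α hb
  let L := Localization.AtPrime w
  let ι : (Fin r → D) →ₗ[D] (Fin r → L) := LinearMap.pi fun i => Algebra.linearMap D L ∘ₗ LinearMap.proj i
  let mkG : G →ₗ[D] LocalizedModule w.primeCompl G := LocalizedModule.mkLinearMap w.primeCompl G
  let γ : G →ₗ[D] (Fin r → L) := ((LinearEquiv.ofBijective β hβ).symm.toLinearMap.restrictScalars D).comp mkG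
  obtain ⟨δ, s, hδ⟩ := Module.FinitePresentation.exists_lift_of_isLocalizedModule w.primeCompl ι γ
  have h1 : ∀ i, ι (δ (α (Pi.single i 1)) - (s : D) • Pi.single i 1) = 0 := fun i => by
    have hγ : γ (α (Pi.single i 1)) = ι (Pi.single i 1) :=
      (LinearEquiv.ofBijective β hβ).symm_apply_eq.2 (hcomp (Pi.single i 1)).symm
    rw [map_sub, map_smul, ← LinearMap.comp_apply ι, hδ, LinearMap.smul_apply, hγ, Submonoid.smul_def, sub_self]
  choose t ht using fun i => (IsLocalizedModule.eq_zero_iff w.primeCompl ι).1 (h1 i)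
  let T : w.primeCompl := ∏ i, t i
  refine ⟨(T : D) * s, (T : D) • δ, fun h => (‹w.IsPrime›.mem_or_mem h).elim T.2 s.2, ?_⟩
  refine (Pi.basisFun D (Fin r)).ext fun i => ?_
  obtain ⟨c, hc⟩ : t i ∣ T := Finset.dvd_prod_of_mem _ (Finset.mem_univ i)
  rw [LinearMap.comp_apply, LinearMap.smul_apply, LinearMap.smul_apply, LinearMap.id_apply, Pi.basisFun_apply,
    mul_smul, ← sub_eq_zero, ← smul_sub, hc, Submonoid.coe_mul, mul_comm, mul_smul]
  rw [show (t i : D) • (δ (α (Pi.single i 1)) - (s : D) • Pi.single i (1 : D)) = 0 from ht i, smul_zero]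

set_option maxHeartbeats 800000 in
/-- An element nonzero on all fibres over `D(f)` is regular after tensor products up to powers of `f`. -/
theorem kerKilled_mulLeft {R D : Type u} [CommRing R] [CommRing D] [Algebra R D] [Algebra.Smooth R D]
    (hirr : FlatCA.GeomIrredFibres R D) (f : R) (s : D)
    (hs : ∀ (p : Ideal R) [p.IsPrime], f ∉ p → s ∉ p.map (algebraMap R D)) :
    KerKilled f (LinearMap.mulLeft R s) := by
  let T : Submonoid D := Submonoid.powers (algebraMap R D f)
  let DT := LocalizedModule T D
  let j : D →ₗ[D] DT := LocalizedModule.mkLinearMap T D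
  haveI : Module.Flat R DT := (flat_localized_iff T).2 fun I z hz => ⟨1, T.one_mem, by
    rw [one_smul]
    exact Module.Flat.lTensor_preserves_injective_linearMap I.subtype Subtype.val_injective
      (hz.trans (map_zero _).symm)⟩
  let u : DT →ₗ[R] DT := (s • (LinearMap.id : DT →ₗ[D] DT)).restrictScalars R
  obtain ⟨v, hv⟩ : ∃ v : DT →ₗ[D] DT, ∀ x, algebraMap R D f • v x = x := by
    obtain ⟨e, he⟩ := (IsLocalizedModule.map_units j (⟨_, 1, pow_one _⟩ : T)).exists_right_inv
    exact ⟨e, fun x => LinearMap.congr_fun he x⟩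
  intro X _ _ z hz
  have hfib : ∀ (p : Ideal R) [p.IsPrime], Function.Injective (u.lTensor p.ResidueField) := by
    intro p _
    let K := p.ResidueField
    have hcancel : ∀ w : K ⊗[R] DT, f • w = 0 → w = 0 := fun w hw => by
      have h1 : f • (v.restrictScalars R) = LinearMap.id := LinearMap.ext fun x => by
        rw [LinearMap.smul_apply, LinearMap.restrictScalars_apply, ← algebraMap_smul D, LinearMap.id_apply]
        exact hv x
      rw [← LinearMap.id_apply (R := R) w, ← LinearMap.lTensor_id K DT, ← h1, LinearMap.lTensor_smul,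
        LinearMap.smul_apply, ← map_smul, hw, map_zero]
    have hpow : ∀ (n : ℕ) (w : K ⊗[R] DT), f ^ n • w = 0 → w = 0 := fun n => by
      induction n with
      | zero => exact fun w hw => by simpa using hw
      | succ n ih => exact fun w hw => hcancel w (ih _ (by rwa [smul_smul, ← pow_succ]))
    by_cases hfp : f ∈ p
    · intro a b _
      have hz : ∀ w : K ⊗[R] DT, w = 0 := fun w => hcancel w (by
        rw [← algebraMap_smul K f w, Ideal.algebraMap_residueField_eq_zero.2 hfp, zero_smul])
      rw [hz a, hz b]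
    · have hunit : algebraMap R K f ≠ 0 := fun h => hfp (Ideal.algebraMap_residueField_eq_zero.1 h)
      haveI := isDomain_fiber p hirr
      have hm : ∀ w : p.Fiber D, (LinearMap.mulLeft R s).lTensor K w =
          ((1 : K) ⊗ₜ[R] s : p.Fiber D) * w := fun w => by
        induction w using TensorProduct.induction_on with
        | zero => simp
        | tmul a d => simp [K, Algebra.TensorProduct.tmul_mul_tmul]
        | add a b ha hb => simp only [map_add, mul_add, ha, hb]
      have hjinj : ∀ w : K ⊗[R] D, (j.restrictScalars R).lTensor K w = 0 → w = 0 := fun w hw => by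
        have h2 : AlgebraTensorModule.rTensor R K j (TensorProduct.comm R K D w) = 0 := by
          have h3 : ∀ w : K ⊗[R] D, AlgebraTensorModule.rTensor R K j (TensorProduct.comm R K D w) =
              TensorProduct.comm R K DT ((j.restrictScalars R).lTensor K w) := fun w => by
            induction w using TensorProduct.induction_on with
            | zero => simp
            | tmul a d => simp
            | add a b ha hb => simp only [map_add, ha, hb]
          rw [h3, hw, map_zero]
        obtain ⟨⟨_, n, rfl⟩, ht⟩ := (IsLocalizedModule.eq_zero_iff T (AlgebraTensorModule.rTensor R K j)).1 h2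
        rw [Submonoid.smul_def] at ht
        dsimp only at ht
        rw [← map_pow, algebraMap_smul, ← map_smul, LinearEquiv.map_eq_zero_iff, ← algebraMap_smul K,
          smul_eq_zero, map_pow] at ht
        exact ht.resolve_left (pow_ne_zero _ hunit)
      have hsurj : ∀ w : K ⊗[R] DT, ∃ (n : ℕ) (w0 : K ⊗[R] D), f ^ n • w = (j.restrictScalars R).lTensor K w0 := by
        intro w
        induction w using TensorProduct.induction_on with
        | zero => exact ⟨0, 0, by simp⟩
        | tmul a m =>
          obtain ⟨⟨d, ⟨_, n, rfl⟩⟩, hd⟩ := IsLocalizedModule.surj T j m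
          rw [Submonoid.smul_def] at hd
          dsimp only at hd
          rw [← map_pow, algebraMap_smul] at hd
          exact ⟨n, a ⊗ₜ d, by rw [← TensorProduct.tmul_smul, hd, LinearMap.lTensor_tmul]; rfl⟩
        | add a b ha hb =>
          obtain ⟨n, a0, ha⟩ := ha
          obtain ⟨m, b0, hb⟩ := hb
          exact ⟨n + m, f ^ m • a0 + f ^ n • b0, by
            rw [map_add, map_smul, map_smul, ← ha, ← hb, smul_smul, smul_smul, smul_add, ← pow_add, ← pow_add,
              add_comm m n]⟩
      refine (injective_iff_map_eq_zero _).2 fun w hw => ?_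
      obtain ⟨n, w0, hw0⟩ := hsurj w
      have hcomm : u.comp (j.restrictScalars R) = (j.restrictScalars R).comp (LinearMap.mulLeft R s) :=
        LinearMap.ext fun d => by simp [u, ← map_smul]
      have h4 : (LinearMap.mulLeft R s).lTensor K w0 = 0 := hjinj _ (by
        rw [← LinearMap.lTensor_comp_apply, ← hcomm, LinearMap.lTensor_comp_apply, ← hw0, map_smul, hw, smul_zero])
      rw [hm] at h4
      have h5 : w0 = 0 := (mul_eq_zero.1 h4).resolve_left (one_tmul_ne_zero_of_notMem hirr p s (hs p hfp))
      exact hpow n w (by rw [hw0, h5, map_zero])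
  have hu := FlatCrit65.univInj_of_fibres (A := R) (B := D) (M := D) T u hfib X
  have hju : (j.restrictScalars R).rTensor X z = 0 := hu (by
    rw [map_zero, ← LinearMap.rTensor_comp_apply,
      show u.comp (j.restrictScalars R) = (j.restrictScalars R).comp (LinearMap.mulLeft R s) from
        LinearMap.ext fun d => by simp [u, ← map_smul],
      LinearMap.rTensor_comp_apply, hz, map_zero])
  obtain ⟨⟨_, n, rfl⟩, ht⟩ := (IsLocalizedModule.eq_zero_iff T (AlgebraTensorModule.rTensor R X j)).1 hju
  rw [Submonoid.smul_def] at ht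
  dsimp only at ht
  rw [← map_pow, algebraMap_smul] at ht
  exact ⟨n, ht⟩

/-- Componentwise killed kernels. -/
theorem KerKilled.compLeft {R P Q : Type u} [CommRing R] [AddCommGroup P] [Module R P] [AddCommGroup Q]
    [Module R Q] {f : R} {φ : P →ₗ[R] Q} (h : KerKilled f φ) (r : ℕ) : KerKilled f (φ.compLeft (Fin r)) :=
  fun X _ _ z hz => by
  classical
  have hproj : ∀ i, ∃ n, f ^ n • (LinearMap.proj i : (Fin r → P) →ₗ[R] P).rTensor X z = 0 := fun i =>
    h X _ (by
      rw [← LinearMap.rTensor_comp_apply,
        show φ.comp (LinearMap.proj i) = (LinearMap.proj i : (Fin r → Q) →ₗ[R] Q).comp (φ.compLeft (Fin r)) from rfl,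
        LinearMap.rTensor_comp_apply, hz, map_zero])
  choose n hn using hproj
  refine ⟨Finset.univ.sup n, ?_⟩
  have hid : (∑ i, (LinearMap.single R (fun _ => P) i).comp (LinearMap.proj i)) =
      (LinearMap.id : (Fin r → P) →ₗ[R] (Fin r → P)) := LinearMap.ext fun v => by
    rw [LinearMap.sum_apply]
    exact Finset.univ_sum_single v
  rw [← LinearMap.id_apply (R := R) z, ← LinearMap.rTensor_id X, ← hid]
  show f ^ Finset.univ.sup n • LinearMap.rTensorHom X (∑ i, (LinearMap.single R (fun _ => P) i).comp (LinearMap.proj i)) z = 0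
  rw [map_sum, LinearMap.sum_apply, Finset.smul_sum]
  refine Finset.sum_eq_zero fun i _ => ?_
  show f ^ Finset.univ.sup n • ((LinearMap.single R (fun _ => P) i).comp (LinearMap.proj i)).rTensor X z = 0
  obtain ⟨c, hc⟩ := pow_dvd_pow f (Finset.le_sup (f := n) (Finset.mem_univ i))
  rw [LinearMap.rTensor_comp_apply, ← map_smul, hc, mul_comm, mul_smul, hn, smul_zero, map_zero]

set_option maxHeartbeats 800000 in
/-- One step: after inverting one element outside the prime, the map from the free module is universally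
injective. -/
theorem exists_kerKilled_step {R D G : Type u} [CommRing R] [CommRing D] [Algebra R D] [Algebra.Smooth R D]
    (hirr : FlatCA.GeomIrredFibres R D) [AddCommGroup G] [Module D G] [Module R G] [IsScalarTower R D G]
    [Module.FinitePresentation D G] (rr : Ideal R) [hrr : rr.IsPrime] [hp : (rr.map (algebraMap R D)).IsPrime]
    (f₀ : R) (hf₀ : f₀ ∉ rr) (hflat : Module.Flat R (LocalizedModule (Submonoid.powers f₀) G))
    {r : ℕ} (α : (Fin r → D) →ₗ[D] G)
    (hb : Function.Bijective (α.baseChange (rr.map (algebraMap R D)).ResidueField)) :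
    ∃ f : R, f ∉ rr ∧ f₀ ∣ f ∧ KerKilled f (α.restrictScalars R) := by
  classical
  haveI := liesOver_map rr hirr
  have hfw : FlatCA.FlatAt R (rr.map (algebraMap R D)) G := (flat_localized_iff _).2 fun I z hz => by
    obtain ⟨_, ⟨n, rfl⟩, hn⟩ := (flat_localized_iff _).1 hflat I z hz
    exact ⟨algebraMap R D (f₀ ^ n), fun h' => hf₀ (‹rr.IsPrime›.mem_of_pow_mem n
      ((SetLike.ext_iff.1 (Ideal.over_def (rr.map (algebraMap R D)) rr) _).2 h')), by rw [algebraMap_smul]; exact hn⟩
  obtain ⟨s, δ, hs, hδ⟩ := exists_retraction rr _ rfl hfw α hb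
  have hopen : IsOpen (PrimeSpectrum.comap (algebraMap R D) '' PrimeSpectrum.basicOpen s) :=
    PrimeSpectrum.isOpenMap_comap_of_hasGoingDown_of_finitePresentation _ (PrimeSpectrum.basicOpen s).isOpen
  have hmem : (⟨rr, hrr⟩ : PrimeSpectrum R) ∈ PrimeSpectrum.comap (algebraMap R D) '' PrimeSpectrum.basicOpen s :=
    ⟨⟨rr.map (algebraMap R D), hp⟩, hs, PrimeSpectrum.ext (Ideal.over_def (rr.map (algebraMap R D)) rr).symm⟩
  obtain ⟨_, ⟨f₁, rfl⟩, hf₁, hsub⟩ :=
    PrimeSpectrum.isTopologicalBasis_basic_opens.exists_subset_of_mem_open hmem hopen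
  refine ⟨f₀ * f₁, fun h => (‹rr.IsPrime›.mem_or_mem h).elim hf₀ hf₁, dvd_mul_right _ _, ?_⟩
  have hmul : KerKilled (f₀ * f₁) (LinearMap.mulLeft R s) :=
    kerKilled_mulLeft hirr _ s fun p hp hfp hsp => by
      obtain ⟨P, hP, hPp⟩ := hsub (show (⟨p, hp⟩ : PrimeSpectrum R) ∈ (PrimeSpectrum.basicOpen f₁ : Set _) from
        fun h => hfp (p.mul_mem_left _ h))
      exact hP (Ideal.map_le_iff_le_comap.2 (congrArg PrimeSpectrum.asIdeal hPp).ge hsp)
  intro X _ _ z hz
  refine (hmul.compLeft r) X z ?_
  rw [show (LinearMap.mulLeft R s).compLeft (Fin r) = (δ.restrictScalars R).comp (α.restrictScalars R) from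
      LinearMap.ext fun v => (LinearMap.congr_fun hδ v).symm,
    LinearMap.rTensor_comp_apply, hz, map_zero]

end Groth.Agent.RG29
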