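import Groth.Agent.ML3.Dominate
import Groth.Agent.FlatCrit65.Assassin.FibrewiseInj
import Groth.Agent.RG29.DevFibre
import Groth.Agent.RG29.DevBaseChange
import Groth.Agent.FlatMor67.MLDescent
import Groth.Agent.FlatMor67.CountProj
import Mathlib

/-!
Smooth algebras with geometrically irreducible fibres are projective over the base.

With a section of the algebra, truncated expansions along the section give functionals to the base; a
tensor killed by all of them is killed by an element congruent to one along the section (Krull, after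
descent to a Noetherian subring), and such an element is regular on every fibre.
-/

set_option autoImplicit false

universe u

open TensorProduct

namespace Groth.Agent.RG29

/-- A fibrewise injective map from a flat finitely presented module is universally injective. -/
theorem univInj_of_fibres_fp {A B M N : Type u} [CommRing A] [CommRing B] [Algebra A B]
    [Algebra.FinitePresentation A B] [AddCommGroup M] [Module B M] [Module A M] [IsScalarTower A B M]
    [Module.FinitePresentation B M] [Module.Flat A M] [AddCommGroup N] [Module A N] [Module.Flat A N]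
    (u : M →ₗ[A] N) (h : ∀ (p : Ideal A) [p.IsPrime], Function.Injective (u.lTensor p.ResidueField))
    (Q : Type u) [AddCommGroup Q] [Module A Q] : Function.Injective (u.rTensor Q) := by
  let f := (LocalizedModule.mkLinearMap (⊥ : Submonoid B) M).restrictScalars A
  have hf : Function.Bijective f := by
    refine ⟨fun a b hab => ?_, fun z => ?_⟩
    · obtain ⟨⟨c, hc⟩, h1⟩ := LocalizedModule.mk_eq.1
        (show LocalizedModule.mk a (1 : (⊥ : Submonoid B)) = LocalizedModule.mk b 1 from hab)
      rw [Submonoid.mem_bot] at hc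
      simpa [Submonoid.smul_def, hc] using h1
    · induction z using LocalizedModule.induction_on with
      | _ m s =>
        refine ⟨m, ?_⟩
        obtain ⟨s, hs⟩ := s
        rw [Submonoid.mem_bot] at hs
        subst hs
        rfl
  let e : M ≃ₗ[A] LocalizedModule (⊥ : Submonoid B) M := LinearEquiv.ofBijective f hf
  haveI : Module.Flat A (LocalizedModule (⊥ : Submonoid B) M) := Module.Flat.of_linearEquiv e.symm
  have hu := FlatCrit65.univInj_of_fibres (⊥ : Submonoid B) (u.comp e.symm.toLinearMap) (fun p _ => by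
    rw [LinearMap.lTensor_comp]
    exact (h p).comp (LinearEquiv.lTensor p.ResidueField e.symm).injective) Q
  intro a b hab
  refine (LinearEquiv.rTensor Q e).injective (hu ?_)
  simp only [LinearMap.rTensor_comp, LinearMap.comp_apply]
  have hx : ∀ a, e.symm.toLinearMap.rTensor Q (LinearEquiv.rTensor Q e a) = a := fun a =>
    (LinearEquiv.rTensor Q e).symm_apply_apply a
  rw [hx, hx, hab]

/-- The module part of the Mittag-Leffler criterion along a section. -/
theorem exists_smul_eq_zero_of_expansions {R₀ D₀ : Type u} [CommRing R₀] [IsNoetherianRing R₀] [CommRing D₀]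
    [Algebra R₀ D₀] [Algebra.Smooth R₀ D₀] (σ : D₀ →ₐ[R₀] R₀) (X : Type u) [AddCommGroup X] [Module R₀ X]
    (z : D₀ ⊗[R₀] X) (hz : ∀ φ : D₀ →ₗ[R₀] R₀, φ.rTensor X z = 0) :
    ∃ s : D₀, σ s = 1 ∧ s • z = 0 := by
  classical
  -- reduction to a finite module
  obtain ⟨X₀, hX₀, z₀, rfl⟩ : ∃ (X₀ : Submodule R₀ X), X₀.FG ∧ ∃ z₀, X₀.subtype.lTensor D₀ z₀ = z := by
    obtain ⟨S, rfl⟩ := TensorProduct.exists_finset z
    refine ⟨Submodule.span R₀ (S.image Prod.snd : Set X), Submodule.fg_span (Finset.finite_toSet _),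
      ∑ p ∈ S.attach, p.1.1 ⊗ₜ ⟨p.1.2, Submodule.subset_span (Finset.mem_image_of_mem _ p.2)⟩, ?_⟩
    rw [map_sum]
    exact Finset.sum_attach S fun p => p.1 ⊗ₜ[R₀] p.2
  haveI : Module.Finite R₀ X₀ := Module.Finite.iff_fg.2 hX₀
  have hz₀ : ∀ φ : D₀ →ₗ[R₀] R₀, φ.rTensor X₀ z₀ = 0 := fun φ => by
    refine Module.Flat.lTensor_preserves_injective_linearMap (M := R₀) X₀.subtype X₀.injective_subtype ?_
    rw [map_zero, ← LinearMap.comp_apply, LinearMap.lTensor_comp_rTensor, ← LinearMap.rTensor_comp_lTensor,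
      LinearMap.comp_apply, hz]
  suffices ∃ s : D₀, σ s = 1 ∧ s • z₀ = 0 by
    obtain ⟨s, hs, hsz⟩ := this
    refine ⟨s, hs, ?_⟩
    have hlin : ∀ w, X₀.subtype.lTensor D₀ (s • w) = s • X₀.subtype.lTensor D₀ w := fun w => by
      induction w using TensorProduct.induction_on with
      | zero => simp
      | tmul a b => simp [TensorProduct.smul_tmul']
      | add a b ha hb => simp only [smul_add, map_add, ha, hb]
    rw [← hlin, hsz, map_zero]
  haveI : IsNoetherianRing D₀ := Algebra.FiniteType.isNoetherianRing R₀ D₀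
  let I : Ideal D₀ := RingHom.ker σ
  obtain ⟨c, x, hx⟩ : ∃ (c : ℕ) (x : Fin c → D₀), Ideal.span (Set.range x) = I :=
    Submodule.fg_iff_exists_fin_generating_family.1 (IsNoetherian.noetherian I)
  let M : Ideal (MvPolynomial (Fin c) R₀) := MvPolynomial.idealOfVars (Fin c) R₀
  let ev : MvPolynomial (Fin c) R₀ →ₐ[R₀] D₀ := MvPolynomial.aeval x
  have hM : M.map ev = I := by
    rw [← hx]
    show (Ideal.span _).map ev = _
    rw [Ideal.map_span, ← Set.range_comp]
    congr 2
    funext i
    exact MvPolynomial.aeval_X x i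
  have hσI : ∀ d, d - algebraMap R₀ D₀ (σ d) ∈ I := fun d => by
    show σ _ = 0
    rw [map_sub, AlgHom.commutes]
    exact sub_self _
  -- polynomial approximation
  have happ : ∀ (k : ℕ) (d : D₀), ∃ P, d - ev P ∈ I ^ k := by
    intro k
    induction k with
    | zero => exact fun d => ⟨0, by rw [pow_zero, Ideal.one_eq_top]; trivial⟩
    | succ k ih =>
      intro d
      obtain ⟨P, hP⟩ := ih d
      suffices ∀ y ∈ (M ^ k).map ev, y ∈ I ^ k ∧ ∃ Q, y - ev Q ∈ I ^ (k + 1) by
        obtain ⟨-, Q, hQ⟩ := this (d - ev P) (by rwa [Ideal.map_pow, hM])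
        exact ⟨P + Q, by rw [map_add, ← sub_sub]; exact hQ⟩
      intro y hy
      induction hy using Submodule.span_induction with
      | mem y hy =>
        obtain ⟨q, hq, rfl⟩ := hy
        exact ⟨by rw [← hM, ← Ideal.map_pow]; exact Ideal.mem_map_of_mem _ hq, q, by simp⟩
      | zero => exact ⟨zero_mem _, 0, by simp⟩
      | add a b _ _ ha hb =>
        obtain ⟨Q, hQ⟩ := ha.2
        obtain ⟨Q', hQ'⟩ := hb.2
        exact ⟨add_mem ha.1 hb.1, Q + Q', by rw [map_add, add_sub_add_comm]; exact add_mem hQ hQ'⟩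
      | smul a y _ hy =>
        obtain ⟨Q, hQ⟩ := hy.2
        refine ⟨Ideal.mul_mem_left _ _ hy.1, MvPolynomial.C (σ a) * Q, ?_⟩
        rw [map_mul, MvPolynomial.aeval_C, smul_eq_mul,
          show a * y - algebraMap R₀ D₀ (σ a) * ev Q =
            (a - algebraMap R₀ D₀ (σ a)) * y + algebraMap R₀ D₀ (σ a) * (y - ev Q) by ring, pow_succ']
        refine add_mem (Ideal.mul_mem_mul (hσI a) hy.1) ?_
        rw [← pow_succ']
        exact Ideal.mul_mem_left _ _ hQ
  -- the truncated expansions
  have hexp : ∀ j : ℕ, ∃ ψ : D₀ →ₗ[R₀] MvPolynomial (Fin c) R₀, ∀ d, d - ev (ψ d) ∈ I ^ j := by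
    intro j
    let J : Ideal D₀ := I ^ j
    let π₀ : MvPolynomial (Fin c) R₀ →ₐ[R₀] D₀ ⧸ J := (Ideal.Quotient.mkₐ R₀ J).comp ev
    have hker : ∀ q ∈ M ^ j, π₀ q = 0 := fun q hq => Ideal.Quotient.eq_zero_iff_mem.2
      (show ev q ∈ I ^ j by rw [← hM, ← Ideal.map_pow]; exact Ideal.mem_map_of_mem _ hq)
    let π : (MvPolynomial (Fin c) R₀ ⧸ M ^ j) →ₐ[R₀] D₀ ⧸ J := Ideal.Quotient.liftₐ (M ^ j) π₀ hker
    have hπ : Function.Surjective π := fun w => by
      obtain ⟨d, rfl⟩ := Ideal.Quotient.mk_surjective w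
      obtain ⟨P, hP⟩ := happ j d
      exact ⟨Ideal.Quotient.mk _ P, ((Ideal.Quotient.mk_eq_mk_iff_sub_mem (I := J) d (ev P)).2 hP).symm⟩
    have hnil : IsNilpotent (RingHom.ker (π : (MvPolynomial (Fin c) R₀ ⧸ M ^ j) →+* D₀ ⧸ J)) := by
      rcases Nat.eq_zero_or_pos j with rfl | hj
      · refine ⟨1, ?_⟩
        haveI : Subsingleton (MvPolynomial (Fin c) R₀ ⧸ M ^ 0) :=
          Ideal.Quotient.subsingleton_iff.2 (by rw [pow_zero, Ideal.one_eq_top])
        exact Subsingleton.elim _ _
      refine ⟨j, le_bot_iff.1 ?_⟩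
      have hle : RingHom.ker (π : (MvPolynomial (Fin c) R₀ ⧸ M ^ j) →+* D₀ ⧸ J) ≤
          M.map (Ideal.Quotient.mk (M ^ j)) := fun w hw => by
        obtain ⟨q, rfl⟩ := Ideal.Quotient.mk_surjective w
        refine Ideal.mem_map_of_mem _ ?_
        have hq : ev q ∈ J := Ideal.Quotient.eq_zero_iff_mem.1 hw
        have h0 : σ (ev q) = 0 := Ideal.pow_le_self hj.ne' hq
        have hc : σ (ev q) = MvPolynomial.constantCoeff q := by
          show (σ.comp ev) q = _
          rw [show σ.comp ev = MvPolynomial.aeval (0 : Fin c → R₀) from MvPolynomial.algHom_ext fun i => by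
            rw [AlgHom.comp_apply, MvPolynomial.aeval_X, MvPolynomial.aeval_X]
            exact (show x i ∈ I from hx ▸ Ideal.subset_span ⟨i, rfl⟩)]
          simp [MvPolynomial.aeval_zero]
        show q ∈ M
        rw [← pow_one M, MvPolynomial.mem_pow_idealOfVars_iff']
        intro e he
        rw [Nat.lt_one_iff, Finsupp.degree_eq_zero_iff] at he
        subst he
        exact hc.symm.trans h0
      calc _ ≤ M.map (Ideal.Quotient.mk (M ^ j)) ^ j := pow_le_pow_left' hle j
        _ = ⊥ := by rw [← Ideal.map_pow, Ideal.map_quotient_self]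
    let θ : D₀ →ₐ[R₀] MvPolynomial (Fin c) R₀ ⧸ M ^ j :=
      Algebra.FormallySmooth.liftOfSurjective (Ideal.Quotient.mkₐ R₀ J) π hπ hnil
    -- truncation
    let T : MvPolynomial (Fin c) R₀ →ₗ[R₀] MvPolynomial (Fin c) R₀ :=
      (MvPolynomial.basisMonomials (Fin c) R₀).constr R₀ fun e => if e.degree < j then MvPolynomial.monomial e 1 else 0
    have hT : ∀ q e, (T q).coeff e = if e.degree < j then q.coeff e else 0 := fun q e => by
      induction q using MvPolynomial.induction_on' with
      | monomial e' a =>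
        rw [show MvPolynomial.monomial e' a = a • (MvPolynomial.basisMonomials (Fin c) R₀) e' by
            rw [MvPolynomial.coe_basisMonomials, MvPolynomial.smul_monomial, smul_eq_mul, mul_one],
          map_smul, Module.Basis.constr_basis, MvPolynomial.coeff_smul, MvPolynomial.coeff_smul]
        by_cases he : e' = e
        · subst he
          split <;> simp
        · split <;> split <;> simp [he]
      | add u v hu hv =>
        rw [map_add, MvPolynomial.coeff_add, hu, hv, MvPolynomial.coeff_add]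
        split <;> simp
    have hTker : (M ^ j).restrictScalars R₀ ≤ LinearMap.ker T := fun q hq => by
      refine MvPolynomial.ext _ _ fun e => ?_
      rw [hT, MvPolynomial.coeff_zero]
      split
      next he => exact (MvPolynomial.mem_pow_idealOfVars_iff' j q).1 hq e he
      next => rfl
    refine ⟨(((M ^ j).restrictScalars R₀).liftQ T hTker).comp θ.toLinearMap, fun d => ?_⟩
    obtain ⟨q, hq⟩ := Ideal.Quotient.mk_surjective (θ d)
    show d - ev (((M ^ j).restrictScalars R₀).liftQ T hTker (θ d)) ∈ J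
    rw [← hq, show ((M ^ j).restrictScalars R₀).liftQ T hTker (Ideal.Quotient.mk (M ^ j) q) = T q from rfl,
      ← Ideal.Quotient.mk_eq_mk_iff_sub_mem]
    have h1 : π (θ d) = Ideal.Quotient.mk J d :=
      Algebra.FormallySmooth.liftOfSurjective_apply (Ideal.Quotient.mkₐ R₀ J) π hπ hnil d
    rw [← h1, ← hq]
    show Ideal.Quotient.mk J (ev q) = Ideal.Quotient.mk J (ev (T q))
    rw [Ideal.Quotient.mk_eq_mk_iff_sub_mem, ← map_sub]
    refine Ideal.Quotient.eq_zero_iff_mem.1 (hker _ ((MvPolynomial.mem_pow_idealOfVars_iff' j _).2 fun e he => ?_))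
    rw [MvPolynomial.coeff_sub, hT, if_pos he, sub_self]
  -- the expansions detect the intersection
  have hmem : z₀ ∈ (⨅ j : ℕ, I ^ j • ⊤ : Submodule D₀ (D₀ ⊗[R₀] X₀)) := by
    rw [Submodule.mem_iInf]
    intro j
    obtain ⟨ψ, hψ⟩ := hexp j
    have h0 : ψ.rTensor X₀ z₀ = 0 := by
      refine (TensorProduct.equivFinsuppOfBasisLeft (MvPolynomial.basisMonomials (Fin c) R₀)).map_eq_zero_iff.1
        (Finsupp.ext fun e => ?_)
      rw [TensorProduct.equivFinsuppOfBasisLeft_apply, ← LinearMap.rTensor_comp_apply, hz₀]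
      simp
    have key : ∀ w : D₀ ⊗[R₀] X₀, w - (ev.toLinearMap.comp ψ).rTensor X₀ w ∈ I ^ j • (⊤ : Submodule D₀ _) := by
      intro w
      induction w using TensorProduct.induction_on with
      | zero => simp
      | tmul d v =>
        rw [LinearMap.rTensor_tmul, ← TensorProduct.sub_tmul,
          show ∀ a : D₀, a ⊗ₜ[R₀] v = a • ((1 : D₀) ⊗ₜ[R₀] v) from fun a => by
            rw [TensorProduct.smul_tmul', smul_eq_mul, mul_one]]
        exact Submodule.smul_mem_smul (hψ d) trivial
      | add a b ha hb => rw [map_add, add_sub_add_comm]; exact add_mem ha hb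
    have := key z₀
    rwa [LinearMap.rTensor_comp_apply, h0, map_zero, sub_zero] at this
  obtain ⟨r, hr⟩ := (I.mem_iInf_smul_pow_eq_bot_iff z₀).1 hmem
  exact ⟨1 - r, by rw [map_sub, map_one, show σ r = 0 from r.2, sub_zero], (sub_smul (1 : D₀) (r : D₀) z₀).trans (by rw [one_smul]; exact sub_eq_zero.2 hr.symm)⟩

/-- A base change of a smooth algebra with a section is Mittag-Leffler once elements equal to one along
the section are universally regular. -/
theorem ml_tensor_of_section {R₀ D₀ R : Type u} [CommRing R₀] [IsNoetherianRing R₀] [CommRing D₀] [CommRing R]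
    [Algebra R₀ D₀] [Algebra R₀ R] [Algebra.Smooth R₀ D₀] (σ : D₀ →ₐ[R₀] R₀)
    (hreg : ∀ s : D₀, σ s = 1 → ∀ (X : Type u) [AddCommGroup X] [Module R X],
      Function.Injective ((LinearMap.mulLeft R ((1 : R) ⊗ₜ[R₀] s : R ⊗[R₀] D₀)).rTensor X)) :
    CAlg.IsMittagLeffler R (R ⊗[R₀] D₀) := by
  rw [ML3.ml_iff_forall]
  intro ι Q _ _ x hx
  letI mQ : ∀ i, Module R₀ (Q i) := fun i => Module.compHom (Q i) (algebraMap R₀ R)
  haveI : ∀ i, IsScalarTower R₀ R (Q i) := fun i => IsScalarTower.of_algebraMap_smul fun _ _ => rfl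
  haveI : IsScalarTower R₀ R (∀ i, Q i) := ⟨fun a b v => funext fun i => smul_assoc a b (v i)⟩
  let Θ : ∀ (X : Type u) [AddCommGroup X] [Module R X] [Module R₀ X] [IsScalarTower R₀ R X],
      (R ⊗[R₀] D₀) ⊗[R] X ≃ₗ[R₀] D₀ ⊗[R₀] X := fun X _ _ _ _ =>
    ((TensorProduct.comm R (R ⊗[R₀] D₀) X).trans
      (AlgebraTensorModule.cancelBaseChange R₀ R R X D₀)).restrictScalars R₀ |>.trans (TensorProduct.comm R₀ X D₀)
  let w := Θ (∀ i, Q i) x
  have hnat : ∀ (i : ι) (y : (R ⊗[R₀] D₀) ⊗[R] (∀ i, Q i)),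
      ((LinearMap.proj i : (∀ i, Q i) →ₗ[R₀] Q i)).lTensor D₀ (Θ _ y) =
        Θ (Q i) (TensorProduct.piRightHom R R (R ⊗[R₀] D₀) Q y i) := fun i y => by
    induction y using TensorProduct.induction_on with
    | zero => simp
    | tmul a v =>
      induction a using TensorProduct.induction_on with
      | zero => simp
      | tmul r d => simp [Θ]
      | add a b ha hb => simp only [TensorProduct.add_tmul, map_add, Pi.add_apply, ha, hb]
    | add a b ha hb => simp only [map_add, Pi.add_apply, ha, hb]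
  have hφ : ∀ φ : D₀ →ₗ[R₀] R₀, φ.rTensor (∀ i, Q i) w = 0 := fun φ => by
    refine (TensorProduct.lid R₀ _).map_eq_zero_iff.1 (funext fun i => ?_)
    have hc : ∀ v : R₀ ⊗[R₀] (∀ i, Q i), TensorProduct.lid R₀ _ v i =
        TensorProduct.lid R₀ (Q i) (((LinearMap.proj i : (∀ i, Q i) →ₗ[R₀] Q i)).lTensor R₀ v) := fun v => by
      induction v using TensorProduct.induction_on with
      | zero => simp
      | tmul a b => simp
      | add a b ha hb => simp only [map_add, Pi.add_apply, ha, hb]
    rw [hc, ← LinearMap.comp_apply (f := LinearMap.lTensor _ _), LinearMap.lTensor_comp_rTensor,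
      ← LinearMap.rTensor_comp_lTensor, LinearMap.comp_apply, hnat, hx]
    simp
  obtain ⟨s, hs, hsw⟩ := exists_smul_eq_zero_of_expansions σ (∀ i, Q i) w hφ
  apply hreg s hs (∀ i, Q i)
  rw [map_zero]
  have hmul : ∀ y, Θ (∀ i, Q i) ((LinearMap.mulLeft R ((1 : R) ⊗ₜ[R₀] s : R ⊗[R₀] D₀)).rTensor _ y) =
      s • Θ (∀ i, Q i) y := fun y => by
    induction y using TensorProduct.induction_on with
    | zero => simp
    | tmul a v =>
      induction a using TensorProduct.induction_on with
      | zero => simp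
      | tmul r d => simp [Θ, TensorProduct.smul_tmul']
      | add a b ha hb =>
        simp only [TensorProduct.add_tmul, map_add, smul_add, ha, hb]
    | add a b ha hb => simp only [map_add, smul_add, ha, hb]
  exact (Θ _).map_eq_zero_iff.1 ((hmul x).trans hsw)

/-- Multiplication by an element which is nonzero on every fibre is universally injective. -/
theorem univInj_mulLeft {R D : Type u} [CommRing R] [CommRing D] [Algebra R D] [Algebra.Smooth R D]
    (hirr : FlatCA.GeomIrredFibres R D) (s : D)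
    (hs : ∀ (p : Ideal R) [p.IsPrime], ((1 : p.ResidueField) ⊗ₜ[R] s : p.Fiber D) ≠ 0)
    (X : Type u) [AddCommGroup X] [Module R X] : Function.Injective ((LinearMap.mulLeft R s).rTensor X) := by
  refine univInj_of_fibres_fp (B := D) (M := D) (LinearMap.mulLeft R s) (fun p _ => ?_) X
  haveI := isDomain_fiber p hirr
  have hm : ∀ w : p.Fiber D, (LinearMap.mulLeft R s).lTensor p.ResidueField w =
      ((1 : p.ResidueField) ⊗ₜ[R] s : p.Fiber D) * w := fun w => by
    induction w using TensorProduct.induction_on with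
    | zero => simp
    | tmul a d => simp [Algebra.TensorProduct.tmul_mul_tmul]
    | add a b ha hb => simp only [map_add, mul_add, ha, hb]
  intro a b hab
  rw [hm, hm] at hab
  exact mul_left_cancel₀ (hs p) hab

/-- A smooth algebra descending to a Noetherian base along with a section is Mittag-Leffler. -/
theorem ml_of_descended {A₁ D₁ R D : Type u} [CommRing A₁] [IsNoetherianRing A₁] [CommRing D₁] [CommRing R]
    [CommRing D] [Algebra A₁ D₁] [Algebra A₁ R] [Algebra R D] [Algebra.Smooth A₁ D₁] [Algebra.Smooth R D]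
    (hirr : FlatCA.GeomIrredFibres R D) (σ : D →ₐ[R] R) (σ' : D₁ →ₐ[A₁] A₁) (e₁ : R ⊗[A₁] D₁ ≃ₐ[R] D)
    (hσ' : ∀ w : D₁, σ (e₁ ((1 : R) ⊗ₜ w)) = algebraMap A₁ R (σ' w)) : CAlg.IsMittagLeffler R D := by
  refine ML3.ml_of_linearEquiv e₁.toLinearEquiv.symm (ml_tensor_of_section σ' fun s hs X _ _ => ?_)
  have hsinj := univInj_mulLeft hirr (e₁ ((1 : R) ⊗ₜ s)) (fun p _ h0 => ?_) X
  · have hconj : LinearMap.mulLeft R ((1 : R) ⊗ₜ[A₁] s : R ⊗[A₁] D₁) =
        e₁.symm.toLinearMap.comp ((LinearMap.mulLeft R (e₁ ((1 : R) ⊗ₜ s))).comp e₁.toLinearMap) :=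
      LinearMap.ext fun w => by simp
    rw [hconj, LinearMap.rTensor_comp, LinearMap.rTensor_comp]
    exact ((LinearEquiv.rTensor X e₁.symm.toLinearEquiv).injective.comp hsinj).comp
      (LinearEquiv.rTensor X e₁.toLinearEquiv).injective
  · let Φ : p.Fiber D →ₐ[p.ResidueField] p.ResidueField :=
      Algebra.TensorProduct.lift (AlgHom.id _ _) ((Algebra.ofId R p.ResidueField).comp σ) fun _ _ => .all _ _
    have h1 := congrArg Φ h0
    rw [map_zero, Algebra.TensorProduct.lift_tmul, AlgHom.comp_apply, hσ', hs] at h1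
    simp at h1

set_option maxHeartbeats 800000 in
set_option synthInstance.maxHeartbeats 200000 in
theorem ml_of_section {R D : Type u} [CommRing R] [CommRing D] [Algebra R D] [Algebra.Smooth R D]
    (hirr : FlatCA.GeomIrredFibres R D) (σ : D →ₐ[R] R) : CAlg.IsMittagLeffler R D := by
  classical
  obtain ⟨A₀, B₀, _, _, hfg, hsm, ⟨e⟩⟩ := Algebra.Smooth.exists_subalgebra_fg (R := ℤ) (A := R) (B := D)
  haveI := hsm
  obtain ⟨t, ht⟩ := (inferInstance : Algebra.FiniteType A₀ B₀)
  let σ₁ : B₀ →ₐ[A₀] R := (σ.restrictScalars A₀).comp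
    (((e.symm : R ⊗[A₀] B₀ →ₐ[R] D).restrictScalars A₀).comp Algebra.TensorProduct.includeRight)
  let A₁ : Subalgebra A₀ R := Algebra.adjoin A₀ (t.image σ₁ : Set R)
  haveI : Algebra.FiniteType A₀ A₁ := (Subalgebra.fg_iff_finiteType _).1 ⟨_, rfl⟩
  haveI : Algebra.FiniteType ℤ A₀ := (Subalgebra.fg_iff_finiteType _).1 hfg
  haveI : Algebra.FiniteType ℤ A₁ := Algebra.FiniteType.trans (S := A₀) inferInstance inferInstance
  haveI : IsNoetherianRing A₁ := Algebra.FiniteType.isNoetherianRing ℤ A₁
  have hrange : ∀ b, σ₁ b ∈ A₁ := fun b => by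
    have hb : b ∈ Algebra.adjoin A₀ (t : Set B₀) := ht ▸ trivial
    refine (Subalgebra.mem_comap A₁ σ₁ b).1 ((Algebra.adjoin_le ?_ : Algebra.adjoin A₀ (t : Set B₀) ≤ A₁.comap σ₁) hb)
    exact fun b hb => Algebra.subset_adjoin (Finset.mem_image_of_mem σ₁ hb)
  let D₁ := A₁ ⊗[A₀] B₀
  let τ : B₀ →ₐ[A₀] A₁ := σ₁.codRestrict A₁ hrange
  let σ' : D₁ →ₐ[A₁] A₁ := Algebra.TensorProduct.lift (AlgHom.id A₁ A₁) τ fun _ _ => .all _ _
  let e₁ : R ⊗[A₁] D₁ ≃ₐ[R] D := (Algebra.TensorProduct.cancelBaseChange A₀ A₁ R R B₀).trans e.symm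
  have hσ' : ∀ w : D₁, σ (e₁ ((1 : R) ⊗ₜ w)) = algebraMap A₁ R (σ' w) := fun w => by
    induction w using TensorProduct.induction_on with
    | zero => simp
    | tmul a b =>
      rw [show e₁ ((1 : R) ⊗ₜ[A₁] (a ⊗ₜ[A₀] b)) = e.symm ((a • (1 : R)) ⊗ₜ[A₀] b) from rfl,
        show ((a • (1 : R)) ⊗ₜ[A₀] b) = (a • (1 : R)) • ((1 : R) ⊗ₜ[A₀] b) by
          rw [TensorProduct.smul_tmul', smul_eq_mul, mul_one],
        map_smul, map_smul, smul_eq_mul, Algebra.TensorProduct.lift_tmul, map_mul, ← Algebra.algebraMap_eq_smul_one]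
      rfl
    | add a b ha hb =>
      rw [TensorProduct.tmul_add, map_add e₁, map_add σ, map_add σ', map_add, ha, hb]
  exact ml_of_descended (A₁ := A₁) (D₁ := D₁) hirr σ σ' e₁ hσ'

/-- A smooth algebra with geometrically irreducible fibres is projective over the base. -/
theorem projective_of_smooth_geomIrred {R D : Type u} [CommRing R] [CommRing D] [Algebra R D]
    [Algebra.Smooth R D] (hirr : FlatCA.GeomIrredFibres R D) : Module.Projective R D := by
  haveI : Module.FaithfullyFlat R D := by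
    refine Module.FaithfullyFlat.of_comap_surjective fun p => ?_
    haveI := irreducibleSpace_fiber p.asIdeal hirr
    obtain ⟨x⟩ := (inferInstance : Nonempty (PrimeSpectrum (p.asIdeal.Fiber D)))
    refine ⟨⟨_, ((PrimeSpectrum.primesOverOrderIsoFiber R D p.asIdeal).symm x).2.1⟩, PrimeSpectrum.ext ?_⟩
    exact ((PrimeSpectrum.primesOverOrderIsoFiber R D p.asIdeal).symm x).2.2.over.symm
  have hml : CAlg.IsMittagLeffler D (D ⊗[R] D) :=
    ml_of_section (geomIrred_baseChange hirr) (Algebra.TensorProduct.lmul'' R)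
  refine FlatMor67.projective_of_flat_ml_countable D (FlatMor67.ml_descent D hml) ?_
  obtain ⟨t, ht⟩ := (inferInstance : Algebra.FiniteType R D)
  refine ⟨Submonoid.closure (t : Set D), ?_, by rw [← Algebra.adjoin_eq_span, ht, Algebra.top_toSubmodule]⟩
  haveI : Countable (t : Set D) := t.countable_toSet.to_subtype
  rw [Submonoid.closure_eq_mrange]
  exact Set.countable_range _

end Groth.Agent.RG29
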