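import Groth.Agent.RG29.FPTransfer
import Mathlib

/-!
The étale algebra over a base change to a local ring given by an étale algebra over an étale algebra.
-/

set_option autoImplicit false

universe u

open TensorProduct

namespace Groth.Agent.RG29

set_option maxHeartbeats 800000 in
/-- For `R'` étale over `R`, `S'` étale over `S` and compatibly over `R'`, the localization of `S'` at a
prime of `R'` is étale over any base change of `S` to the local ring of `R'` there. -/
theorem exists_localAlgebra {R S R' S' : Type u} [CommRing R] [CommRing S] [CommRing R'] [CommRing S']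
    [Algebra R S] [Algebra R R'] [Algebra.Etale R R'] [Algebra S S'] [Algebra.Etale S S'] [Algebra R' S'] [Algebra R S']
    [IsScalarTower R R' S'] [IsScalarTower R S S'] (p' : Ideal R') [p'.IsPrime] {N : Type u} [AddCommGroup N] [Module S N]
    (SA NA : Type u) [CommRing SA] [Algebra R SA] [Algebra S SA] [Algebra (Localization.AtPrime p') SA]
    [IsScalarTower R S SA] [IsScalarTower R (Localization.AtPrime p') SA]
    [Algebra.IsPushout R S (Localization.AtPrime p') SA]
    [AddCommGroup NA] [Module SA NA] [Module S NA] [IsScalarTower S SA NA]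
    (f : N →ₗ[S] NA) (hf : IsBaseChange SA f) :
    ∃ (_ : Algebra SA (Localization (Algebra.algebraMapSubmonoid S' p'.primeCompl))),
      IsScalarTower (Localization.AtPrime p') SA (Localization (Algebra.algebraMapSubmonoid S' p'.primeCompl)) ∧
      IsScalarTower S SA (Localization (Algebra.algebraMapSubmonoid S' p'.primeCompl)) ∧
      Algebra.Etale SA (Localization (Algebra.algebraMapSubmonoid S' p'.primeCompl)) ∧
      Nonempty (Localization (Algebra.algebraMapSubmonoid S' p'.primeCompl) ⊗[SA] NA
        ≃ₗ[Localization (Algebra.algebraMapSubmonoid S' p'.primeCompl)]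
        LocalizedModule (Algebra.algebraMapSubmonoid S' p'.primeCompl) (S' ⊗[S] N)) := by
  let A := Localization.AtPrime p'
  let T := Algebra.algebraMapSubmonoid S' p'.primeCompl
  let C := Localization T
  haveI : IsScalarTower R R' C := IsScalarTower.of_algebraMap_eq fun x => by
    rw [IsScalarTower.algebraMap_apply R S' C, IsScalarTower.algebraMap_apply R R' S',
      ← IsScalarTower.algebraMap_apply R' S' C]
  haveI : IsScalarTower R' A C := inferInstance
  haveI : IsScalarTower R A C := IsScalarTower.of_algebraMap_eq fun x => by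
    rw [IsScalarTower.algebraMap_apply R R' C, IsScalarTower.algebraMap_apply R R' A,
      ← IsScalarTower.algebraMap_apply R' A C]
  haveI : IsScalarTower R S C := IsScalarTower.of_algebraMap_eq fun x => by
    rw [IsScalarTower.algebraMap_apply R S' C, IsScalarTower.algebraMap_apply R S S',
      ← IsScalarTower.algebraMap_apply S S' C]
  let fSA : SA →ₐ[R] C := Algebra.pushoutDesc (R := R) (S := S) (R' := A) SA
    (IsScalarTower.toAlgHom R S C) (IsScalarTower.toAlgHom R A C) fun _ _ => mul_comm _ _
  letI aSAC : Algebra SA C := fSA.toRingHom.toAlgebra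
  haveI tASAC : IsScalarTower A SA C := IsScalarTower.of_algebraMap_eq fun a => by
    show algebraMap A C a = fSA (algebraMap A SA a)
    rw [Algebra.pushoutDesc_right]
    rfl
  haveI tSSAC : IsScalarTower S SA C := IsScalarTower.of_algebraMap_eq fun a => by
    show algebraMap S C a = fSA (algebraMap S SA a)
    rw [Algebra.pushoutDesc_left]
    rfl
  letI : Algebra R' (S ⊗[R] R') := Algebra.TensorProduct.rightAlgebra
  let S₁ := S ⊗[R] R'
  let i₁ : S₁ →ₐ[S] S' := Algebra.TensorProduct.lift (Algebra.ofId S S') (IsScalarTower.toAlgHom R R' S')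
    fun _ _ => mul_comm _ _
  letI : Algebra S₁ S' := i₁.toRingHom.toAlgebra
  haveI : IsScalarTower S S₁ S' := IsScalarTower.of_algebraMap_eq fun a => (i₁.commutes a).symm
  haveI : IsScalarTower R' S₁ S' := IsScalarTower.of_algebraMap_eq fun a => by
    show _ = i₁ ((1 : S) ⊗ₜ[R] a)
    refine Eq.trans ?_ (Algebra.TensorProduct.lift_tmul _ _ _ _ _).symm
    rw [map_one, one_mul]
    rfl
  letI : Algebra R' SA := ((algebraMap A SA).comp (algebraMap R' A)).toAlgebra
  haveI : IsScalarTower R' A SA := IsScalarTower.of_algebraMap_eq fun _ => rfl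
  haveI : IsScalarTower R R' SA := IsScalarTower.of_algebraMap_eq fun x => by
    show _ = algebraMap A SA (algebraMap R' A (algebraMap R R' x))
    rw [← IsScalarTower.algebraMap_apply R R' A, ← IsScalarTower.algebraMap_apply R A SA]
  let i₂ : S₁ →ₐ[S] SA := Algebra.TensorProduct.lift (Algebra.ofId S SA) (IsScalarTower.toAlgHom R R' SA)
    fun _ _ => mul_comm _ _
  letI : Algebra S₁ SA := i₂.toRingHom.toAlgebra
  haveI : IsScalarTower S S₁ SA := IsScalarTower.of_algebraMap_eq fun a => (i₂.commutes a).symm
  haveI : IsScalarTower R' S₁ SA := IsScalarTower.of_algebraMap_eq fun a => by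
    show _ = i₂ ((1 : S) ⊗ₜ[R] a)
    refine Eq.trans ?_ (Algebra.TensorProduct.lift_tmul _ _ _ _ _).symm
    rw [map_one, one_mul]
    rfl
  haveI : Algebra.IsPushout R R' S S₁ := Algebra.IsPushout.symm inferInstance
  haveI : Algebra.IsPushout R A S SA := Algebra.IsPushout.symm inferInstance
  haveI : IsScalarTower R S₁ SA := IsScalarTower.of_algebraMap_eq fun x => by
    rw [IsScalarTower.algebraMap_apply R S SA, IsScalarTower.algebraMap_apply R S S₁,
      ← IsScalarTower.algebraMap_apply S S₁ SA]
  haveI hP : Algebra.IsPushout R' A S₁ SA :=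
    (Algebra.IsPushout.comp_iff (R := R) (S := R') (R' := S) (S' := S₁) (T := A) (T' := SA)).1 inferInstance
  haveI : IsLocalization (Algebra.algebraMapSubmonoid S₁ p'.primeCompl) SA :=
    (Algebra.isLocalization_iff_isPushout p'.primeCompl A).2 (Algebra.IsPushout.symm hP)
  haveI tS₁SAC : IsScalarTower S₁ SA C := by
    refine IsScalarTower.of_algebraMap_eq fun x => ?_
    rw [IsScalarTower.algebraMap_apply S₁ S' C]
    show algebraMap S' C (i₁ x) = fSA (i₂ x)
    induction x using TensorProduct.induction_on with
    | zero => simp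
    | tmul s r =>
      rw [show i₁ (s ⊗ₜ[R] r) = algebraMap S S' s * algebraMap R' S' r from Algebra.TensorProduct.lift_tmul _ _ _ _ _,
        show i₂ (s ⊗ₜ[R] r) = algebraMap S SA s * algebraMap R' SA r from Algebra.TensorProduct.lift_tmul _ _ _ _ _,
        map_mul, map_mul]
      congr 1
      · show algebraMap S' C (algebraMap S S' s) = fSA (algebraMap S SA s)
        rw [Algebra.pushoutDesc_left, ← IsScalarTower.algebraMap_apply]
        rfl
      · show algebraMap S' C (algebraMap R' S' r) = fSA (algebraMap A SA (algebraMap R' A r))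
        rw [Algebra.pushoutDesc_right]
        show _ = algebraMap A C (algebraMap R' A r)
        rw [← IsScalarTower.algebraMap_apply, ← IsScalarTower.algebraMap_apply]
    | add a b ha hb => simp only [map_add, ha, hb]
  haveI : IsLocalization (Algebra.algebraMapSubmonoid S' (Algebra.algebraMapSubmonoid S₁ p'.primeCompl)) C := by
    have : Algebra.algebraMapSubmonoid S' (Algebra.algebraMapSubmonoid S₁ p'.primeCompl) = T := by
      ext x
      simp [T, Algebra.algebraMapSubmonoid, Submonoid.mem_map, IsScalarTower.algebraMap_apply R' S₁ S']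
    rw [this]
    infer_instance
  haveI : Algebra.IsPushout S₁ SA S' C :=
    Algebra.IsPushout.symm
      (Algebra.isPushout_of_isLocalization (Algebra.algebraMapSubmonoid S₁ p'.primeCompl) SA S' C)
  haveI : Algebra.Etale S₁ S' := Algebra.Etale.of_restrictScalars S S₁ S'
  haveI : Algebra.Etale SA C := Algebra.Etale.of_equiv (Algebra.IsPushout.equiv S₁ SA S' C)
  refine ⟨aSAC, tASAC, tSSAC, inferInstance, ?_⟩
  haveI : IsScalarTower S C (LocalizedModule T (S' ⊗[S] N)) := IsScalarTower.of_algebraMap_smul fun c m => by
    rw [IsScalarTower.algebraMap_apply S S' C, algebraMap_smul, algebraMap_smul]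
  have h₁ : IsBaseChange C ((LocalizedModule.mkLinearMap T (S' ⊗[S] N)).restrictScalars S ∘ₗ
      TensorProduct.mk S S' N 1) :=
    IsBaseChange.comp (TensorProduct.isBaseChange S N S')
      (IsLocalizedModule.isBaseChange T C (LocalizedModule.mkLinearMap T (S' ⊗[S] N)))
  have h₂ : IsBaseChange C ((TensorProduct.mk SA C NA 1).restrictScalars S ∘ₗ f) :=
    IsBaseChange.comp hf (TensorProduct.isBaseChange SA NA C)
  exact ⟨h₂.equiv.symm.trans h₁.equiv⟩

end Groth.Agent.RG29
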