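import Groth.Agent.RG29.DevFreeLocal
import Groth.Agent.RG29.DevExist
import Groth.Agent.RG29.DevCover
import Groth.Agent.RG29.LocalAlgebra
import Mathlib

/-!
Flat finite modules over finite type algebras become free after étale localization at a point of the base
and étale localization upstairs, at a point or along a fibre.
-/

set_option autoImplicit false

universe u

open TensorProduct

namespace Groth.Agent.RG29

/-- An étale base change of a module flat at a point is flat at the points over it, over étale algebras over
the base. -/
theorem flatAt_etale {R S R' S' : Type u} [CommRing R] [CommRing S] [CommRing R'] [CommRing S']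
    [Algebra R S] [Algebra R R'] [Algebra.Etale R R'] [Algebra S S'] [Algebra.Etale S S'] [Algebra R' S'] [Algebra R S']
    [IsScalarTower R R' S'] [IsScalarTower R S S'] {N M : Type u} [AddCommGroup N] [Module S N] [Module R N]
    [IsScalarTower R S N] [AddCommGroup M] [Module S' M] [Module S M] [IsScalarTower S S' M] [Module R' M]
    [IsScalarTower R' S' M] {f : N →ₗ[S] M} (hf : IsBaseChange S' f) (q : Ideal S) [q.IsPrime] (q' : Ideal S')
    [q'.IsPrime] [hq : q'.LiesOver q] (h : FlatCA.FlatAt R q N) : FlatCA.FlatAt R' q' M := by
  letI : Module R M := Module.compHom M (algebraMap R R')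
  haveI : IsScalarTower R R' M := IsScalarTower.of_algebraMap_smul fun _ _ => rfl
  haveI : IsScalarTower R S' M := IsScalarTower.of_algebraMap_smul fun c m => by
    rw [IsScalarTower.algebraMap_apply R R' S', algebraMap_smul, algebraMap_smul]
  haveI : IsScalarTower R S M := IsScalarTower.of_algebraMap_smul fun c m => by
    rw [← algebraMap_smul S' (algebraMap R S c) m, ← IsScalarTower.algebraMap_apply, algebraMap_smul]
  exact (flat_localized_etale_iff (R := R) q'.primeCompl).1 (flat_localized_baseChange hf q.primeCompl q'.primeCompl
    (fun t ht h' => ht (hq.over.ge h')) h)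

/-- The zero case of `exists_free_nhd`. -/
theorem free_and_fp_of_subsingleton {R S : Type u} [CommRing R] [CommRing S] [Algebra R S] (p : Ideal R) [p.IsPrime]
    (M : Type u) [AddCommGroup M] [Module S M] [Module R M] [Subsingleton M] :
    Module.Free (Localization.AtPrime p) (Localization.AtPrime p ⊗[R] M) ∧
      Module.FinitePresentation (Localization (Algebra.algebraMapSubmonoid S p.primeCompl))
        (LocalizedModule (Algebra.algebraMapSubmonoid S p.primeCompl) M) := by
  haveI : Subsingleton (Localization.AtPrime p ⊗[R] M) := ⟨fun a b => by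
    suffices ∀ z : Localization.AtPrime p ⊗[R] M, z = 0 by rw [this a, this b]
    intro z
    induction z using TensorProduct.induction_on with
    | zero => rfl
    | tmul a m => rw [Subsingleton.elim m 0, tmul_zero]
    | add a b ha hb => rw [ha, hb, add_zero]⟩
  haveI : Subsingleton (LocalizedModule (Algebra.algebraMapSubmonoid S p.primeCompl) M) := ⟨fun a b => by
    induction a using LocalizedModule.induction_on with
    | _ a s =>
      induction b using LocalizedModule.induction_on with
      | _ b t => rw [Subsingleton.elim a 0, Subsingleton.elim b 0, LocalizedModule.zero_mk, LocalizedModule.zero_mk]⟩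
  exact ⟨Module.Free.of_subsingleton _ _, Module.finitePresentation_of_projective _ _⟩

set_option maxHeartbeats 800000 in
/-- Freeness and finite presentation after étale localization near a point where the module is flat. -/
theorem exists_free_nhd {R S : Type u} [CommRing R] [CommRing S] [Algebra R S] [Algebra.FiniteType R S]
    (N : Type u) [AddCommGroup N] [Module S N] [Module R N] [IsScalarTower R S N] [Module.Finite S N]
    (p : Ideal R) [p.IsPrime] (q : Ideal S) [q.IsPrime] [q.LiesOver p] (hflat : FlatCA.FlatAt R q N) :
    ∃ (R' S' : Type u) (_ : CommRing R') (_ : CommRing S') (_ : Algebra R R') (_ : Algebra S S') (_ : Algebra R' S')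
      (_ : Algebra R S') (_ : IsScalarTower R R' S') (_ : IsScalarTower R S S')
      (p' : Ideal R') (q' : Ideal S') (_ : p'.IsPrime) (_ : q'.IsPrime),
      FlatCA.IsEtaleNhd R R' p p' ∧ FlatCA.IsEtaleNhd S S' q q' ∧ q'.LiesOver p' ∧
      Module.Free (Localization.AtPrime p') (Localization.AtPrime p' ⊗[R'] (S' ⊗[S] N)) ∧
      (Algebra.FinitePresentation R S →
        Module.FinitePresentation (Localization (Algebra.algebraMapSubmonoid S' p'.primeCompl))
          (LocalizedModule (Algebra.algebraMapSubmonoid S' p'.primeCompl) (S' ⊗[S] N))) := by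
  by_cases hsupp : ∃ x ∈ Module.support (p.Fiber S) (FlatCA.fiberMod p S N), x.asIdeal = FlatCA.fiberIdeal p q
  · obtain ⟨R', S', _, _, _, _, _, _, _, _, p', q', _, _, hn, hn', hqp, hdev⟩ :=
      exists_hasCompleteDevissageAt N p q hsupp
    refine ⟨R', S', inferInstance, inferInstance, inferInstance, inferInstance, inferInstance, inferInstance,
      inferInstance, inferInstance, p', q', inferInstance, inferInstance, hn, hn', hqp, ?_⟩
    obtain ⟨het, -, -⟩ := hn
    obtain ⟨het', hqq, -⟩ := hn'
    haveI := het; haveI := het'; haveI := hqq; haveI := hqp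
    obtain ⟨D, ⟨hA⟩⟩ := hdev (S' ⊗[S] N) (TensorProduct.mk S S' N 1) (TensorProduct.isBaseChange S N S')
    obtain ⟨h1, h2⟩ := completeDevissage_localized D
      (kerKilledAt_of_point D hA (flatAt_etale (R := R) (TensorProduct.isBaseChange S N S') q q' hflat))
    refine ⟨h1, fun hS => h2 ?_⟩
    haveI := hS
    haveI : Algebra.FinitePresentation R S' := Algebra.FinitePresentation.trans R S S'
    exact Algebra.FinitePresentation.of_restrict_scalars_finitePresentation R R' S'
  · obtain ⟨x, hxq, hxc⟩ := exists_fiber_point p q
    have hq : (⟨q, ‹q.IsPrime›⟩ : PrimeSpectrum S) ∉ Module.support S N := fun h => by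
      refine hsupp ⟨x, (mem_support_fiberMod_iff p N x).2 ?_, hxq⟩
      convert h using 2
      exact hxc
    obtain ⟨g, hg, hkill⟩ := exists_smul_eq_zero_of_notMem_support N _ hq
    let S' := Localization.Away g
    have hd : Disjoint (Submonoid.powers g : Set S) (q : Set S) :=
      (Ideal.disjoint_powers_iff_notMem_of_isPrime _).2 hg
    let q' : Ideal S' := q.map (algebraMap S S')
    haveI : q'.IsPrime := IsLocalization.isPrime_of_isPrime_disjoint (Submonoid.powers g) S' q ‹_› hd
    haveI hqq : q'.LiesOver q :=
      ⟨(IsLocalization.under_map_of_isPrime_disjoint (Submonoid.powers g) S' ‹q.IsPrime› hd).symm⟩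
    haveI hqp : q'.LiesOver p := Ideal.LiesOver.trans q' q p
    haveI : Algebra.Etale S S' := Algebra.Etale.of_isLocalizationAway g
    haveI : Subsingleton (S' ⊗[S] N) := ⟨fun a b => by
      suffices ∀ z : S' ⊗[S] N, z = 0 by rw [this a, this b]
      intro z
      induction z using TensorProduct.induction_on with
      | zero => rfl
      | tmul a m =>
        obtain ⟨v, hv⟩ := (IsLocalization.Away.algebraMap_isUnit (S := S') g).exists_left_inv
        have : a ⊗ₜ[S] m = (g • (v * a)) ⊗ₜ[S] m := by
          rw [Algebra.smul_def, ← mul_assoc, mul_comm (algebraMap S S' g), hv, one_mul]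
        rw [this, TensorProduct.smul_tmul, hkill m, tmul_zero]
      | add a b ha hb => rw [ha, hb, add_zero]⟩
    refine ⟨R, S', inferInstance, inferInstance, inferInstance, inferInstance, inferInstance, inferInstance,
      inferInstance, inferInstance, p, q', inferInstance, inferInstance, isEtaleNhd_refl p,
      ⟨inferInstance, hqq,
        (RingHom.surjectiveOnStalks_of_isLocalization (Submonoid.powers g) S').residueFieldMap_bijective _ _ _⟩,
      hqp, (free_and_fp_of_subsingleton (S := S') p _).1, fun _ => (free_and_fp_of_subsingleton p _).2⟩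

/-- Finite products of finitely presented modules over the factors of a product ring, after localization. -/
theorem fp_localized_pi {S : Type u} [CommRing S] {ι : Type} [Finite ι] (C : ι → Type u) [∀ i, CommRing (C i)]
    [∀ i, Algebra S (C i)] [∀ i, Module.FinitePresentation S (C i)] (M : ι → Type u) [∀ i, AddCommGroup (M i)]
    [∀ i, Module (C i) (M i)] [∀ i, Module S (M i)] [∀ i, IsScalarTower S (C i) (M i)] (T : Submonoid S)
    (h : ∀ i, Module.FinitePresentation (Localization (Algebra.algebraMapSubmonoid (C i) T))
      (LocalizedModule (Algebra.algebraMapSubmonoid (C i) T) (M i))) :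
    Module.FinitePresentation (Localization T) (LocalizedModule T (∀ i, M i)) := by
  haveI : ∀ i, Module.FinitePresentation (Localization T) (LocalizedModule T (M i)) := fun i =>
    (fp_localized_iff T (Algebra.algebraMapSubmonoid (C i) T)
      (fun t ht => ⟨algebraMap S (C i) t, ⟨t, ht, rfl⟩, dvd_rfl⟩)
      (by rintro _ ⟨t, ht, rfl⟩; exact ⟨t, ht, dvd_rfl⟩) (M i)).1 (h i)
  let e : LocalizedModule T (∀ i, M i) ≃ₗ[Localization T] ∀ i, LocalizedModule T (M i) :=
    (IsLocalizedModule.iso T (.pi fun i => LocalizedModule.mkLinearMap T (M i) ∘ₗ .proj i)).extendScalarsOfIsLocalization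
      T (Localization T)
  exact Module.finitePresentation_of_surjective e.symm.toLinearMap e.symm.surjective
    (by rw [LinearEquiv.ker]; exact Submodule.fg_bot)

set_option maxHeartbeats 1600000 in
/-- Freeness and finite presentation after étale localization along a fibre where the module is flat. -/
theorem exists_free_cover {R S : Type u} [CommRing R] [CommRing S] [Algebra R S] [Algebra.FiniteType R S]
    (N : Type u) [AddCommGroup N] [Module S N] [Module R N] [IsScalarTower R S N] [Module.Finite S N]
    (p : Ideal R) [p.IsPrime] (hflat : ∀ (q : Ideal S) [q.IsPrime], q.LiesOver p → FlatCA.FlatAt R q N) :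
    ∃ (R' S' : Type u) (_ : CommRing R') (_ : CommRing S') (_ : Algebra R R') (_ : Algebra S S') (_ : Algebra R' S')
      (_ : Algebra R S') (_ : IsScalarTower R R' S') (_ : IsScalarTower R S S')
      (p' : Ideal R') (_ : p'.IsPrime),
      FlatCA.IsEtaleNhd R R' p p' ∧ Algebra.Etale S S' ∧
      (∀ (q : Ideal S) [q.IsPrime], q.LiesOver p → ∃ q' : Ideal S', q'.IsPrime ∧ q'.LiesOver p' ∧ q'.LiesOver q) ∧
      Module.Free (Localization.AtPrime p') (Localization.AtPrime p' ⊗[R'] (S' ⊗[S] N)) ∧
      (Algebra.FinitePresentation R S →
        Module.FinitePresentation (Localization (Algebra.algebraMapSubmonoid S' p'.primeCompl))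
          (LocalizedModule (Algebra.algebraMapSubmonoid S' p'.primeCompl) (S' ⊗[S] N))) := by
  classical
  obtain ⟨R', _, _, p', _, hn, hall⟩ := exists_etale_cover (A := R) (B := S) N p
  obtain ⟨het, hpp, hbp⟩ := hn
  haveI := het; haveI := hpp
  letI : Algebra R' (S ⊗[R] R') := Algebra.TensorProduct.rightAlgebra
  let BA := S ⊗[R] R'
  haveI : Algebra.IsPushout R S R' BA := inferInstance
  obtain ⟨k, C, _, _, _, _, Nc, _, _, _, _, g, hmain, hcov⟩ :=
    hall BA (BA ⊗[S] N) (TensorProduct.mk S BA N 1) (TensorProduct.isBaseChange S N BA)
  haveI := fun i => (hmain i).1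
  letI : ∀ i, Algebra S (C i) := fun i => ((algebraMap BA (C i)).comp (algebraMap S BA)).toAlgebra
  haveI : ∀ i, IsScalarTower S BA (C i) := fun i => IsScalarTower.of_algebraMap_eq fun _ => rfl
  letI : ∀ i, Algebra R (C i) := fun i => ((algebraMap R' (C i)).comp (algebraMap R R')).toAlgebra
  haveI : ∀ i, IsScalarTower R R' (C i) := fun i => IsScalarTower.of_algebraMap_eq fun _ => rfl
  haveI : ∀ i, IsScalarTower R S (C i) := fun i => IsScalarTower.of_algebraMap_eq fun x => by
    show algebraMap R' (C i) (algebraMap R R' x) = algebraMap BA (C i) (algebraMap S BA (algebraMap R S x))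
    rw [IsScalarTower.algebraMap_apply R' BA (C i), ← IsScalarTower.algebraMap_apply R S BA,
      ← IsScalarTower.algebraMap_apply R R' BA]
  haveI : Algebra.Etale S BA := inferInstance
  haveI : ∀ i, Algebra.Etale S (C i) := fun i => Algebra.Etale.comp S BA (C i)
  let S' := ∀ i, C i
  letI : ∀ i, Module S (Nc i) := fun i => Module.compHom (Nc i) (algebraMap S BA)
  haveI : ∀ i, IsScalarTower S BA (Nc i) := fun i => IsScalarTower.of_algebraMap_smul fun _ _ => rfl
  haveI : ∀ i, IsScalarTower S (C i) (Nc i) := fun i => IsScalarTower.of_algebraMap_smul fun c m => by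
    show algebraMap BA (C i) (algebraMap S BA c) • m = algebraMap S BA c • m
    rw [algebraMap_smul]
  have hbc : ∀ i, IsBaseChange (C i) ((g i).restrictScalars S ∘ₗ TensorProduct.mk S BA N 1) := fun i =>
    IsBaseChange.comp (TensorProduct.isBaseChange S N BA) (hmain i).2.1
  letI : ∀ i, Module R' (Nc i) := fun i => Module.compHom (Nc i) (algebraMap R' (C i))
  haveI : ∀ i, IsScalarTower R' (C i) (Nc i) := fun i => IsScalarTower.of_algebraMap_smul fun _ _ => rfl
  letI : ∀ i, Module R (Nc i) := fun i => Module.compHom (Nc i) (algebraMap R R')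
  haveI : ∀ i, IsScalarTower R R' (Nc i) := fun i => IsScalarTower.of_algebraMap_smul fun _ _ => rfl
  have hloc : ∀ i, Module.Free (Localization.AtPrime p') (Localization.AtPrime p' ⊗[R'] Nc i) ∧
      (Algebra.FinitePresentation R S →
        Module.FinitePresentation (Localization (Algebra.algebraMapSubmonoid (C i) p'.primeCompl))
          (LocalizedModule (Algebra.algebraMapSubmonoid (C i) p'.primeCompl) (Nc i))) := fun i => by
    obtain ⟨D⟩ := (hmain i).2.2
    have hfl : ∀ (Q : Ideal (C i)) [Q.IsPrime], Q.LiesOver p' → FlatCA.FlatAt R' Q (Nc i) := fun Q _ hQ => by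
      haveI := hQ
      haveI hq : (Q.comap (algebraMap S (C i))).LiesOver p := ⟨by
        haveI : Q.LiesOver p := Ideal.LiesOver.trans Q p' p
        rw [Ideal.under_def, Ideal.comap_comap, ← IsScalarTower.algebraMap_eq]
        exact Ideal.over_def Q p⟩
      haveI : Q.LiesOver (Q.comap (algebraMap S (C i))) := ⟨rfl⟩
      exact flatAt_etale (R := R) (hbc i) _ Q (hflat _ hq)
    obtain ⟨h1, h2⟩ := completeDevissage_localized D (kerKilledAt_of_fibre D hfl)
    refine ⟨h1, fun hS => h2 ?_⟩
    haveI := hS
    haveI : Algebra.FinitePresentation R (C i) := Algebra.FinitePresentation.trans R S (C i)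
    exact Algebra.FinitePresentation.of_restrict_scalars_finitePresentation R R' (C i)
  let eN : S' ⊗[S] N ≃ₗ[S'] ∀ i, Nc i :=
    { toFun := fun z i => (hbc i).equiv (LinearMap.rTensor N (LinearMap.proj i : S' →ₗ[S] C i) z)
      map_add' := fun a b => funext fun i => by simp
      map_smul' := fun c a => funext fun i => by
        show (hbc i).equiv (LinearMap.rTensor N (LinearMap.proj i : S' →ₗ[S] C i) (c • a)) =
          c i • (hbc i).equiv (LinearMap.rTensor N (LinearMap.proj i : S' →ₗ[S] C i) a)
        have h : LinearMap.rTensor N (LinearMap.proj i : S' →ₗ[S] C i) (c • a) =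
            c i • LinearMap.rTensor N (LinearMap.proj i : S' →ₗ[S] C i) a := by
          induction a using TensorProduct.induction_on with
          | zero => simp
          | tmul s n => simp [TensorProduct.smul_tmul', LinearMap.rTensor_tmul]; rfl
          | add a b ha hb => simp only [smul_add, map_add, ha, hb]
        rw [h, map_smul]
      invFun := fun w => (TensorProduct.piLeft S N C).symm fun i => (hbc i).equiv.symm (w i)
      left_inv := fun z => by
        rw [LinearEquiv.symm_apply_eq]
        funext i
        rw [LinearEquiv.symm_apply_apply]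
        induction z using TensorProduct.induction_on with
        | zero => simp
        | tmul s n => simp [TensorProduct.piLeft]
        | add a b ha hb => simp only [map_add, Pi.add_apply, ha, hb]
      right_inv := fun w => funext fun i => by
        have h : ∀ z : S' ⊗[S] N, (LinearMap.proj i : S' →ₗ[S] C i).rTensor N z = TensorProduct.piLeft S N C z i :=
          fun z => by
            induction z using TensorProduct.induction_on with
            | zero => simp
            | tmul s n => simp [TensorProduct.piLeft]
            | add a b ha hb => simp only [map_add, Pi.add_apply, ha, hb]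
        show (hbc i).equiv ((LinearMap.proj i : S' →ₗ[S] C i).rTensor N
          ((TensorProduct.piLeft S N C).symm fun i => (hbc i).equiv.symm (w i))) = w i
        rw [h, LinearEquiv.apply_symm_apply, LinearEquiv.apply_symm_apply] }
  refine ⟨R', S', inferInstance, inferInstance, inferInstance, inferInstance, inferInstance, inferInstance,
    inferInstance, inferInstance, p', inferInstance, ⟨inferInstance, hpp, hbp⟩, inferInstance, fun q _ hq => ?_, ?_, ?_⟩
  · haveI := hq
    obtain ⟨Q, hQp, hQo, hQq⟩ := pushout_exists_prime (S := S) (R' := R') (S' := BA) hbp q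
    haveI := hQp
    obtain ⟨i, Q', hQ', hQQ⟩ := hcov Q hQo
    haveI := hQ'
    refine ⟨Q'.comap (Pi.evalRingHom C i), inferInstance, ⟨?_⟩, ⟨?_⟩⟩
    · rw [Ideal.under_def, Ideal.comap_comap]
      show p' = Q'.comap (algebraMap R' (C i))
      rw [IsScalarTower.algebraMap_eq R' BA (C i), ← Ideal.comap_comap, hQQ]
      exact hQo.over
    · rw [Ideal.under_def, Ideal.comap_comap]
      show q = Q'.comap (algebraMap S (C i))
      rw [IsScalarTower.algebraMap_eq S BA (C i), ← Ideal.comap_comap, hQQ]
      exact hQq.over
  · haveI := fun i => (hloc i).1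
    haveI : Module.Free (Localization.AtPrime p') (∀ i, Localization.AtPrime p' ⊗[R'] Nc i) := inferInstance
    let eR : S' ⊗[S] N ≃ₗ[R'] ∀ i, Nc i :=
      { eN with
        map_smul' := fun c a => by
          show eN (c • a) = c • eN a
          rw [← algebraMap_smul S' c a, map_smul]
          funext i
          show algebraMap R' (C i) c • eN a i = c • eN a i
          rfl }
    exact Module.Free.of_equiv ((TensorProduct.piRight R' (Localization.AtPrime p') (Localization.AtPrime p') Nc).symm.trans
      (eR.symm.baseChange R' (Localization.AtPrime p')))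
  · intro hS
    letI : ∀ i, Algebra S' (C i) := fun i => (Pi.evalRingHom C i).toAlgebra
    letI : ∀ i, Module S' (Nc i) := fun i => Module.compHom (Nc i) (Pi.evalRingHom C i)
    haveI : ∀ i, IsScalarTower S' (C i) (Nc i) := fun i => IsScalarTower.of_algebraMap_smul fun _ _ => rfl
    haveI : ∀ i, Module.FinitePresentation S' (C i) := fun i =>
      Module.finitePresentation_of_surjective (Algebra.linearMap S' (C i)) (fun c => ⟨Pi.single i c, by
          show (Pi.single i c : S') i = c
          simp⟩) (by
        refine ⟨{1 - Pi.single i 1}, le_antisymm (Submodule.span_le.2 ?_) fun a ha => ?_⟩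
        · intro x hx
          rw [Finset.coe_singleton, Set.mem_singleton_iff] at hx
          subst hx
          show (1 : C i) - (Pi.single i (1 : C i) : ∀ j, C j) i = 0
          simp
        · rw [Finset.coe_singleton, Submodule.mem_span_singleton]
          refine ⟨a, funext fun j => ?_⟩
          rcases eq_or_ne j i with rfl | hj
          · show a j * ((1 : C j) - (Pi.single j (1 : C j) : ∀ t, C t) j) = a j
            rw [Pi.single_eq_same, sub_self, mul_zero]
            exact (LinearMap.mem_ker.1 ha).symm
          · show a j * ((1 : C j) - (Pi.single i (1 : C i) : ∀ t, C t) j) = a j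
            rw [Pi.single_eq_of_ne hj, sub_zero, mul_one])
    have hT : ∀ i, Algebra.algebraMapSubmonoid (C i) (Algebra.algebraMapSubmonoid S' p'.primeCompl) =
        Algebra.algebraMapSubmonoid (C i) p'.primeCompl := fun i => by
      ext x
      constructor
      · rintro ⟨_, ⟨c, hc, rfl⟩, rfl⟩; exact ⟨c, hc, rfl⟩
      · rintro ⟨c, hc, rfl⟩; exact ⟨_, ⟨c, hc, rfl⟩, rfl⟩
    haveI := fp_localized_pi C Nc (Algebra.algebraMapSubmonoid S' p'.primeCompl) fun i => by
      rw [hT i]
      exact (hloc i).2 hS
    let T := Algebra.algebraMapSubmonoid S' p'.primeCompl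
    let eN' : S' ⊗[S] N ≃ₗ[S'] ∀ i, Nc i :=
      { eN with map_smul' := fun c a => (map_smul eN c a).trans (funext fun i => rfl) }
    let e : LocalizedModule T (∀ i, Nc i) ≃ₗ[Localization T] LocalizedModule T (S' ⊗[S] N) :=
      IsLocalizedModule.mapEquiv T (LocalizedModule.mkLinearMap T (∀ i, Nc i))
        (LocalizedModule.mkLinearMap T (S' ⊗[S] N)) (Localization T) eN'.symm
    haveI h3 : Module.FinitePresentation (Localization T) (LocalizedModule T (∀ i, Nc i)) := this
    exact Module.FinitePresentation.of_equiv (R := Localization T) (M := LocalizedModule T (∀ i, Nc i))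
      (N := LocalizedModule T (S' ⊗[S] N)) e

end Groth.Agent.RG29
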