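import Groth.Agent.RG29.DevFlatProj
import Groth.Agent.RG29.DevFreeLocal
import Mathlib

/-!
For a flat module with a complete dévissage: finitely many primes such that every element outside them acts
universally injectively after inverting an element of the base outside the given prime.
-/

set_option autoImplicit false

universe u

open TensorProduct

namespace Groth.Agent.RG29

/-- Killed kernels of compatible endomorphisms pass to an extension. -/
theorem kerKilled_of_extension {R P G Q : Type u} [CommRing R] [AddCommGroup P] [Module R P] [AddCommGroup G]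
    [Module R G] [AddCommGroup Q] [Module R Q] {f : R} (φ : P →ₗ[R] G) (ψ : G →ₗ[R] Q) (hψ : Function.Surjective ψ)
    (hex : Function.Exact φ ψ) (dP : P →ₗ[R] P) (dG : G →ₗ[R] G) (dQ : Q →ₗ[R] Q)
    (h1 : dG.comp φ = φ.comp dP) (h2 : dQ.comp ψ = ψ.comp dG)
    (hφ : KerKilled f φ) (hP : KerKilled f dP) (hQ : KerKilled f dQ) : KerKilled f dG := by
  intro X _ _ z hz
  obtain ⟨a, ha⟩ := hQ X (ψ.rTensor X z) (by
    rw [← LinearMap.rTensor_comp_apply, h2, LinearMap.rTensor_comp_apply, hz, map_zero])
  obtain ⟨w, hw⟩ := (rTensor_exact X hex hψ (f ^ a • z)).1 (by rw [map_smul, ha])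
  obtain ⟨b, hb⟩ := hφ X (dP.rTensor X w) (by
    rw [← LinearMap.rTensor_comp_apply, ← h1, LinearMap.rTensor_comp_apply, hw, map_smul, hz, smul_zero])
  obtain ⟨c, hc⟩ := hP X (f ^ b • w) (by rw [map_smul, hb])
  refine ⟨c + b + a, ?_⟩
  rw [pow_add, mul_smul, ← hw, ← map_smul, pow_add, mul_smul, hc, map_zero]

/-- Killed kernels of compatible endomorphisms pass along a surjection with killed kernel. -/
theorem kerKilled_of_surjective {R P G : Type u} [CommRing R] [AddCommGroup P] [Module R P] [AddCommGroup G]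
    [Module R G] {f : R} (φ : P →ₗ[R] G) (hφs : Function.Surjective φ) (dP : P →ₗ[R] P) (dG : G →ₗ[R] G)
    (h1 : dG.comp φ = φ.comp dP) (hφ : KerKilled f φ) (hP : KerKilled f dP) : KerKilled f dG := by
  intro X _ _ z hz
  obtain ⟨w, rfl⟩ := LinearMap.rTensor_surjective X hφs z
  obtain ⟨b, hb⟩ := hφ X (dP.rTensor X w) (by
    rw [← LinearMap.rTensor_comp_apply, ← h1, LinearMap.rTensor_comp_apply, hz])
  obtain ⟨c, hc⟩ := hP X (f ^ b • w) (by rw [map_smul, hb])
  exact ⟨c + b, by rw [pow_add, mul_smul, ← map_smul, ← map_smul, hc, map_zero]⟩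

/-- Killed kernels pass to a factor on the right. -/
theorem KerKilled.of_comp {R P G Q : Type u} [CommRing R] [AddCommGroup P] [Module R P] [AddCommGroup G]
    [Module R G] [AddCommGroup Q] [Module R Q] {f : R} {φ : P →ₗ[R] G} {ψ : G →ₗ[R] Q}
    (h : KerKilled f (ψ.comp φ)) : KerKilled f φ := fun X _ _ z hz => h X z (by
  rw [LinearMap.rTensor_comp_apply, hz, map_zero])

/-- An element of an ideal avoiding finitely many primes. -/
theorem exists_mem_notMem {B : Type u} [CommRing B] (J : Ideal B) (T : Set (PrimeSpectrum B)) (hT : T.Finite)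
    (h : ∀ P ∈ T, ¬ J ≤ P.asIdeal) : ∃ d ∈ J, ∀ P ∈ T, d ∉ P.asIdeal := by
  classical
  by_contra hcon
  push Not at hcon
  have hsub : (J : Set B) ⊆ ⋃ P ∈ (hT.toFinset : Set (PrimeSpectrum B)), (P.asIdeal : Set B) := fun d hd => by
    obtain ⟨P, hP, hdP⟩ := hcon d hd
    exact Set.mem_biUnion (hT.mem_toFinset.2 hP) hdP
  rcases hT.toFinset.eq_empty_or_nonempty with he | ⟨P₀, -⟩
  · have := hsub J.zero_mem
    rw [he] at this
    simp at this
  · obtain ⟨P, hP, hle⟩ := (Ideal.subset_union_prime P₀ P₀ fun P _ _ _ => P.isPrime).1 hsub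
    exact h P (hT.mem_toFinset.1 hP) hle

/-- An element of a finite algebra avoiding the primes over finitely many primes divides an element of the
base algebra avoiding those primes. -/
theorem exists_base_multiple {B A : Type u} [CommRing B] [CommRing A] [Algebra B A] [Module.Finite B A]
    (T : Set (PrimeSpectrum B)) (hT : T.Finite) (g : A)
    (hg : ∀ Q ∈ PrimeSpectrum.comap (algebraMap B A) ⁻¹' T, g ∉ Q.asIdeal) :
    ∃ (d : B) (a : A), algebraMap B A d = a * g ∧ ∀ P ∈ T, d ∉ P.asIdeal := by
  haveI : Algebra.IsIntegral B A := Algebra.IsIntegral.of_finite B A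
  obtain ⟨d, hd, hdT⟩ := exists_mem_notMem ((Ideal.span {g}).comap (algebraMap B A)) T hT fun P hP hle => by
    obtain ⟨Q, hgQ, hQ, hQP⟩ := Ideal.exists_ideal_over_prime_of_isIntegral P.asIdeal (Ideal.span {g}) hle
    refine hg ⟨Q, hQ⟩ ?_ (hgQ (Ideal.mem_span_singleton_self g))
    rw [Set.mem_preimage, show PrimeSpectrum.comap (algebraMap B A) ⟨Q, hQ⟩ = P from PrimeSpectrum.ext hQP]
    exact hP
  obtain ⟨a, ha⟩ := Ideal.mem_span_singleton'.1 hd
  exact ⟨d, a, ha.symm, hdT⟩

/-- Multiplication by a multiple having killed kernels. -/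
theorem kerKilled_lsmul_of_dvd {R A M : Type u} [CommRing R] [CommRing A] [Algebra R A] [AddCommGroup M]
    [Module A M] [Module R M] [IsScalarTower R A M] {f : R} (g a : A)
    (h : KerKilled f ((LinearMap.lsmul A M (a * g)).restrictScalars R)) :
    KerKilled f ((LinearMap.lsmul A M g).restrictScalars R) := by
  refine KerKilled.of_comp (ψ := (LinearMap.lsmul A M a).restrictScalars R) ?_
  rw [show ((LinearMap.lsmul A M a).restrictScalars R).comp ((LinearMap.lsmul A M g).restrictScalars R) =
    (LinearMap.lsmul A M (a * g)).restrictScalars R from LinearMap.ext fun m => (mul_smul a g m).symm]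
  exact h

section Devissage

variable {R S : Type u} [CommRing R] [CommRing S] [Algebra R S] {N : Type u} [AddCommGroup N] [Module S N]
  {p : Ideal R} [p.IsPrime] (D : FlatCA.CompleteDevissage R S N p)

set_option maxHeartbeats 800000 in
/-- Finitely many primes of each ring of the dévissage outside of which multiplications are universally
injective near the prime of the base. -/
theorem exists_avoid_aux (f₀ : R) (hf₀ : f₀ ∉ p) (hk : ∀ j, j < D.n → KerKilled f₀ ((D.α j).restrictScalars R)) :
    ∀ (k i : ℕ), i + k + 1 = D.n → ∃ E : Set (PrimeSpectrum (D.A i)), E.Finite ∧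
      ∀ g : D.A i, (∀ P ∈ E, g ∉ P.asIdeal) →
        ∃ f : R, f ∉ p ∧ KerKilled f (((LinearMap.lsmul (D.A i) (D.M i) g).restrictScalars (D.B i)).restrictScalars R) := by
  haveI := fun i => tower_RAM D i
  haveI := fun i => tower_RBM' D i
  intro k
  induction k with
  | zero =>
    intro i hi
    have hin : i < D.n := by omega
    haveI := D.smooth i hin
    haveI := D.finiteBA i hin
    let η : PrimeSpectrum (D.B i) := ⟨p.map (algebraMap R (D.B i)), D.hp i⟩
    refine ⟨PrimeSpectrum.comap (algebraMap (D.B i) (D.A i)) ⁻¹' {η},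
      Algebra.QuasiFinite.finite_comap_preimage (Set.finite_singleton η), fun g hg => ?_⟩
    obtain ⟨d, a, hd, hdT⟩ := exists_base_multiple {η} (Set.finite_singleton η) g hg
    obtain ⟨f₁, hf₁, hf₁k⟩ := exists_kerKilled_mulLeft (D.geomIrred i hin) p d (hdT η rfl)
    refine ⟨f₀ * f₁, fun h => (‹p.IsPrime›.mem_or_mem h).elim hf₀ hf₁, kerKilled_lsmul_of_dvd g a ?_⟩
    rw [← hd]
    have hlast : i = D.n - 1 := by omega
    refine kerKilled_of_surjective ((D.α i).restrictScalars R) (by subst hlast; exact D.cokerLast)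
      ((LinearMap.mulLeft R d).compLeft (Fin (D.r i))) _ ?_ ((hk i hin).of_dvd (dvd_mul_right _ _))
      ((hf₁k.compLeft _).of_dvd (dvd_mul_left _ _))
    refine LinearMap.ext fun v => ?_
    show algebraMap (D.B i) (D.A i) d • D.α i v = D.α i fun j => d * v j
    rw [algebraMap_smul, ← map_smul]
    rfl
  | succ k IH =>
    intro i hi
    have hin : i < D.n := by omega
    have hin1 : i + 1 < D.n := by omega
    haveI := D.smooth i hin
    haveI := D.finiteBA i hin
    obtain ⟨E, hE, hEg⟩ := IH (i + 1) (by omega)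
    let η : PrimeSpectrum (D.B i) := ⟨p.map (algebraMap R (D.B i)), D.hp i⟩
    let T : Set (PrimeSpectrum (D.B i)) := insert η (PrimeSpectrum.comap (algebraMap (D.B i) (D.A (i + 1))) '' E)
    have hT : T.Finite := (hE.image _).insert η
    refine ⟨PrimeSpectrum.comap (algebraMap (D.B i) (D.A i)) ⁻¹' T,
      Algebra.QuasiFinite.finite_comap_preimage hT, fun g hg => ?_⟩
    obtain ⟨d, a, hd, hdT⟩ := exists_base_multiple T hT g hg
    obtain ⟨f₁, hf₁, hf₁k⟩ := exists_kerKilled_mulLeft (D.geomIrred i hin) p d (hdT η (Set.mem_insert _ _))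
    obtain ⟨f₂, hf₂, hf₂k⟩ := hEg (algebraMap (D.B i) (D.A (i + 1)) d) fun P hP =>
      hdT _ (Set.mem_insert_of_mem _ (Set.mem_image_of_mem _ hP))
    refine ⟨f₀ * f₁ * f₂, fun h => (‹p.IsPrime›.mem_or_mem h).elim
      (fun h => (‹p.IsPrime›.mem_or_mem h).elim hf₀ hf₁) hf₂, kerKilled_lsmul_of_dvd g a ?_⟩
    rw [← hd]
    refine kerKilled_of_extension ((D.α i).restrictScalars R) ((stepMap D i hin1).restrictScalars R)
      (stepMap_surjective D i hin1) (exact_stepMap D i hin1)
      ((LinearMap.mulLeft R d).compLeft (Fin (D.r i))) _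
      ((LinearMap.lsmul (D.A (i + 1)) (D.M (i + 1)) (algebraMap (D.B i) (D.A (i + 1)) d)).restrictScalars R) ?_ ?_
      ((hk i hin).of_dvd ((dvd_mul_right _ _).trans (dvd_mul_right _ _)))
      ((hf₁k.compLeft _).of_dvd ((dvd_mul_left _ _).trans (dvd_mul_right _ _)))
      (hf₂k.of_dvd (dvd_mul_left _ _))
    · refine LinearMap.ext fun v => ?_
      show algebraMap (D.B i) (D.A i) d • D.α i v = D.α i fun j => d * v j
      rw [algebraMap_smul, ← map_smul]
      rfl
    · refine LinearMap.ext fun m => ?_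
      show algebraMap (D.B i) (D.A (i + 1)) d • stepMap D i hin1 m = stepMap D i hin1 (algebraMap (D.B i) (D.A i) d • m)
      rw [algebraMap_smul, algebraMap_smul, map_smul]

include D in
set_option maxHeartbeats 800000 in
/-- Projectivity near the prime, and the finitely many primes to avoid. -/
theorem exists_projective_avoid [Algebra.FinitePresentation R S] [Module R N] [IsScalarTower R S N]
    [Module.FinitePresentation S N] [Module.Flat R N] :
    ∃ (f₀ : R) (E : Set (PrimeSpectrum S)), f₀ ∉ p ∧ E.Finite ∧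
      Module.Projective (Localization.Away f₀) (Localization.Away f₀ ⊗[R] N) ∧
      ∀ g : S, (∀ P ∈ E, g ∉ P.asIdeal) → ∃ f : R, f ∉ p ∧ KerKilled f ((LinearMap.lsmul S N g).restrictScalars R) := by
  haveI := D.smooth 0 D.pos
  haveI := D.fpSA
  haveI := D.finiteBA 0 D.pos
  haveI : IsScalarTower R S (D.M 0) := IsScalarTower.of_algebraMap_smul fun c m => by
    rw [← algebraMap_smul (D.A 0) (algebraMap R S c), ← IsScalarTower.algebraMap_apply,
      IsScalarTower.algebraMap_apply R (D.B 0) (D.A 0), algebraMap_smul, algebraMap_smul]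
  let eR : N ≃ₗ[R] D.M 0 := D.isoN.restrictScalars R
  haveI : Module.Flat R (D.M 0) := Module.Flat.of_linearEquiv eR.symm
  haveI : Module.FinitePresentation S (D.M 0) :=
    Module.finitePresentation_of_surjective D.isoN.toLinearMap D.isoN.surjective
      (by rw [LinearEquiv.ker]; exact Submodule.fg_bot)
  have hfp : Module.FinitePresentation (D.B 0) (D.M 0) :=
    fp_of_surjective_finite (R := R) (A := D.A 0) D.surjSA
  obtain ⟨k, hk⟩ : ∃ k, 0 + k + 1 = D.n := ⟨D.n - 1, by have := D.pos; omega⟩
  obtain ⟨f₀, hf₀, -, hall⟩ := exists_kerKilled_all p D k 0 hk hfp 1 (fun h =>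
      ‹p.IsPrime›.ne_top (p.eq_top_iff_one.2 h))
    ((flat_localized_iff _).2 fun I z hz => ⟨1, Submonoid.one_mem _, by
      rw [one_smul]
      exact Module.Flat.lTensor_preserves_injective_linearMap I.subtype Subtype.val_injective
        (hz.trans (map_zero _).symm)⟩)
  have hall' : ∀ j, j < D.n → KerKilled f₀ ((D.α j).restrictScalars R) := fun j hj => hall j j.zero_le hj
  obtain ⟨hproj, -⟩ := completeDevissage_proj_aux p D f₀ hall' k 0 hk
  obtain ⟨E, hE, hEg⟩ := exists_avoid_aux D f₀ hf₀ hall' k 0 hk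
  haveI := hproj
  refine ⟨f₀, PrimeSpectrum.comap (algebraMap S (D.A 0)) '' E, hf₀, hE.image _,
    Module.Projective.of_equiv (eR.baseChange R (Localization.Away f₀)).symm, fun g hg => ?_⟩
  obtain ⟨f, hf, hfk⟩ := hEg (algebraMap S (D.A 0) g) fun P hP => hg _ (Set.mem_image_of_mem _ hP)
  refine ⟨f, hf, fun X _ _ z hz => ?_⟩
  obtain ⟨n, hn⟩ := hfk X (eR.toLinearMap.rTensor X z) (by
    rw [← LinearMap.rTensor_comp_apply,
      show (((LinearMap.lsmul (D.A 0) (D.M 0) (algebraMap S (D.A 0) g)).restrictScalars (D.B 0)).restrictScalars R).comp eR.toLinearMap =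
        eR.toLinearMap.comp ((LinearMap.lsmul S N g).restrictScalars R) from LinearMap.ext fun m => by
          show algebraMap S (D.A 0) g • D.isoN m = D.isoN (g • m)
          rw [algebraMap_smul, map_smul],
      LinearMap.rTensor_comp_apply, hz, map_zero])
  exact ⟨n, (LinearEquiv.rTensor X eR).injective (by
    rw [map_zero, map_smul]
    exact hn)⟩

end Devissage

end Groth.Agent.RG29
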