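import Groth.Agent.RG29.DevDim
import Groth.Prelude.Def_FlatCA
import Mathlib

/-!
Building complete dévissages step by step.
-/

set_option autoImplicit false

universe u

open TensorProduct

namespace Groth.Agent.RG29

variable {R S : Type u} [CommRing R] [CommRing S] [Algebra R S] (N : Type u) [AddCommGroup N] [Module S N]
  (p : Ideal R) [p.IsPrime] (q : Ideal S) [q.IsPrime]

/-- A complete dévissage with one step. -/
theorem hasCompleteDevissageAt_last {C D G : Type u} [CommRing C] [CommRing D] [Algebra S C] [Algebra R C]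
    [IsScalarTower R S C] [Algebra R D] [Algebra D C] [IsScalarTower R D C] [AddCommGroup G] [Module C G] [Module S G]
    [IsScalarTower S C G] [Module D G] [IsScalarTower D C G] [Module R G] [IsScalarTower R D G]
    [hP : (p.map (algebraMap R D)).IsPrime] (y : Ideal D) (z : Ideal C) [y.IsPrime] [z.IsPrime] [y.LiesOver p]
    [z.LiesOver y] (isoN : N ≃ₗ[S] G) (hsurj : Function.Surjective (algebraMap S C))
    (hfp : Algebra.FinitePresentation S C) (hfin : Module.Finite D C) (hfinG : Module.Finite C G)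
    (huniq : ∀ (Q : Ideal C) [Q.IsPrime], Q.LiesOver y → Q = z) (hzq : z.comap (algebraMap S C) = q)
    (hpt : FlatCA.PurelyTranscendental p y) (d : ℕ) (hsm : FlatCA.SmoothRelDim d R D)
    (hirr : FlatCA.GeomIrredFibres R D) {r : ℕ} (α : (Fin r → D) →ₗ[D] G)
    (hα : Function.Bijective (α.baseChange (p.map (algebraMap R D)).ResidueField))
    (hgen : (⟨p.map (algebraMap R D), hP⟩ : PrimeSpectrum D) ∈ Module.support D G)
    (hlast : Function.Surjective α) : FlatCA.HasCompleteDevissageAt R S N p q := by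
  let T : FlatCA.CompleteDevissage R S N p :=
    { n := 1
      pos := one_pos
      A := fun _ => C
      B := fun _ => D
      M := fun _ => G
      r := fun _ => r
      α := fun _ => α
      surjSA := hsurj
      fpSA := hfp
      surjBA' := fun i hi => absurd hi (by omega)
      fpBA' := fun i hi => absurd hi (by omega)
      finiteBA := fun _ _ => hfin
      smooth := fun _ _ => smooth_of_smoothRelDim hsm
      geomIrred := fun _ _ => hirr
      finiteM := fun _ _ => hfinG
      isoN := isoN
      isoCoker := fun i hi => absurd hi (by omega)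
      fibreIso := fun _ _ => hα
      cokerLast := hlast }
  refine ⟨T, ⟨{ qB := fun _ => y, qA := fun _ => z, pureTrans := fun _ _ => hpt, uniq := fun _ _ => huniq
                q0 := hzq, qStep := fun i (hi : i + 1 < 1) => absurd hi (by omega), d := fun _ => d
                relDim := fun _ _ => hsm, locDim := fun _ _ => ?_ }⟩⟩
  haveI := hfin
  haveI := hfinG
  haveI : Module.Finite D G := Module.Finite.trans C G
  obtain ⟨x, hx, -⟩ := exists_fiber_point p y
  obtain ⟨hxs, hd⟩ := localDim_support_of_generic p hsm hirr G hgen x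
  exact ⟨x, hxs, hx, hd⟩

/-- Prepending a step to a complete dévissage. -/
theorem hasCompleteDevissageAt_cons {C D G : Type u} [CommRing C] [CommRing D] [Algebra S C] [Algebra R C]
    [IsScalarTower R S C] [Algebra R D] [Algebra D C] [IsScalarTower R D C] [AddCommGroup G] [Module C G] [Module S G]
    [IsScalarTower S C G] [Module D G] [IsScalarTower D C G] [Module R G] [IsScalarTower R D G]
    [hP : (p.map (algebraMap R D)).IsPrime] (y : Ideal D) (z : Ideal C) [y.IsPrime] [z.IsPrime] [y.LiesOver p]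
    [z.LiesOver y] (isoN : N ≃ₗ[S] G) (hsurj : Function.Surjective (algebraMap S C))
    (hfp : Algebra.FinitePresentation S C) (hfin : Module.Finite D C) (hfinG : Module.Finite C G)
    (huniq : ∀ (Q : Ideal C) [Q.IsPrime], Q.LiesOver y → Q = z) (hzq : z.comap (algebraMap S C) = q)
    (hpt : FlatCA.PurelyTranscendental p y) (d : ℕ) (hsm : FlatCA.SmoothRelDim d R D)
    (hirr : FlatCA.GeomIrredFibres R D) {r : ℕ} (α : (Fin r → D) →ₗ[D] G)
    (hα : Function.Bijective (α.baseChange (p.map (algebraMap R D)).ResidueField))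
    (hgen : (⟨p.map (algebraMap R D), hP⟩ : PrimeSpectrum D) ∈ Module.support D G)
    {M : Type u} [AddCommGroup M] [Module D M] (e : (G ⧸ LinearMap.range α) ≃ₗ[D] M)
    (htail : FlatCA.HasCompleteDevissageAt R D M p y) : FlatCA.HasCompleteDevissageAt R S N p q := by
  obtain ⟨T₀, ⟨P₀⟩⟩ := htail
  let A : ℕ → Type u := fun | 0 => C | i + 1 => T₀.A i
  let B : ℕ → Type u := fun | 0 => D | i + 1 => T₀.B i
  let M' : ℕ → Type u := fun | 0 => G | i + 1 => T₀.M i
  let rk : ℕ → ℕ := fun | 0 => r | i + 1 => T₀.r i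
  letI cA : ∀ i, CommRing (A i) := fun | 0 => inferInstanceAs (CommRing C) | i + 1 => T₀.cA i
  letI cB : ∀ i, CommRing (B i) := fun | 0 => inferInstanceAs (CommRing D) | i + 1 => T₀.cB i
  letI aRA : ∀ i, Algebra R (A i) := fun | 0 => inferInstanceAs (Algebra R C) | i + 1 => T₀.aRA i
  letI aRB : ∀ i, Algebra R (B i) := fun | 0 => inferInstanceAs (Algebra R D) | i + 1 => T₀.aRB i
  letI aBA : ∀ i, Algebra (B i) (A i) := fun | 0 => inferInstanceAs (Algebra D C) | i + 1 => T₀.aBA i
  haveI tRBA : ∀ i, IsScalarTower R (B i) (A i) :=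
    fun | 0 => inferInstanceAs (IsScalarTower R D C) | i + 1 => T₀.tRBA i
  letI aSA : Algebra S (A 0) := inferInstanceAs (Algebra S C)
  haveI tRSA : IsScalarTower R S (A 0) := inferInstanceAs (IsScalarTower R S C)
  letI aBA' : ∀ i, Algebra (B i) (A (i + 1)) := fun | 0 => T₀.aSA | i + 1 => T₀.aBA' i
  haveI tRBA' : ∀ i, IsScalarTower R (B i) (A (i + 1)) := fun | 0 => T₀.tRSA | i + 1 => T₀.tRBA' i
  letI gM : ∀ i, AddCommGroup (M' i) := fun | 0 => inferInstanceAs (AddCommGroup G) | i + 1 => T₀.gM i
  letI mAM : ∀ i, Module (A i) (M' i) := fun | 0 => inferInstanceAs (Module C G) | i + 1 => T₀.mAM i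
  letI mBM : ∀ i, Module (B i) (M' i) := fun | 0 => inferInstanceAs (Module D G) | i + 1 => T₀.mBM i
  haveI tBAM : ∀ i, IsScalarTower (B i) (A i) (M' i) :=
    fun | 0 => inferInstanceAs (IsScalarTower D C G) | i + 1 => T₀.tBAM i
  letI mRM : ∀ i, Module R (M' i) := fun | 0 => inferInstanceAs (Module R G) | i + 1 => T₀.mRM i
  haveI tRBM : ∀ i, IsScalarTower R (B i) (M' i) :=
    fun | 0 => inferInstanceAs (IsScalarTower R D G) | i + 1 => T₀.tRBM i
  letI mSM : Module S (M' 0) := inferInstanceAs (Module S G)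
  haveI tSAM : IsScalarTower S (A 0) (M' 0) := inferInstanceAs (IsScalarTower S C G)
  letI mB'M : ∀ i, Module (B i) (M' (i + 1)) := fun | 0 => T₀.mSM | i + 1 => T₀.mB'M i
  haveI tB'AM : ∀ i, IsScalarTower (B i) (A (i + 1)) (M' (i + 1)) := fun | 0 => T₀.tSAM | i + 1 => T₀.tB'AM i
  haveI hpB : ∀ i, (p.map (algebraMap R (B i))).IsPrime := fun | 0 => hP | i + 1 => T₀.hp i
  let T : FlatCA.CompleteDevissage R S N p :=
    { n := T₀.n + 1
      pos := Nat.succ_pos _
      A := A
      B := B
      M := M'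
      r := rk
      α := fun | 0 => α | i + 1 => T₀.α i
      surjSA := hsurj
      fpSA := hfp
      surjBA' := fun | 0, _ => T₀.surjSA | i + 1, hi => T₀.surjBA' i (by omega)
      fpBA' := fun | 0, _ => T₀.fpSA | i + 1, hi => T₀.fpBA' i (by omega)
      finiteBA := fun | 0, _ => hfin | i + 1, hi => T₀.finiteBA i (by omega)
      smooth := fun | 0, _ => smooth_of_smoothRelDim hsm | i + 1, hi => T₀.smooth i (by omega)
      geomIrred := fun | 0, _ => hirr | i + 1, hi => T₀.geomIrred i (by omega)
      finiteM := fun | 0, _ => hfinG | i + 1, hi => T₀.finiteM i (by omega)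
      isoN := isoN
      isoCoker := fun | 0, _ => e.trans T₀.isoN | i + 1, hi => T₀.isoCoker i (by omega)
      fibreIso := fun | 0, _ => hα | i + 1, hi => T₀.fibreIso i (by omega)
      cokerLast := by
        obtain ⟨m, hm⟩ := Nat.exists_eq_succ_of_ne_zero T₀.pos.ne'
        have h := T₀.cokerLast
        rw [hm] at h ⊢
        exact h }
  let qB : ∀ i, Ideal (T.B i) := fun | 0 => y | i + 1 => P₀.qB i
  let qA : ∀ i, Ideal (T.A i) := fun | 0 => z | i + 1 => P₀.qA i
  haveI hqB : ∀ i, (qB i).IsPrime := fun | 0 => inferInstanceAs y.IsPrime | i + 1 => P₀.hqB i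
  haveI hqA : ∀ i, (qA i).IsPrime := fun | 0 => inferInstanceAs z.IsPrime | i + 1 => P₀.hqA i
  haveI overB : ∀ i, (qB i).LiesOver p := fun | 0 => inferInstanceAs (y.LiesOver p) | i + 1 => P₀.overB i
  haveI overA : ∀ i, (qA i).LiesOver (qB i) := fun | 0 => inferInstanceAs (z.LiesOver y) | i + 1 => P₀.overA i
  refine ⟨T, ⟨{ qB := qB, qA := qA
                pureTrans := fun | 0, _ => hpt | i + 1, hi => P₀.pureTrans i (Nat.lt_of_succ_lt_succ hi)
                uniq := fun | 0, _ => huniq | i + 1, hi => P₀.uniq i (Nat.lt_of_succ_lt_succ hi)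
                q0 := hzq
                qStep := fun | 0, _ => P₀.q0 | i + 1, hi => P₀.qStep i (Nat.lt_of_succ_lt_succ hi)
                d := fun | 0 => d | i + 1 => P₀.d i
                relDim := fun | 0, _ => hsm | i + 1, hi => P₀.relDim i (Nat.lt_of_succ_lt_succ hi)
                locDim := fun | 0, _ => ?_ | i + 1, hi => P₀.locDim i (Nat.lt_of_succ_lt_succ hi) }⟩⟩
  haveI := hfin
  haveI := hfinG
  haveI : Module.Finite D G := Module.Finite.trans C G
  obtain ⟨x, hx, -⟩ := exists_fiber_point p y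
  obtain ⟨hxs, hd⟩ := localDim_support_of_generic p hsm hirr G hgen x
  exact ⟨x, hxs, hx, hd⟩

end Groth.Agent.RG29
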