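import Groth.Agent.RG29.DevFibre
import Groth.Agent.TopDim50.Basic
import Groth.Agent.E4O.FibreDim
import Mathlib

/-!
Local dimensions of supports of fibre modules.
-/

set_option autoImplicit false

universe u

open TensorProduct

namespace Groth.Agent.RG29

variable {R S : Type u} [CommRing R] [CommRing S] [Algebra R S] (p : Ideal R) [p.IsPrime]

theorem finite_fiberMod (N : Type u) [AddCommGroup N] [Module S N] [Module.Finite S N] :
    Module.Finite (p.Fiber S) (FlatCA.fiberMod p S N) := by
  letI := Algebra.TensorProduct.rightAlgebra (R := R) (A := p.ResidueField) (B := S)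
  exact Module.Finite.base_change S (p.Fiber S) N

theorem support_fiberMod_eq_zeroLocus (N : Type u) [AddCommGroup N] [Module S N] [Module.Finite S N] :
    Module.support (p.Fiber S) (FlatCA.fiberMod p S N) =
      PrimeSpectrum.zeroLocus (Module.annihilator (p.Fiber S) (FlatCA.fiberMod p S N) : Set (p.Fiber S)) := by
  haveI := finite_fiberMod (S := S) p N
  exact Module.support_eq_zeroLocus

theorem exists_localDim_support [Algebra.FiniteType R S] (N : Type u) [AddCommGroup N] [Module S N]
    [Module.Finite S N] (x : PrimeSpectrum (p.Fiber S)) (hx : x ∈ Module.support (p.Fiber S) (FlatCA.fiberMod p S N)) :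
    ∃ m : ℕ, FlatMor.localDim (Module.support (p.Fiber S) (FlatCA.fiberMod p S N)) ⟨x, hx⟩ = (m : WithBot ℕ∞) := by
  let A : @Ideal (p.Fiber S) CommRing.toCommSemiring.toSemiring := Module.annihilator (p.Fiber S) (FlatCA.fiberMod p S N)
  have hrange : Set.range (PrimeSpectrum.comap (Ideal.Quotient.mk (R := p.Fiber S) A)) =
      Module.support (p.Fiber S) (FlatCA.fiberMod p S N) := by
    rw [range_comap_of_surjective _ _ Ideal.Quotient.mk_surjective, Ideal.mk_ker, support_fiberMod_eq_zeroLocus]
  let h := (PrimeSpectrum.isClosedEmbedding_comap_of_surjective _ (Ideal.Quotient.mk A)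
    Ideal.Quotient.mk_surjective).isEmbedding.toHomeomorph.trans (Homeomorph.setCongr hrange)
  haveI : Algebra.FiniteType p.ResidueField ((p.Fiber S) ⧸ A) :=
    Algebra.FiniteType.of_surjective (Ideal.Quotient.mkₐ p.ResidueField A) Ideal.Quotient.mk_surjective
  refine ⟨CAlgH2.dimAt p.ResidueField (h.symm ⟨x, hx⟩).asIdeal, ?_⟩
  rw [← h.apply_symm_apply ⟨x, hx⟩, ← E4O.localDim_eq_of_homeomorph h, CAlgH2.localDim_eq_dimAt p.ResidueField]
  simp only [Homeomorph.apply_symm_apply]
  rfl

/-- If the generic point of the fibre is not in the support, the fibre support has dimension less than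
the relative dimension. -/
theorem exists_dim_support_lt {n : ℕ} (h : FlatCA.SmoothRelDim n R S) (hirr : FlatCA.GeomIrredFibres R S)
    [hP : (p.map (algebraMap R S)).IsPrime] (M : Type u) [AddCommGroup M] [Module S M] [Module.Finite S M]
    (hgen : (⟨p.map (algebraMap R S), hP⟩ : PrimeSpectrum S) ∉ Module.support S M) :
    topologicalKrullDim (Module.support (p.Fiber S) (FlatCA.fiberMod p S M)) < (n : WithBot ℕ∞) := by
  haveI := smooth_of_smoothRelDim h
  haveI := isDomain_fiber p hirr
  obtain ⟨a, ha, hkill⟩ := exists_smul_eq_zero_of_notMem_support M _ hgen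
  let ι : S →ₐ[R] p.Fiber S := Algebra.TensorProduct.includeRight
  have ha0 : ι a ≠ 0 := fun h0 => ha (by
    haveI := liesOver_map p hirr
    obtain ⟨x, -, hx⟩ := exists_fiber_point p (p.map (algebraMap R S))
    show a ∈ p.map (algebraMap R S)
    rw [← hx]
    show ι a ∈ x.asIdeal
    rw [h0]
    exact zero_mem _)
  have hsub : Module.support (p.Fiber S) (FlatCA.fiberMod p S M) ⊆ PrimeSpectrum.zeroLocus {ι a} := by
    intro x hx
    have hmem := (mem_support_fiberMod_iff p M x).1 hx
    rw [Module.support_eq_zeroLocus] at hmem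
    rw [PrimeSpectrum.mem_zeroLocus, Set.singleton_subset_iff]
    exact hmem (Module.mem_annihilator.2 hkill)
  let K : @Ideal (p.Fiber S) CommRing.toCommSemiring.toSemiring := Ideal.span {ι a}
  have hrange : Set.range (PrimeSpectrum.comap (Ideal.Quotient.mk (R := p.Fiber S) K)) =
      PrimeSpectrum.zeroLocus {ι a} := by
    rw [range_comap_of_surjective _ _ Ideal.Quotient.mk_surjective, Ideal.mk_ker, PrimeSpectrum.zeroLocus_span]
  let hh := (PrimeSpectrum.isClosedEmbedding_comap_of_surjective _ (Ideal.Quotient.mk (R := p.Fiber S) K)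
    Ideal.Quotient.mk_surjective).isEmbedding.toHomeomorph.trans (Homeomorph.setCongr hrange)
  refine lt_of_le_of_lt (TopDim50.dim_mono hsub) ?_
  rw [← IsHomeomorph.topologicalKrullDim_eq _ hh.isHomeomorph, PrimeSpectrum.topologicalKrullDim_eq_ringKrullDim]
  have hle : ringKrullDim ((p.Fiber S) ⧸ K) + 1 ≤ ringKrullDim (p.Fiber S) :=
    ringKrullDim_quotient_succ_le_of_nonZeroDivisor (mem_nonZeroDivisors_of_ne_zero ha0)
  have hF := topologicalKrullDim_fiber p h hirr
  rw [PrimeSpectrum.topologicalKrullDim_eq_ringKrullDim] at hF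
  rw [hF] at hle
  generalize ringKrullDim ((p.Fiber S) ⧸ K) = d at hle ⊢
  cases d with
  | bot => exact WithBot.bot_lt_coe _
  | coe d =>
    cases d with
    | top =>
      change (((⊤ : ℕ∞) + 1 : ℕ∞) : WithBot ℕ∞) ≤ ((n : ℕ∞) : WithBot ℕ∞) at hle
      rw [WithBot.coe_le_coe, top_add, top_le_iff] at hle
      exact absurd hle (ENat.natCast_ne_top n)
    | coe d =>
      change ((((d : ℕ∞) + 1 : ℕ∞)) : WithBot ℕ∞) ≤ ((n : ℕ∞) : WithBot ℕ∞) at hle
      rw [WithBot.coe_le_coe] at hle
      change (((d : ℕ∞)) : WithBot ℕ∞) < ((n : ℕ∞) : WithBot ℕ∞)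
      rw [WithBot.coe_lt_coe]
      have : d + 1 ≤ n := by exact_mod_cast hle
      exact_mod_cast (by omega : d < n)

/-- A module whose support contains the generic point of the fibre has the whole fibre as the support of
its fibre module, of local dimension the relative dimension. -/
theorem localDim_support_of_generic {n : ℕ} (h : FlatCA.SmoothRelDim n R S) (hirr : FlatCA.GeomIrredFibres R S)
    [hP : (p.map (algebraMap R S)).IsPrime] (M : Type u) [AddCommGroup M] [Module S M] [Module.Finite S M]
    (hgen : (⟨p.map (algebraMap R S), hP⟩ : PrimeSpectrum S) ∈ Module.support S M) (x : PrimeSpectrum (p.Fiber S)) :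
    ∃ hx : x ∈ Module.support (p.Fiber S) (FlatCA.fiberMod p S M),
      FlatMor.localDim (Module.support (p.Fiber S) (FlatCA.fiberMod p S M)) ⟨x, hx⟩ = (n : WithBot ℕ∞) := by
  have hall : Module.support (p.Fiber S) (FlatCA.fiberMod p S M) = Set.univ := by
    refine Set.eq_univ_of_forall fun x => (mem_support_fiberMod_iff p M x).2 (Module.mem_support_mono ?_ hgen)
    show p.map (algebraMap R S) ≤ x.asIdeal.comap _
    refine Ideal.map_le_iff_le_comap.2 fun r hr => ?_
    show (Algebra.TensorProduct.includeRight : S →ₐ[R] p.Fiber S) (algebraMap R S r) ∈ x.asIdeal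
    rw [AlgHom.commutes, IsScalarTower.algebraMap_apply R p.ResidueField (p.Fiber S),
      Ideal.algebraMap_residueField_eq_zero.2 hr, map_zero]
    exact zero_mem _
  refine ⟨hall ▸ Set.mem_univ x, ?_⟩
  rw [E4O.localDim_eq_of_homeomorph ((Homeomorph.setCongr hall).trans (Homeomorph.Set.univ _)) ⟨x, _⟩]
  exact localDim_fiber p h hirr x

end Groth.Agent.RG29
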