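import Groth.Agent.RG29.StepFlat
import Groth.Agent.FlatCrit65.Point.Tools
import Groth.Agent.CAlg1.ProjLocal
import Groth.Prelude.Def_FlatCA
import Mathlib

/-!
A module with a complete dévissage at a point of the closed fibre where it is flat over a local base is
free over the base and finitely presented: it is the product of the free modules of the dévissage.
-/

set_option autoImplicit false

universe u

open TensorProduct

namespace Groth.Agent.RG29

/-- An exact sequence with universally injective first map, projective last term and free first module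
splits. -/
theorem exists_equiv_prod {R P G Q : Type u} [CommRing R] [AddCommGroup P] [Module R P] [AddCommGroup G]
    [Module R G] [AddCommGroup Q] [Module R Q] [Module.Projective R Q] (f : P →ₗ[R] G) (g : G →ₗ[R] Q)
    (hf : Function.Injective f) (hg : Function.Surjective g) (hex : Function.Exact f g) :
    Nonempty (G ≃ₗ[R] P × Q) := by
  obtain ⟨s, hs⟩ := Module.projective_lifting_property g LinearMap.id hg
  have hgs : ∀ q, g (s q) = q := fun q => LinearMap.congr_fun hs q
  refine ⟨(LinearEquiv.ofBijective (f.coprod s) ⟨?_, fun x => ?_⟩).symm⟩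
  · rw [← LinearMap.ker_eq_bot, LinearMap.ker_eq_bot']
    rintro ⟨a, b⟩ hab
    rw [LinearMap.coprod_apply] at hab
    have hb : b = 0 := by simpa [hex.apply_apply_eq_zero, hgs] using congrArg g hab
    subst hb
    rw [map_zero, add_zero] at hab
    rw [(injective_iff_map_eq_zero f).1 hf a hab, Prod.mk_zero_zero]
  · obtain ⟨a, ha⟩ := (hex (x - s (g x))).1 (by rw [map_sub, hgs, sub_self])
    exact ⟨(a, g x), by rw [LinearMap.coprod_apply, ha, sub_add_cancel]⟩

/-- Splitting off the first factor of a finite product of consecutive members of a family. -/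
theorem nonempty_piSucc_equiv {R : Type u} [CommRing R] (X : ℕ → Type u) [∀ i, AddCommGroup (X i)]
    [∀ i, Module R (X i)] (i k : ℕ) :
    Nonempty ((X i × (∀ j : Fin k, X (i + 1 + j))) ≃ₗ[R] ∀ j : Fin (k + 1), X (i + j)) :=
  ⟨(LinearEquiv.prodCongr (LinearEquiv.cast (R := R) (M := X) (show i = i + ((0 : Fin (k + 1)) : ℕ) by simp))
      (LinearEquiv.piCongrRight fun j : Fin k =>
        LinearEquiv.cast (R := R) (M := X) (show i + 1 + (j : ℕ) = i + ((j.succ : Fin (k + 1)) : ℕ) by
          rw [Fin.val_succ]; omega))).trans
    (Fin.consLinearEquiv R fun j : Fin (k + 1) => X (i + j))⟩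

/-- A finite module over a finitely presented quotient, finitely presented over it, is finitely presented
over the algebra. -/
theorem finitePresentation_of_surjective_algebra {B A : Type u} [CommRing B] [CommRing A] [Algebra B A]
    (hsurj : Function.Surjective (algebraMap B A)) [Algebra.FinitePresentation B A] (M : Type u)
    [AddCommGroup M] [Module A M] [Module B M] [IsScalarTower B A M] [Module.FinitePresentation A M] :
    Module.FinitePresentation B M := by
  haveI : Module.FinitePresentation B A :=
    Module.finitePresentation_of_surjective (Algebra.linearMap B A) hsurj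
      (Algebra.FinitePresentation.ker_fG_of_surjective (Algebra.ofId B A) hsurj)
  exact Module.FinitePresentation.trans B M A

/-- The data of one step give a universally injective map with cokernel flat at the point. -/
theorem step_univInj {R C D G : Type u} [CommRing R] [IsLocalRing R] [CommRing C] [CommRing D] [Algebra R C]
    [Algebra R D] [Algebra D C] [IsScalarTower R D C] [Algebra.Smooth R D] (hirr : FlatCA.GeomIrredFibres R D)
    [Module.Finite D C] [AddCommGroup G] [Module C G] [Module D G] [IsScalarTower D C G] [Module.Finite C G]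
    [Module R G] [IsScalarTower R D G] (z : Ideal C) [z.IsPrime] (y : Ideal D) [y.IsPrime]
    [hzy : z.LiesOver y] [hy : y.LiesOver (IsLocalRing.maximalIdeal R)]
    (huniq : ∀ (Q : Ideal C) [Q.IsPrime], Q.LiesOver y → Q = z)
    [hw : ((IsLocalRing.maximalIdeal R).map (algebraMap R D)).IsPrime] {r : ℕ} (α : (Fin r → D) →ₗ[D] G)
    (hb : Function.Bijective (α.baseChange ((IsLocalRing.maximalIdeal R).map (algebraMap R D)).ResidueField))
    [IsScalarTower R C G] (hflat : FlatCA.FlatAt R z G) :
    FlatCA.FlatAt R y G ∧ CAlgX.UniversallyInjective R (α.restrictScalars R) ∧ Function.Injective α := by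
  haveI : Module.Finite D G := Module.Finite.trans C G
  haveI : Algebra.IsIntegral D C := Algebra.IsIntegral.of_finite D C
  have hfy : FlatCA.FlatAt R y G :=
    (flatAt_iff_of_algebra z y hzy.over.symm fun J hJ => exists_mem_of_unique z y huniq J hJ).1 hflat
  have hle : (IsLocalRing.maximalIdeal R).map (algebraMap R D) ≤ y :=
    Ideal.map_le_iff_le_comap.2 hy.over.le
  have hu : CAlgX.UniversallyInjective R (α.restrictScalars R) := univInj_of_flatAt hirr _ rfl
    (FlatCrit65.flat_localized_of_le hle hfy) α hb
  refine ⟨hfy, hu, fun a b hab => (TensorProduct.rid R _).symm.injective (hu R ?_)⟩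
  rw [TensorProduct.rid_symm_apply, TensorProduct.rid_symm_apply, LinearMap.rTensor_tmul, LinearMap.rTensor_tmul,
    LinearMap.restrictScalars_apply, LinearMap.restrictScalars_apply, hab]

set_option maxHeartbeats 1000000 in
/-- The induction along the steps of a complete dévissage. -/
theorem completeDevissage_free_aux {R S : Type u} [CommRing R] [IsLocalRing R] [CommRing S] [Algebra R S]
    {N : Type u} [AddCommGroup N] [Module S N]
    (D : FlatCA.CompleteDevissage R S N (IsLocalRing.maximalIdeal R)) {q : Ideal S} [q.IsPrime]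
    (hA : FlatCA.CompleteDevissageAt R S N (IsLocalRing.maximalIdeal R) q D) :
    ∀ (k i : ℕ), i + k + 1 = D.n →
      (letI := hA.hqA i
       letI : IsScalarTower R (D.A i) (D.M i) := IsScalarTower.of_algebraMap_smul fun c m => by
         rw [IsScalarTower.algebraMap_apply R (D.B i) (D.A i), algebraMap_smul, algebraMap_smul]
       FlatCA.FlatAt R (hA.qA i) (D.M i)) →
      Module.Free R (D.M i) ∧ Module.FinitePresentation (D.B i) (D.M i) ∧
        Nonempty (D.M i ≃ₗ[R] ∀ j : Fin (k + 1), Fin (D.r (i + j)) → D.B (i + j)) := by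
  intro k
  induction k with
  | zero =>
    intro i hi hflat
    haveI := hA.hqA i
    haveI := hA.hqB i
    haveI := hA.overA i
    haveI := hA.overB i
    have hin : i < D.n := by omega
    haveI := D.smooth i hin
    haveI := D.finiteBA i hin
    haveI := D.finiteM i hin
    haveI : IsScalarTower R (D.A i) (D.M i) := IsScalarTower.of_algebraMap_smul fun c m => by
      rw [IsScalarTower.algebraMap_apply R (D.B i) (D.A i), algebraMap_smul, algebraMap_smul]
    obtain ⟨-, -, hinj⟩ := step_univInj (D.geomIrred i hin) (hA.qA i) (hA.qB i)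
      (hA.uniq i hin) (D.α i) (D.fibreIso i hin) hflat
    have hsurj : Function.Surjective (D.α i) := by
      obtain rfl : i = D.n - 1 := by omega
      exact D.cokerLast
    let e := LinearEquiv.ofBijective (D.α i) ⟨hinj, hsurj⟩
    obtain ⟨e3⟩ := nonempty_piSucc_equiv (R := R) (fun j => Fin (D.r j) → D.B j) i 0
    let e2 : (Fin (D.r i) → D.B i) ≃ₗ[R] ∀ j : Fin (0 + 1), Fin (D.r (i + j)) → D.B (i + j) :=
      (LinearEquiv.prodUnique (R := R) (M := Fin (D.r i) → D.B i)
        (M₂ := ∀ j : Fin 0, Fin (D.r (i + 1 + j)) → D.B (i + 1 + j))).symm.trans e3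
    haveI : Module.Projective R (D.B i) := projective_of_smooth_geomIrred (D.geomIrred i hin)
    haveI : Module.Free R (D.B i) := CAlg1.free_of_projective
    refine ⟨Module.Free.of_equiv (e.restrictScalars R), Module.finitePresentation_of_projective _ _ |>
      fun (_ : Module.FinitePresentation (D.B i) (Fin (D.r i) → D.B i)) =>
        Module.finitePresentation_of_surjective e.toLinearMap e.surjective
          (by rw [LinearEquiv.ker]; exact Submodule.fg_bot), ⟨(e.restrictScalars R).symm.trans e2⟩⟩
  | succ k IH =>
    intro i hi hflat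
    haveI := hA.hqA i
    haveI := hA.hqB i
    haveI := hA.overA i
    haveI := hA.overB i
    haveI := hA.hqA (i + 1)
    have hin : i < D.n := by omega
    have hin1 : i + 1 < D.n := by omega
    haveI := D.smooth i hin
    haveI := D.finiteBA i hin
    haveI := D.finiteM i hin
    haveI := D.finiteBA (i + 1) hin1
    haveI := D.finiteM (i + 1) hin1
    haveI := D.fpBA' i hin1
    haveI : IsScalarTower R (D.A (i + 1)) (D.M (i + 1)) := IsScalarTower.of_algebraMap_smul fun c m => by
      rw [IsScalarTower.algebraMap_apply R (D.B (i + 1)) (D.A (i + 1)), algebraMap_smul, algebraMap_smul]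
    haveI : IsScalarTower R (D.B i) (D.M (i + 1)) := IsScalarTower.of_algebraMap_smul fun c m => by
      rw [← algebraMap_smul (D.A (i + 1)) (algebraMap R (D.B i) c), ← IsScalarTower.algebraMap_apply, algebraMap_smul]
    haveI : IsScalarTower R (D.A i) (D.M i) := IsScalarTower.of_algebraMap_smul fun c m => by
      rw [IsScalarTower.algebraMap_apply R (D.B i) (D.A i), algebraMap_smul, algebraMap_smul]
    obtain ⟨hfy, hu, hinj⟩ := step_univInj (D.geomIrred i hin) (hA.qA i) (hA.qB i)
      (hA.uniq i hin) (D.α i) (D.fibreIso i hin) hflat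
    let g : D.M i →ₗ[D.B i] D.M (i + 1) :=
      (D.isoCoker i hin1).toLinearMap.comp (LinearMap.range (D.α i)).mkQ
    have hg : Function.Surjective g :=
      (D.isoCoker i hin1).surjective.comp (Submodule.mkQ_surjective _)
    have hker : LinearMap.ker g = LinearMap.range (D.α i) := by
      rw [LinearEquiv.ker_comp, Submodule.ker_mkQ]
    have hex : Function.Exact (D.α i) g := LinearMap.exact_iff.2 hker
    have hf1 : FlatCA.FlatAt R (hA.qA (i + 1)) (D.M (i + 1)) :=
      (flatAt_iff_of_algebra (hA.qA (i + 1)) (hA.qB i) (hA.qStep i hin1) fun J hJ => by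
        rw [← hA.qStep i hin1]
        exact exists_mem_of_surjective (D.surjBA' i hin1) _ J hJ).2
      (flatAt_coker (hA.qB i) hfy ((D.α i).restrictScalars R) hu g hg hex)
    obtain ⟨hfree1, hfp1, ⟨e1⟩⟩ := IH (i + 1) (by omega) hf1
    haveI := hfree1
    haveI := hfp1
    haveI : Module.FinitePresentation (D.A (i + 1)) (D.M (i + 1)) :=
      FlatCrit65.finitePresentation_of_finite_algebra (A := D.B (i + 1)) (D.M (i + 1))
    haveI : Module.FinitePresentation (D.B i) (D.M (i + 1)) :=
      finitePresentation_of_surjective_algebra (D.surjBA' i hin1) (D.M (i + 1))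
    haveI : Module.FinitePresentation (D.B i) (LinearMap.ker g) := by
      haveI := Module.finitePresentation_of_projective (D.B i) (Fin (D.r i) → D.B i)
      exact Module.finitePresentation_of_surjective
        (((LinearEquiv.ofInjective (D.α i) hinj).trans (LinearEquiv.ofEq _ _ hker.symm)).toLinearMap)
        (LinearEquiv.surjective _) (by rw [LinearEquiv.ker]; exact Submodule.fg_bot)
    haveI : Module.Projective R (D.B i) := projective_of_smooth_geomIrred (D.geomIrred i hin)
    haveI : Module.Free R (D.B i) := CAlg1.free_of_projective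
    obtain ⟨e⟩ := exists_equiv_prod ((D.α i).restrictScalars R) (g.restrictScalars R) hinj hg hex
    obtain ⟨e2⟩ := nonempty_piSucc_equiv (R := R) (fun j => Fin (D.r j) → D.B j) i (k + 1)
    exact ⟨Module.Free.of_equiv e.symm, Module.finitePresentation_of_ker g hg,
      ⟨(e.trans (LinearEquiv.prodCongr (LinearEquiv.refl R _) e1)).trans e2⟩⟩

/-- A module with a complete dévissage at a point of the closed fibre of a local base, flat at that point,
is free over the base, finitely presented, and the product of the free modules of the dévissage. -/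
theorem completeDevissage_free {R S : Type u} [CommRing R] [IsLocalRing R] [CommRing S] [Algebra R S]
    (N : Type u) [AddCommGroup N] [Module S N] [Module R N] [IsScalarTower R S N]
    (q : Ideal S) [q.IsPrime] (hflat : FlatCA.FlatAt R q N)
    (D : FlatCA.CompleteDevissage R S N (IsLocalRing.maximalIdeal R))
    (hA : FlatCA.CompleteDevissageAt R S N (IsLocalRing.maximalIdeal R) q D) :
    Module.FinitePresentation S N ∧ Module.Free R N ∧
      Nonempty (N ≃ₗ[R] (∀ i : Fin D.n, Fin (D.r i) → D.B i)) := by
  haveI := hA.hqA 0
  haveI := D.fpSA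
  haveI := D.finiteBA 0 D.pos
  haveI := D.finiteM 0 D.pos
  haveI : IsScalarTower R (D.A 0) (D.M 0) := IsScalarTower.of_algebraMap_smul fun c m => by
    rw [IsScalarTower.algebraMap_apply R (D.B 0) (D.A 0), algebraMap_smul, algebraMap_smul]
  haveI : IsScalarTower R S (D.M 0) := IsScalarTower.of_algebraMap_smul fun c m => by
    rw [← algebraMap_smul (D.A 0) (algebraMap R S c), ← IsScalarTower.algebraMap_apply, algebraMap_smul]
  have h0 : FlatCA.FlatAt R (hA.qA 0) (D.M 0) :=
    (flatAt_iff_of_algebra (hA.qA 0) q hA.q0 fun J hJ => hA.q0 ▸ exists_mem_of_surjective D.surjSA _ J hJ).2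
      (FlatCrit65.flat_localized_equiv D.isoN q hflat)
  obtain ⟨k, hk⟩ : ∃ k, 0 + k + 1 = D.n := ⟨D.n - 1, by have := D.pos; omega⟩
  obtain ⟨hfree, hfp, ⟨e⟩⟩ := completeDevissage_free_aux D hA k 0 hk h0
  haveI := hfree
  haveI := hfp
  haveI : Module.FinitePresentation (D.A 0) (D.M 0) :=
    FlatCrit65.finitePresentation_of_finite_algebra (A := D.B 0) (D.M 0)
  haveI : Module.FinitePresentation S (D.M 0) := finitePresentation_of_surjective_algebra D.surjSA (D.M 0)
  let e2 : (∀ j : Fin (k + 1), Fin (D.r (0 + j)) → D.B (0 + j)) ≃ₗ[R] ∀ i : Fin D.n, Fin (D.r i) → D.B i :=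
    (LinearEquiv.piCongrRight fun j : Fin (k + 1) =>
      LinearEquiv.cast (R := R) (M := fun i => Fin (D.r i) → D.B i) (Nat.zero_add (j : ℕ))).trans
    (LinearEquiv.piCongrLeft R (fun i : Fin D.n => Fin (D.r i) → D.B i) (finCongr (by omega : k + 1 = D.n)))
  refine ⟨Module.finitePresentation_of_surjective D.isoN.symm.toLinearMap D.isoN.symm.surjective
      (by rw [LinearEquiv.ker]; exact Submodule.fg_bot), Module.Free.of_equiv (D.isoN.restrictScalars R).symm,
    ⟨((D.isoN.restrictScalars R).trans e).trans e2⟩⟩

end Groth.Agent.RG29
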