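import Groth.Agent.RG29.DevDim
import Groth.Agent.RG29.DevBC
import Groth.Prelude.Def_FlatCA
import Mathlib

/-!
The first smooth algebra of an elementary dévissage sees the top component of the support.
-/

set_option autoImplicit false

universe u

open TensorProduct

namespace Groth.Agent.RG29

/-- A generization in the fibre support realizing the local dimension as a transcendence degree. -/
theorem exists_support_generization {R S : Type u} [CommRing R] [CommRing S] [Algebra R S] [Algebra.FiniteType R S]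
    (p : Ideal R) [p.IsPrime] (N : Type u) [AddCommGroup N] [Module S N] [Module.Finite S N]
    (x : PrimeSpectrum (p.Fiber S)) (hx : x ∈ Module.support (p.Fiber S) (FlatCA.fiberMod p S N)) {n : ℕ}
    (hn : FlatMor.localDim (Module.support (p.Fiber S) (FlatCA.fiberMod p S N)) ⟨x, hx⟩ = (n : WithBot ℕ∞)) :
    ∃ Pf : PrimeSpectrum (p.Fiber S), Pf.asIdeal ≤ x.asIdeal ∧
      Pf ∈ Module.support (p.Fiber S) (FlatCA.fiberMod p S N) ∧
      CAlgH2.trdegQuot p.ResidueField Pf.asIdeal = n := by
  let A : @Ideal (p.Fiber S) CommRing.toCommSemiring.toSemiring :=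
    Module.annihilator (p.Fiber S) (FlatCA.fiberMod p S N)
  have hrange : Set.range (PrimeSpectrum.comap (Ideal.Quotient.mk (R := p.Fiber S) A)) =
      Module.support (p.Fiber S) (FlatCA.fiberMod p S N) := by
    rw [range_comap_of_surjective _ _ Ideal.Quotient.mk_surjective, Ideal.mk_ker, support_fiberMod_eq_zeroLocus]
  let h := (PrimeSpectrum.isClosedEmbedding_comap_of_surjective _ (Ideal.Quotient.mk (R := p.Fiber S) A)
    Ideal.Quotient.mk_surjective).isEmbedding.toHomeomorph.trans (Homeomorph.setCongr hrange)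
  haveI : Algebra.FiniteType p.ResidueField (p.Fiber S ⧸ A) :=
    Algebra.FiniteType.of_surjective (Ideal.Quotient.mkₐ p.ResidueField A) Ideal.Quotient.mk_surjective
  let xA := h.symm ⟨x, hx⟩
  have hxA : PrimeSpectrum.comap (Ideal.Quotient.mk (R := p.Fiber S) A) xA = x :=
    congrArg Subtype.val (h.apply_symm_apply ⟨x, hx⟩)
  have hd : CAlgH2.dimAt p.ResidueField xA.asIdeal = n := by
    rw [← h.apply_symm_apply ⟨x, hx⟩, ← E4O.localDim_eq_of_homeomorph h,
      CAlgH2.localDim_eq_dimAt p.ResidueField] at hn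
    exact_mod_cast hn
  obtain ⟨P, hP, hle, he⟩ := CAlgH2.exists_dimAt_eq p.ResidueField xA.asIdeal
  haveI := hP.1.1
  refine ⟨PrimeSpectrum.comap (Ideal.Quotient.mk (R := p.Fiber S) A) ⟨P, inferInstance⟩, ?_,
    hrange.le ⟨_, rfl⟩, ?_⟩
  · rw [← hxA]
    exact Ideal.comap_mono hle
  · rw [← hd, he]
    let Pf := P.comap (Ideal.Quotient.mk (R := p.Fiber S) A)
    let φ : (p.Fiber S ⧸ Pf) →ₐ[p.ResidueField] ((p.Fiber S ⧸ A) ⧸ P) :=
      Ideal.quotientMapₐ P (Ideal.Quotient.mkₐ p.ResidueField A) le_rfl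
    have hφ : Function.Bijective φ := by
      refine ⟨Ideal.quotientMap_injective, fun z => ?_⟩
      obtain ⟨z, rfl⟩ := Ideal.Quotient.mk_surjective z
      obtain ⟨z, rfl⟩ := Ideal.Quotient.mk_surjective z
      exact ⟨Ideal.Quotient.mk _ z, rfl⟩
    exact congrArg Cardinal.toNat (AlgEquiv.ofBijective φ hφ).trdeg_eq

set_option maxHeartbeats 1600000 in
/-- The generic point of the fibre of the smooth algebra of an elementary dévissage is in the support. -/
theorem ElemDevissage_generic_mem_support {R S : Type u} [CommRing R] [CommRing S] [Algebra R S]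
    [Algebra.FiniteType R S] {N : Type u} [AddCommGroup N] [Module S N] [Module.Finite S N] {p : Ideal R} [p.IsPrime]
    {q : Ideal S} [q.IsPrime] {n : ℕ} (E : FlatCA.ElemDevissage R S N p q n) [hts : IsScalarTower R S E.S']
    (x : PrimeSpectrum (p.Fiber S))
    (hxq : x.asIdeal.comap (Algebra.TensorProduct.includeRight (R := R) (A := p.ResidueField) (B := S)).toRingHom = q)
    (hx : x ∈ Module.support (p.Fiber S) (FlatCA.fiberMod p S N))
    (hn : FlatMor.localDim (Module.support (p.Fiber S) (FlatCA.fiberMod p S N)) ⟨x, hx⟩ = (n : WithBot ℕ∞))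
    [hP : (E.p'.map (algebraMap E.R' E.D)).IsPrime] :
    (⟨E.p'.map (algebraMap E.R' E.D), hP⟩ : PrimeSpectrum E.D) ∈ Module.support E.D E.G := by
  obtain ⟨hetR, hpp, hbp⟩ := E.etaleR
  obtain ⟨hetS, hqq, -⟩ := E.etaleS
  haveI := hetR; haveI := hpp; haveI := hetS; haveI := hqq
  haveI := E.finiteDC
  haveI : Algebra.Smooth E.R' E.D := smooth_of_smoothRelDim E.smooth
  have hirr := geomIrred_of_geomIntegral E.geomInt
  obtain ⟨Pf, hle, hsupp, htr⟩ := exists_support_generization p N x hx hn
  let ι : S →ₐ[R] p.Fiber S := Algebra.TensorProduct.includeRight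
  let z₁ : Ideal S := Pf.asIdeal.comap ι.toRingHom
  haveI : z₁.LiesOver p := ⟨((PrimeSpectrum.primesOverOrderIsoFiber R S p).symm Pf).2.2.over⟩
  have hz₁q : z₁ ≤ q := by
    rw [← hxq]
    exact Ideal.comap_mono hle
  have hz₁N : (⟨z₁, inferInstance⟩ : PrimeSpectrum S) ∈ Module.support S N := (mem_support_fiberMod_iff p N Pf).1 hsupp
  haveI : Algebra.HasGoingDown S E.S' := inferInstance
  obtain ⟨z', hz'le, hz'p, hz'o⟩ := Ideal.exists_ideal_le_liesOver_of_le (p := z₁) (q := q) E.q' hz₁q
  haveI := hz'p; haveI := hz'o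
  -- it lies over the point of the base
  have hz'R : z'.under E.R' = E.p' := by
    refine Algebra.QuasiFinite.eq_of_le_of_under_eq (R := R) _ _
      ((Ideal.comap_mono hz'le).trans (Ideal.over_def E.q' E.p').ge) ?_
    rw [← Ideal.over_def E.p' p, Ideal.under_under]
    haveI : z'.LiesOver p := Ideal.LiesOver.trans z' z₁ p
    exact (Ideal.over_def z' p).symm
  -- it is in the support of the module on the closed subscheme
  have hz'supp : (⟨z', hz'p⟩ : PrimeSpectrum E.S') ∈ Module.support E.S' E.G := by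
    have h1 : (⟨z', hz'p⟩ : PrimeSpectrum E.S') ∈ Module.support E.S' (E.S' ⊗[S] N) := by
      rw [Groth.Agent.S6284.result (R := S) (R' := E.S') N]
      show PrimeSpectrum.comap (algebraMap S E.S') ⟨z', hz'p⟩ ∈ Module.support S N
      rw [show PrimeSpectrum.comap (algebraMap S E.S') ⟨z', hz'p⟩ = ⟨z₁, inferInstance⟩ from
        PrimeSpectrum.ext hz'o.over.symm]
      exact hz₁N
    rwa [(E.isBaseChange.equiv.trans E.iso).support_eq] at h1
  obtain ⟨m, hm⟩ := Module.mem_support_iff'.1 hz'supp
  have hkle : RingHom.ker (algebraMap E.S' E.C) ≤ z' := fun a ha => by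
    by_contra hc
    refine hm a hc ?_
    rw [← algebraMap_smul E.C a m, show algebraMap E.S' E.C a = 0 from ha, zero_smul]
  let zc : Ideal E.C := z'.map (algebraMap E.S' E.C)
  haveI : zc.IsPrime := Ideal.map_isPrime_of_surjective E.surjC hkle
  have hzc : zc.comap (algebraMap E.S' E.C) = z' := by
    rw [Ideal.comap_map_of_surjective _ E.surjC, sup_eq_left]
    exact hkle
  have hzcsupp : (⟨zc, inferInstance⟩ : PrimeSpectrum E.C) ∈ Module.support E.C E.G := by
    refine Module.mem_support_iff'.2 ⟨m, fun c hc => ?_⟩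
    obtain ⟨a, rfl⟩ := E.surjC c
    rw [algebraMap_smul]
    exact hm a fun ha => hc (Ideal.mem_map_of_mem _ ha)
  have hwsupp := comap_mem_support (D := E.D) E.G hzcsupp
  let w : Ideal E.D := zc.comap (algebraMap E.D E.C)
  suffices hw : w = E.p'.map (algebraMap E.R' E.D) by
    have he : PrimeSpectrum.comap (algebraMap E.D E.C) ⟨zc, inferInstance⟩ =
        (⟨E.p'.map (algebraMap E.R' E.D), hP⟩ : PrimeSpectrum E.D) := PrimeSpectrum.ext hw
    rwa [he] at hwsupp
  haveI : w.LiesOver E.p' := ⟨by
    rw [← hz'R, ← hzc]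
    simp only [w, Ideal.comap_comap, ← IsScalarTower.algebraMap_eq]⟩
  -- transcendence degrees
  let K := zc.ResidueField
  let k := p.ResidueField
  let k' := E.p'.ResidueField
  letI aR : Algebra R E.C := ((algebraMap E.R' E.C).comp (algebraMap R E.R')).toAlgebra
  haveI : IsScalarTower R E.R' E.C := IsScalarTower.of_algebraMap_eq fun _ => rfl
  letI aSK : Algebra S K := ((algebraMap E.C K).comp ((algebraMap E.S' E.C).comp (algebraMap S E.S'))).toAlgebra
  let i₀ : k' →ₐ[E.R'] K := Ideal.ResidueField.liftₐ E.p' (Algebra.ofId E.R' K)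
    (fun r hr => show algebraMap E.R' K r = 0 from (IsScalarTower.algebraMap_apply E.R' E.C K r).trans <|
      Ideal.algebraMap_residueField_eq_zero.2 (show algebraMap E.R' E.C r ∈ zc by
      have := hz'R ▸ hr
      rw [IsScalarTower.algebraMap_apply E.R' E.S' E.C]
      exact Ideal.mem_map_of_mem _ this))
    (fun r hr => IsUnit.mk0 _ fun h0 => hr (by
      rw [← hz'R, ← hzc]
      show algebraMap E.S' E.C (algebraMap E.R' E.S' r) ∈ zc
      rw [← IsScalarTower.algebraMap_apply]
      exact Ideal.algebraMap_residueField_eq_zero.1 ((IsScalarTower.algebraMap_apply E.R' E.C K r).symm.trans h0)))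
  letI ak'K : Algebra k' K := i₀.toRingHom.toAlgebra
  letI akk' : Algebra k k' := (Ideal.ResidueField.mapₐ p E.p' (Algebra.ofId R E.R') hpp.over).toRingHom.toAlgebra
  letI akK : Algebra k K := Algebra.compHom K (algebraMap k k')
  haveI : IsScalarTower k k' K := IsScalarTower.of_algebraMap_eq (R := k) (S := k') (A := K) fun _ => rfl
  letI aRK : Algebra R K := Algebra.compHom K (algebraMap R k)
  haveI : IsScalarTower R k K := IsScalarTower.of_algebraMap_eq (R := R) (S := k) (A := K) fun _ => rfl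
  have hRK : ∀ r, algebraMap R K r = algebraMap E.C K (algebraMap R E.C r) := fun r => by
    show i₀ (Ideal.ResidueField.mapₐ p E.p' (Algebra.ofId R E.R') hpp.over (algebraMap R k r)) = _
    rw [AlgHom.commutes, IsScalarTower.algebraMap_apply R E.R' k', AlgHom.commutes,
      IsScalarTower.algebraMap_apply E.R' E.C K]
    rfl
  haveI : IsScalarTower R S K := IsScalarTower.of_algebraMap_eq (R := R) (S := S) (A := K) fun r => by
    show _ = algebraMap E.C K (algebraMap E.S' E.C (algebraMap S E.S' (algebraMap R S r)))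
    rw [hRK, IsScalarTower.algebraMap_apply R E.R' E.C, IsScalarTower.algebraMap_apply E.R' E.S' E.C,
      ← IsScalarTower.algebraMap_apply R E.R' E.S', IsScalarTower.algebraMap_apply R S E.S']
  let φ : p.Fiber S →ₐ[k] K :=
    Algebra.TensorProduct.lift (Algebra.ofId k K) (IsScalarTower.toAlgHom R S K) fun _ _ => .all _ _
  have hφker : RingHom.ker φ.toRingHom = Pf.asIdeal := by
    let e := PrimeSpectrum.primesOverOrderIsoFiber R S p
    refine congrArg PrimeSpectrum.asIdeal (e.symm.injective (a₁ := ⟨RingHom.ker φ.toRingHom, RingHom.ker_isPrime _⟩)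
      (a₂ := Pf) (Subtype.ext ?_))
    show (RingHom.ker φ.toRingHom).comap ι.toRingHom = z₁
    ext s
    show φ ((1 : k) ⊗ₜ[R] s) = 0 ↔ _
    rw [Algebra.TensorProduct.lift_tmul, map_one, one_mul]
    show algebraMap E.C K (algebraMap E.S' E.C (algebraMap S E.S' s)) = 0 ↔ _
    rw [Ideal.algebraMap_residueField_eq_zero, ← Ideal.mem_comap, hzc]
    exact (SetLike.ext_iff.1 hz'o.over s).symm
  let φ' : (p.Fiber S ⧸ Pf.asIdeal) →ₐ[k] K := Ideal.Quotient.liftₐ Pf.asIdeal φ fun a ha => hφker.ge ha
  have hle1 : Algebra.trdeg k (p.Fiber S ⧸ Pf.asIdeal) ≤ Algebra.trdeg k K :=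
    trdeg_le_of_injective φ' (RingHom.lift_injective_of_ker_le_ideal _ _ hφker.le)
  have hkk' : Algebra.trdeg k k' = 0 := by
    haveI : Algebra.IsAlgebraic k k' := ⟨fun a => by
      obtain ⟨b, rfl⟩ := hbp.2 a
      exact isAlgebraic_algebraMap (R := k) (A := k') b⟩
    exact trdeg_eq_zero
  haveI : FaithfulSMul k k' := (faithfulSMul_iff_algebraMap_injective _ _).2 (algebraMap k k').injective
  haveI : FaithfulSMul k' K := (faithfulSMul_iff_algebraMap_injective _ _).2 (algebraMap k' K).injective
  have hkK : Algebra.trdeg k K = Algebra.trdeg k' K := by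
    rw [← trdeg_add_eq k k' (A := K), hkk', zero_add]
  -- the fibre of `D`
  let FD := E.p'.Fiber E.D
  let ψ : E.p'.Fiber E.D →ₐ[k'] K :=
    Algebra.TensorProduct.lift (Algebra.ofId k' K)
      { (algebraMap E.C K).comp (algebraMap E.D E.C) with
        commutes' := fun r => by
          show algebraMap E.C K (algebraMap E.D E.C (algebraMap E.R' E.D r)) = algebraMap E.R' K r
          rw [← IsScalarTower.algebraMap_apply E.R' E.D E.C, ← IsScalarTower.algebraMap_apply E.R' E.C K] }
      fun _ _ => .all _ _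
  have hψd : ∀ d : E.D, ψ ((1 : k') ⊗ₜ d) = algebraMap E.C K (algebraMap E.D E.C d) := fun d => by
    rw [Algebra.TensorProduct.lift_tmul, map_one, one_mul]
    rfl
  let wF : PrimeSpectrum (E.p'.Fiber E.D) := ⟨RingHom.ker ψ.toRingHom, RingHom.ker_isPrime _⟩
  haveI hwFp : wF.asIdeal.IsPrime := wF.isPrime
  have hwFw : wF.asIdeal.comap
      (Algebra.TensorProduct.includeRight (R := E.R') (A := k') (B := E.D)).toRingHom = w := by
    ext d
    show ψ ((1 : k') ⊗ₜ d) = 0 ↔ _
    rw [hψd, Ideal.algebraMap_residueField_eq_zero]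
    rfl
  let A := E.p'.Fiber E.D ⧸ wF.asIdeal
  letI hAr : CommRing A := Ideal.Quotient.commRing wF.asIdeal
  let ψ' : A →ₐ[k'] K := Ideal.Quotient.liftₐ wF.asIdeal ψ fun a ha => ha
  letI aAK : Algebra A K := ψ'.toRingHom.toAlgebra
  haveI : IsScalarTower k' A K :=
    IsScalarTower.of_algebraMap_eq (R := k') (S := A) (A := K) fun r => (ψ'.commutes r).symm
  have hinj : Function.Injective ψ' := RingHom.lift_injective_of_ker_le_ideal _ _ le_rfl
  haveI : FaithfulSMul A K := (faithfulSMul_iff_algebraMap_injective _ _).2 hinj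
  haveI : IsDomain A := Ideal.Quotient.isDomain _
  have halgC : ∀ c : E.C, IsAlgebraic A (algebraMap E.C K c) := fun c => by
    obtain ⟨P, hPm, hPc⟩ := Algebra.IsIntegral.isIntegral (R := E.D) c
    let ρ : E.D →+* A := (((Ideal.Quotient.mkₐ k' wF.asIdeal : E.p'.Fiber E.D →ₐ[k'] A) :
      E.p'.Fiber E.D →+* A)).comp
      (Algebra.TensorProduct.includeRight (R := E.R') (A := k') (B := E.D)).toRingHom
    refine IsIntegral.isAlgebraic ⟨P.map ρ, hPm.map ρ, ?_⟩
    rw [Polynomial.eval₂_map]
    have hcomp : (algebraMap A K).comp ρ = (algebraMap E.C K).comp (algebraMap E.D E.C) :=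
      RingHom.ext fun d => by
        show ψ ((1 : k') ⊗ₜ d) = _
        exact hψd d
    rw [hcomp, ← Polynomial.hom_eval₂, hPc, map_zero]
  haveI : Algebra.IsAlgebraic A K := ⟨fun v => by
    obtain ⟨a, b, -, rfl⟩ := IsFractionRing.div_surjective (A := E.C ⧸ zc) v
    obtain ⟨a, rfl⟩ := Ideal.Quotient.mk_surjective a
    obtain ⟨b, rfl⟩ := Ideal.Quotient.mk_surjective b
    rw [Ideal.algebraMap_quotient_residueField_mk, Ideal.algebraMap_quotient_residueField_mk, div_eq_mul_inv]
    exact (halgC a).mul (halgC b).inv⟩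
  haveI : FaithfulSMul k' A := (faithfulSMul_iff_algebraMap_injective _ _).2 (algebraMap k' A).injective
  have hA : Algebra.trdeg k' A = Algebra.trdeg k' K := by
    rw [← trdeg_add_eq k' A (A := K), trdeg_eq_zero (R := A), add_zero]
  haveI := isDomain_fiber E.p' hirr
  have hge : n ≤ CAlgH2.trdegQuot k' wF.asIdeal := by
    refine htr.symm.trans_le (Cardinal.toNat_le_toNat (hle1.trans (hkK.trans hA.symm).le) ?_)
    haveI : Algebra.FiniteType k' A :=
      Algebra.FiniteType.of_surjective (Ideal.Quotient.mkₐ k' wF.asIdeal) Ideal.Quotient.mk_surjective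
    rw [E4O.trdeg_eq_natCast k' A]
    exact Cardinal.natCast_lt_aleph0
  have hdim := CAlgH2.height_add_trdegQuot_eq_dimAt k' wF.asIdeal
  rw [dimAt_fiber E.p' E.smooth hirr wF.asIdeal] at hdim
  have hht : wF.asIdeal.height = 0 := by
    generalize wF.asIdeal.height = t at hdim ⊢
    cases t with
    | top => simp at hdim
    | coe t =>
      have : t + CAlgH2.trdegQuot k' wF.asIdeal = n := by exact_mod_cast hdim
      exact_mod_cast (by omega : t = 0)
  have hbot : wF.asIdeal = ⊥ := by
    have hmin := Ideal.height_eq_zero_iff.1 hht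
    rw [IsDomain.minimalPrimes_eq_singleton_bot] at hmin
    exact hmin
  refine le_antisymm (fun d hd => ?_) (Ideal.map_le_iff_le_comap.2 (Ideal.over_def w E.p').le)
  haveI := liesOver_map E.p' hirr
  obtain ⟨g, -, hg⟩ := exists_fiber_point E.p' (E.p'.map (algebraMap E.R' E.D))
  rw [← hwFw, hbot] at hd
  rw [← hg]
  show _ ∈ g.asIdeal
  rw [show (Algebra.TensorProduct.includeRight (R := E.R') (A := k') (B := E.D)).toRingHom d = 0 from hd]
  exact zero_mem _

end Groth.Agent.RG29
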