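import Groth.Agent.RG29.DevShrink
import Groth.Agent.RG29.DevBC
import Groth.Agent.RG29.DevCons
import Mathlib

/-!
Dévissage data stable under étale localisation of the base and shrinking, and the step lemma.
-/

set_option autoImplicit false

universe u

open TensorProduct

namespace Groth.Agent.RG29

/-- `N/S/R` has complete dévissages at `q` after any étale neighbourhood of the base followed by
small enough shrinking inside any given neighbourhood of the point. -/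
def Good (R S : Type u) [CommRing R] [CommRing S] [Algebra R S] (N : Type u) [AddCommGroup N] [Module S N]
    (p : Ideal R) [p.IsPrime] (q : Ideal S) [q.IsPrime] : Prop :=
  ∀ (R₁ S₁ : Type u) [CommRing R₁] [CommRing S₁] [Algebra R R₁] [Algebra S S₁] [Algebra R₁ S₁] [Algebra R S₁]
    [IsScalarTower R R₁ S₁] [IsScalarTower R S S₁] [Algebra.IsPushout R S R₁ S₁]
    (p₁ : Ideal R₁) [p₁.IsPrime] (q₁ : Ideal S₁) [q₁.IsPrime] [q₁.LiesOver p₁] [q₁.LiesOver q],
    FlatCA.IsEtaleNhd R R₁ p p₁ → ∀ f : S₁, f ∉ q₁ → ∃ g : S₁, g ∉ q₁ ∧ ∃ h₀ : R₁, h₀ ∉ p₁ ∧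
      ∀ h : R₁, h₀ ∣ h → h ∉ p₁ → ∀ (R₂ S₂ N₂ : Type u) [CommRing R₂] [CommRing S₂] [Algebra R₁ R₂]
        [IsLocalization.Away h R₂] [Algebra S₁ S₂] [IsLocalization.Away (f * g * algebraMap R₁ S₁ h) S₂]
        [Algebra R₂ S₂] [Algebra R₁ S₂] [IsScalarTower R₁ R₂ S₂] [IsScalarTower R₁ S₁ S₂] [Algebra S S₂]
        [IsScalarTower S S₁ S₂] [AddCommGroup N₂] [Module S₂ N₂] [Module S N₂] [IsScalarTower S S₂ N₂]
        (i : N →ₗ[S] N₂), IsBaseChange S₂ i → ∀ (p₂ : Ideal R₂) [p₂.IsPrime] (q₂ : Ideal S₂) [q₂.IsPrime]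
        [p₂.LiesOver p₁] [q₂.LiesOver q₁] [q₂.LiesOver p₂], FlatCA.HasCompleteDevissageAt R₂ S₂ N₂ p₂ q₂

/-- The data of one step of a dévissage over the base `R`. -/
structure Step (R S : Type u) [CommRing R] [CommRing S] [Algebra R S] (N : Type u) [AddCommGroup N] [Module S N]
    (p : Ideal R) [p.IsPrime] (q : Ideal S) [q.IsPrime] : Type (u + 1) where
  /-- the closed subscheme -/
  C : Type u
  /-- the smooth algebra -/
  D : Type u
  /-- the module -/
  G : Type u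
  [cC : CommRing C] [cD : CommRing D] [aSC : Algebra S C] [aRC : Algebra R C] [tRSC : IsScalarTower R S C]
  [aRD : Algebra R D] [aDC : Algebra D C] [tRDC : IsScalarTower R D C]
  [gG : AddCommGroup G] [mCG : Module C G] [mSG : Module S G] [tSCG : IsScalarTower S C G]
  [mDG : Module D G] [tDCG : IsScalarTower D C G]
  /-- the point of `Spec C` -/
  z : Ideal C
  /-- the point of `Spec D` -/
  y : Ideal D
  [hz : z.IsPrime] [hy : y.IsPrime] [zOverY : z.LiesOver y] [zOverQ : z.LiesOver q] [yOver : y.LiesOver p]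
  /-- the identification of modules -/
  iso : N ≃ₗ[S] G
  surj : Function.Surjective (algebraMap S C)
  fp : Algebra.FinitePresentation S C
  finiteDC : Module.Finite D C
  finiteG : Module.Finite C G
  uniq : ∀ (z₁ : Ideal C) [z₁.IsPrime], z₁.LiesOver y → z₁ = z
  pureTrans : FlatCA.PurelyTranscendental p y
  /-- the relative dimension -/
  n : ℕ
  smooth : FlatCA.SmoothRelDim n R D
  geomInt : FlatCA.GeomIntegralFibres R D
  [hP : (p.map (algebraMap R D)).IsPrime]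
  /-- the rank -/
  r : ℕ
  pos : 0 < r
  /-- the map from the free module -/
  α : (Fin r → D) →ₗ[D] G
  bij : Function.Bijective (α.baseChange (p.map (algebraMap R D)).ResidueField)

attribute [instance] Step.cC Step.cD Step.aSC Step.aRC Step.tRSC Step.aRD Step.aDC Step.tRDC Step.gG Step.mCG
  Step.mSG Step.tSCG Step.mDG Step.tDCG Step.hz Step.hy Step.zOverY Step.zOverQ Step.yOver Step.hP

set_option maxHeartbeats 800000 in
/-- The first step of a dévissage after base change and shrinking, from the shrunk algebras. -/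
theorem Step.hasCompleteDevissageAt {R S : Type u} [CommRing R] [CommRing S] [Algebra R S] {N : Type u}
    [AddCommGroup N] [Module S N] {p : Ideal R} [p.IsPrime] {q : Ideal S} [q.IsPrime] (E : Step R S N p q)
    {R₂ S₂ D₂ C₂ N₂ : Type u} [CommRing R₂] [CommRing S₂] [CommRing D₂] [CommRing C₂] [Algebra R R₂]
    [Algebra.Etale R R₂] [Algebra S S₂] [Algebra R₂ S₂] [Algebra R₂ D₂] [Algebra E.D D₂] [Algebra R D₂]
    [IsScalarTower R R₂ D₂] [IsScalarTower R E.D D₂] [Module.Flat E.D D₂] [Algebra S₂ C₂] [Algebra D₂ C₂]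
    [Algebra R₂ C₂] [IsScalarTower R₂ D₂ C₂] [IsScalarTower R₂ S₂ C₂] [Algebra E.C C₂] [Algebra S C₂] [Algebra E.D C₂]
    [IsScalarTower S E.C C₂] [IsScalarTower S S₂ C₂] [IsScalarTower E.D E.C C₂] [IsScalarTower E.D D₂ C₂]
    [Algebra.IsPushout S S₂ E.C C₂] [Algebra.IsPushout E.D D₂ E.C C₂] [AddCommGroup N₂] [Module S₂ N₂] [Module S N₂]
    [IsScalarTower S S₂ N₂] (i : N →ₗ[S] N₂) (hi : IsBaseChange S₂ i) (p₂ : Ideal R₂) [p₂.IsPrime] [p₂.LiesOver p]
    (q₂ : Ideal S₂) [q₂.IsPrime] (y₂ : Ideal D₂) [y₂.IsPrime] [y₂.LiesOver p₂] [y₂.LiesOver E.y] (z₂ : Ideal C₂)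
    [z₂.IsPrime] [z₂.LiesOver y₂] [z₂.LiesOver q₂]
    (hbp₂ : Function.Bijective (Ideal.ResidueField.mapₐ p p₂ (Algebra.ofId R R₂) (Ideal.over_def p₂ p)))
    (hby₂ : Function.Bijective (Ideal.ResidueField.mapₐ E.y y₂ (Algebra.ofId E.D D₂) (Ideal.over_def y₂ E.y)))
    (hsm₂ : FlatCA.SmoothRelDim E.n R₂ D₂) (hgi₂ : FlatCA.GeomIntegralFibres R₂ D₂)
    (huniq₂ : ∀ (Q : Ideal C₂) [Q.IsPrime], Q.LiesOver y₂ → Q = z₂)
    (htail : (∃ a : E.D, (∀ m : E.G ⧸ LinearMap.range E.α, a • m = 0) ∧ IsUnit (algebraMap E.D D₂ a)) ∨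
      ∀ (M₂ : Type u) [AddCommGroup M₂] [Module D₂ M₂] [Module E.D M₂] [IsScalarTower E.D D₂ M₂]
        (j : (E.G ⧸ LinearMap.range E.α) →ₗ[E.D] M₂), IsBaseChange D₂ j →
        FlatCA.HasCompleteDevissageAt R₂ D₂ M₂ p₂ y₂) :
    FlatCA.HasCompleteDevissageAt R₂ S₂ N₂ p₂ q₂ := by
  haveI := E.finiteDC
  haveI := E.finiteG
  haveI := E.fp
  haveI : Algebra.Smooth R E.D := smooth_of_smoothRelDim E.smooth
  have hsurj₂ : Function.Surjective (algebraMap S₂ C₂) := fun c => by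
    obtain ⟨u, rfl⟩ := (Algebra.IsPushout.equiv S S₂ E.C C₂).surjective c
    induction u using TensorProduct.induction_on with
    | zero => exact ⟨0, by simp⟩
    | tmul s c =>
      obtain ⟨s', rfl⟩ := E.surj c
      refine ⟨s * algebraMap S S₂ s', ?_⟩
      rw [Algebra.IsPushout.equiv_tmul, map_mul, ← IsScalarTower.algebraMap_apply, ← IsScalarTower.algebraMap_apply]
    | add u v hu hv =>
      obtain ⟨a, ha⟩ := hu
      obtain ⟨b, hb⟩ := hv
      exact ⟨a + b, by rw [map_add, map_add, ha, hb]⟩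
  have hfp₂ : Algebra.FinitePresentation S₂ C₂ :=
    Algebra.FinitePresentation.equiv (Algebra.IsPushout.equiv S S₂ E.C C₂)
  haveI : Module.Finite D₂ C₂ :=
    Module.Finite.equiv (Algebra.IsPushout.equiv E.D D₂ E.C C₂).toLinearEquiv
  have hirr₂ := geomIrred_of_geomIntegral hgi₂
  haveI := smooth_of_smoothRelDim hsm₂
  haveI : (p₂.map (algebraMap R₂ D₂)).IsPrime := isPrime_map p₂ hirr₂
  haveI := liesOver_map p₂ hirr₂
  haveI := liesOver_map p (geomIrred_of_geomIntegral E.geomInt)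
  haveI hwo : (p₂.map (algebraMap R₂ D₂)).LiesOver (p.map (algebraMap R E.D)) := comap_map_eq p p₂
  have hpt₂ : FlatCA.PurelyTranscendental p₂ y₂ := pureTrans_transfer hbp₂ hby₂ E.pureTrans
  -- the module
  let G₂ := C₂ ⊗[E.C] E.G
  haveI : SMulCommClass E.C D₂ C₂ := ⟨fun c d v => by simp only [Algebra.smul_def]; ring⟩
  haveI : SMulCommClass E.C S₂ C₂ := ⟨fun c d v => by simp only [Algebra.smul_def]; ring⟩
  haveI : SMulCommClass E.C R₂ C₂ := ⟨fun c d v => by simp only [Algebra.smul_def]; ring⟩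
  haveI : SMulCommClass E.C E.D C₂ := ⟨fun c d v => by simp only [Algebra.smul_def]; ring⟩
  haveI : SMulCommClass E.C S C₂ := ⟨fun c d v => by simp only [Algebra.smul_def]; ring⟩
  let jD : E.G →ₗ[E.D] G₂ := ((TensorProduct.mk E.C C₂ E.G) 1).restrictScalars E.D
  have hjD : IsBaseChange D₂ jD := isBaseChange_of_pushout E.G
  let jS : E.G →ₗ[S] G₂ := ((TensorProduct.mk E.C C₂ E.G) 1).restrictScalars S
  have hjS : IsBaseChange S₂ jS := isBaseChange_of_pushout E.G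
  obtain ⟨e₂, -⟩ := exists_baseChange_iso E.iso hi hjS
  obtain ⟨α₂, hα₂⟩ := exists_map_baseChange (D₂ := D₂) E.α jD
  have hbij₂ : Function.Bijective (α₂.baseChange (p₂.map (algebraMap R₂ D₂)).ResidueField) := by
    letI : Algebra (p.map (algebraMap R E.D)).ResidueField (p₂.map (algebraMap R₂ D₂)).ResidueField :=
      (Ideal.ResidueField.mapₐ _ _ (Algebra.ofId E.D D₂) hwo.over).toRingHom.toAlgebra
    haveI : IsScalarTower E.D (p.map (algebraMap R E.D)).ResidueField (p₂.map (algebraMap R₂ D₂)).ResidueField :=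
      IsScalarTower.of_algHom (Ideal.ResidueField.mapₐ _ _ (Algebra.ofId E.D D₂) hwo.over)
    exact bijective_baseChange_ext hjD hα₂ E.bij
  haveI : Module.Finite C₂ G₂ := Module.Finite.base_change E.C C₂ E.G
  haveI : Module.Finite D₂ G₂ := Module.Finite.trans C₂ G₂
  have hgen₂ := mem_support_of_bijective (p₂.map (algebraMap R₂ D₂)) E.pos hbij₂
  rcases htail with ⟨a, hkill, hu⟩ | hT
  · refine hasCompleteDevissageAt_last N₂ p₂ q₂ (C := C₂) (D := D₂) (G := G₂) y₂ z₂ e₂ hsurj₂ hfp₂ inferInstance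
      inferInstance huniq₂ (Ideal.over_def z₂ q₂).symm hpt₂ E.n hsm₂ hirr₂ α₂ hbij₂ hgen₂ ?_
    rw [← LinearMap.range_eq_top, eq_top_iff]
    intro v _
    refine hjD.inductionOn v _ (zero_mem _) (fun m => ?_) (fun s m hm => Submodule.smul_mem _ _ hm)
      fun u v hu hv => add_mem hu hv
    obtain ⟨w, hw⟩ : a • m ∈ LinearMap.range E.α := (Submodule.Quotient.mk_eq_zero _).1 (hkill (Submodule.Quotient.mk m))
    have hmem : algebraMap E.D D₂ a • jD m ∈ LinearMap.range α₂ := by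
      rw [IsScalarTower.algebraMap_smul, ← map_smul]
      exact range_baseChange_le hα₂ ⟨w, hw⟩
    exact (Submodule.smul_mem_iff_of_isUnit _ hu).1 hmem
  · refine hasCompleteDevissageAt_cons N₂ p₂ q₂ (C := C₂) (D := D₂) (G := G₂) y₂ z₂ e₂ hsurj₂ hfp₂ inferInstance
      inferInstance huniq₂ (Ideal.over_def z₂ q₂).symm hpt₂ E.n hsm₂ hirr₂ α₂ hbij₂ hgen₂
      (M := G₂ ⧸ LinearMap.range α₂) (LinearEquiv.refl _ _) ?_
    exact hT (G₂ ⧸ LinearMap.range α₂) _ (isBaseChange_coker hjD hα₂)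

set_option maxHeartbeats 3200000 in
/-- The step lemma: a step whose cokernel is good, or vanishes near the point, gives goodness. -/
theorem Step.good {R S : Type u} [CommRing R] [CommRing S] [Algebra R S] {N : Type u} [AddCommGroup N] [Module S N]
    {p : Ideal R} [p.IsPrime] {q : Ideal S} [q.IsPrime] (E : Step R S N p q)
    (htail : (∃ a, a ∉ E.y ∧ ∀ m : E.G ⧸ LinearMap.range E.α, a • m = 0) ∨
      Good R E.D (E.G ⧸ LinearMap.range E.α) p E.y) :
    Good R S N p q := by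
  intro R₁ S₁ _ _ _ _ _ _ _ _ _ p₁ _ q₁ _ _ _ hnhd f hf
  obtain ⟨het, hp₁, hbp⟩ := hnhd
  haveI := het
  haveI := hp₁
  haveI := E.finiteDC
  haveI := E.finiteG
  haveI := E.fp
  haveI hsmD : Algebra.Smooth R E.D := smooth_of_smoothRelDim E.smooth
  haveI : Algebra.IsPushout R R₁ S S₁ := Algebra.IsPushout.symm inferInstance
  -- the base changes
  let D₁ := R₁ ⊗[R] E.D
  letI aDD₁ : Algebra E.D D₁ := Algebra.TensorProduct.rightAlgebra
  haveI : IsScalarTower R E.D D₁ := IsScalarTower.of_algebraMap_eq (R := R) (S := E.D) (A := D₁) fun r =>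
    ((Algebra.TensorProduct.includeRight : E.D →ₐ[R] D₁).commutes r).symm
  haveI : Algebra.IsPushout R E.D R₁ D₁ := TensorProduct.isPushout'
  let C₁ := D₁ ⊗[E.D] E.C
  letI aCC₁ : Algebra E.C C₁ := Algebra.TensorProduct.rightAlgebra
  haveI : IsScalarTower E.D E.C C₁ := IsScalarTower.of_algebraMap_eq (R := E.D) (S := E.C) (A := C₁) fun d =>
    ((Algebra.TensorProduct.includeRight : E.C →ₐ[E.D] C₁).commutes d).symm
  haveI pDC : Algebra.IsPushout E.D E.C D₁ C₁ := TensorProduct.isPushout'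
  haveI : IsScalarTower R E.D C₁ := IsScalarTower.of_algebraMap_eq (R := R) (S := E.D) (A := C₁) fun r => by
    exact ((IsScalarTower.algebraMap_apply R D₁ C₁ r).trans
      (congrArg (algebraMap D₁ C₁) (IsScalarTower.algebraMap_apply R E.D D₁ r))).trans
      (IsScalarTower.algebraMap_apply E.D D₁ C₁ (algebraMap R E.D r)).symm
  haveI : IsScalarTower R E.C C₁ := IsScalarTower.of_algebraMap_eq (R := R) (S := E.C) (A := C₁) fun r => by
    rw [IsScalarTower.algebraMap_apply R E.D E.C, ← IsScalarTower.algebraMap_apply E.D E.C C₁,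
      ← IsScalarTower.algebraMap_apply R E.D C₁]
  haveI : IsScalarTower R R₁ C₁ := IsScalarTower.of_algebraMap_eq (R := R) (S := R₁) (A := C₁) fun r => by
    rw [IsScalarTower.algebraMap_apply R₁ D₁ C₁, ← IsScalarTower.algebraMap_apply R R₁ D₁,
      ← IsScalarTower.algebraMap_apply R D₁ C₁]
  haveI pRC : Algebra.IsPushout R E.C R₁ C₁ :=
    (Algebra.IsPushout.comp_iff R E.D R₁ D₁ (T := E.C) (T' := C₁)).2 pDC
  letI aSC₁ : Algebra S C₁ := ((algebraMap E.C C₁).comp (algebraMap S E.C)).toAlgebra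
  haveI : IsScalarTower S E.C C₁ := IsScalarTower.of_algebraMap_eq (R := S) (S := E.C) (A := C₁) fun _ => rfl
  haveI : IsScalarTower R S C₁ := IsScalarTower.of_algebraMap_eq (R := R) (S := S) (A := C₁) fun r => by
    rw [IsScalarTower.algebraMap_apply R E.C C₁, IsScalarTower.algebraMap_apply R S E.C,
      ← IsScalarTower.algebraMap_apply S E.C C₁]
  let ψ₁ : S₁ →ₐ[S] C₁ := (Algebra.TensorProduct.lift (Algebra.ofId S C₁) (IsScalarTower.toAlgHom R R₁ C₁)
    fun _ _ => .all _ _).comp (Algebra.IsPushout.equiv R S R₁ S₁).symm.toAlgHom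
  letI aS₁C₁ : Algebra S₁ C₁ := ψ₁.toRingHom.toAlgebra
  haveI : IsScalarTower S S₁ C₁ := IsScalarTower.of_algHom ψ₁
  have hψR : ∀ r, algebraMap S₁ C₁ (algebraMap R₁ S₁ r) = algebraMap R₁ C₁ r := fun r => by
    show (Algebra.TensorProduct.lift (Algebra.ofId S C₁) (IsScalarTower.toAlgHom R R₁ C₁)
      fun _ _ => .all _ _) ((Algebra.IsPushout.equiv R S R₁ S₁).symm (algebraMap R₁ S₁ r)) = _
    rw [Algebra.IsPushout.equiv_symm_algebraMap_right, Algebra.TensorProduct.lift_tmul, map_one, one_mul]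
    rfl
  haveI : IsScalarTower R₁ S₁ C₁ := IsScalarTower.of_algebraMap_eq (R := R₁) (S := S₁) (A := C₁) fun r => (hψR r).symm
  haveI : IsScalarTower R S₁ C₁ := IsScalarTower.of_algebraMap_eq (R := R) (S := S₁) (A := C₁) fun r => by
    rw [IsScalarTower.algebraMap_apply R S S₁, ← IsScalarTower.algebraMap_apply S S₁ C₁,
      ← IsScalarTower.algebraMap_apply R S C₁]
  haveI pSC : Algebra.IsPushout S E.C S₁ C₁ :=
    (Algebra.IsPushout.comp_iff R S R₁ S₁ (T := E.C) (T' := C₁)).1 pRC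
  have hsurj₁ : Function.Surjective (algebraMap S₁ C₁) := fun c => by
    obtain ⟨u, rfl⟩ := (Algebra.IsPushout.equiv S E.C S₁ C₁).surjective c
    induction u using TensorProduct.induction_on with
    | zero => exact ⟨0, by simp⟩
    | tmul c s =>
      obtain ⟨s', rfl⟩ := E.surj c
      refine ⟨algebraMap S S₁ s' * s, ?_⟩
      rw [Algebra.IsPushout.equiv_tmul, map_mul, ← IsScalarTower.algebraMap_apply, ← IsScalarTower.algebraMap_apply]
    | add u v hu hv =>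
      obtain ⟨a, ha⟩ := hu
      obtain ⟨b, hb⟩ := hv
      exact ⟨a + b, by rw [map_add, map_add, ha, hb]⟩
  -- the points
  haveI : E.z.LiesOver p := Ideal.LiesOver.trans E.z E.y p
  obtain ⟨y₁, _, _, _⟩ := pushout_exists_prime (S := E.D) (S' := D₁) (p' := p₁) hbp E.y
  obtain ⟨z₁, _, _, _⟩ := pushout_exists_prime (S := E.C) (S' := C₁) (p' := p₁) hbp E.z
  haveI hz₁y₁ : z₁.LiesOver y₁ := by
    haveI : (z₁.under D₁).LiesOver p₁ := ⟨by
      rw [Ideal.over_def z₁ p₁, Ideal.under_def, Ideal.under_def, Ideal.under_def, Ideal.comap_comap,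
        ← IsScalarTower.algebraMap_eq]⟩
    refine ⟨(pushout_prime_le (S := E.D) hbp (z₁.under D₁) y₁ ?_).symm⟩
    rw [← Ideal.over_def y₁ E.y, Ideal.over_def E.z E.y, Ideal.over_def z₁ E.z]
    simp only [Ideal.under_def, Ideal.comap_comap, ← IsScalarTower.algebraMap_eq]
  haveI hz₁q₁ : z₁.LiesOver q₁ := by
    haveI : (z₁.under S₁).LiesOver p₁ := ⟨by
      rw [Ideal.over_def z₁ p₁, Ideal.under_def, Ideal.under_def, Ideal.under_def, Ideal.comap_comap,
        ← IsScalarTower.algebraMap_eq]⟩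
    refine ⟨(pushout_prime_le (S := S) hbp (z₁.under S₁) q₁ ?_).symm⟩
    rw [Ideal.under_under, ← Ideal.over_def q₁ q]
    exact (((Ideal.over_def E.z q).trans (congrArg (Ideal.under S) (Ideal.over_def z₁ E.z))).trans
      (Ideal.under_under (A := S) (B := E.C) z₁)).symm
  have huniq₁ : ∀ z' : Ideal C₁, z'.IsPrime → z'.LiesOver y₁ → z' = z₁ := by
    intro z' _ hz'
    haveI := hz'
    haveI : z'.LiesOver p₁ := Ideal.LiesOver.trans z' y₁ p₁
    haveI : (z'.under E.C).LiesOver E.y := ⟨by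
      rw [Ideal.over_def y₁ E.y, Ideal.over_def z' y₁]
      simp only [Ideal.under_def, Ideal.comap_comap, ← IsScalarTower.algebraMap_eq]⟩
    refine pushout_prime_le (S := E.C) hbp z' z₁ ?_
    rw [E.uniq (z'.under E.C) inferInstance, ← Ideal.over_def z₁ E.z]
  -- an element of `D₁` cutting inside the given neighbourhood
  have hfz : algebraMap S₁ C₁ f ∉ z₁ := fun h => hf ((SetLike.ext_iff.1 (Ideal.over_def z₁ q₁) f).2 h)
  obtain ⟨gD, hgD, hgDy⟩ : ∃ gD : D₁, algebraMap D₁ C₁ gD ∈ Ideal.span {algebraMap S₁ C₁ f} ∧ gD ∉ y₁ := by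
    by_contra hcon
    push Not at hcon
    obtain ⟨P, hPI, hP, hPy⟩ := Ideal.exists_ideal_over_prime_of_isIntegral (R := D₁) y₁
      (Ideal.span {algebraMap S₁ C₁ f}) (fun d hd => hcon d hd)
    haveI := hP
    exact hfz (huniq₁ P hP ⟨hPy.symm⟩ ▸ hPI (Ideal.mem_span_singleton_self _))
  -- the tail
  let M := E.G ⧸ LinearMap.range E.α
  obtain ⟨g', hg'y, h₀', hh₀', htail'⟩ : ∃ g' : D₁, g' ∉ y₁ ∧ ∃ h₀' : R₁, h₀' ∉ p₁ ∧
      ((∃ a : E.D, (∀ m : M, a • m = 0) ∧ algebraMap E.D D₁ a ∣ g') ∨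
      ∀ h : R₁, h₀' ∣ h → h ∉ p₁ → ∀ (R₂ D₂ M₂ : Type u) [CommRing R₂] [CommRing D₂] [Algebra R₁ R₂]
        [IsLocalization.Away h R₂] [Algebra D₁ D₂] [IsLocalization.Away (gD * g' * algebraMap R₁ D₁ h) D₂]
        [Algebra R₂ D₂] [Algebra R₁ D₂] [IsScalarTower R₁ R₂ D₂] [IsScalarTower R₁ D₁ D₂] [Algebra E.D D₂]
        [IsScalarTower E.D D₁ D₂] [AddCommGroup M₂] [Module D₂ M₂] [Module E.D M₂] [IsScalarTower E.D D₂ M₂]
        (i : M →ₗ[E.D] M₂), IsBaseChange D₂ i → ∀ (p₂ : Ideal R₂) [p₂.IsPrime] (y₂ : Ideal D₂) [y₂.IsPrime]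
        [p₂.LiesOver p₁] [y₂.LiesOver y₁] [y₂.LiesOver p₂], FlatCA.HasCompleteDevissageAt R₂ D₂ M₂ p₂ y₂) := by
    rcases htail with ⟨a, ha, hkill⟩ | hgood
    · exact ⟨algebraMap E.D D₁ a, fun h => ha ((SetLike.ext_iff.1 (Ideal.over_def y₁ E.y) a).2 h), 1,
        fun h => ‹p₁.IsPrime›.ne_top (p₁.eq_top_iff_one.2 h), Or.inl ⟨a, hkill, dvd_rfl⟩⟩
    · obtain ⟨g', hg', h₀', hh₀', hT⟩ := hgood R₁ D₁ p₁ y₁ ⟨het, hp₁, hbp⟩ gD hgDy
      exact ⟨g', hg', h₀', hh₀', Or.inr hT⟩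
  have hG : gD * g' ∉ y₁ := fun h => (‹y₁.IsPrime›.mem_or_mem h).elim hgDy hg'y
  haveI : Algebra.Smooth R₁ D₁ := inferInstance
  obtain ⟨h₃, hh₃, hcover⟩ := exists_image_nhd (gD * g') p₁ y₁ hG
  obtain ⟨g, hg⟩ := hsurj₁ (algebraMap D₁ C₁ (gD * g'))
  have hgq : g ∉ q₁ := fun h => hG ((SetLike.ext_iff.1 (Ideal.over_def z₁ y₁) _).2
    (show algebraMap D₁ C₁ (gD * g') ∈ z₁ from hg ▸ (SetLike.ext_iff.1 (Ideal.over_def z₁ q₁) g).1 h))
  refine ⟨g, hgq, h₀' * h₃, fun h => (‹p₁.IsPrime›.mem_or_mem h).elim hh₀' hh₃,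
    fun h hdvd hhp R₂ S₂ N₂ _ _ _ _ _ _ _ _ _ _ _ _ _ _ _ _ i hi p₂ _ q₂ _ _ _ _ => ?_⟩
  -- the shrunk algebras
  let x := gD * g' * algebraMap R₁ D₁ h
  let D₂ := Localization.Away x
  letI aR₂D₂ : Algebra R₂ D₂ := (IsLocalization.Away.lift h (g := algebraMap R₁ D₂) (by
    rw [IsScalarTower.algebraMap_apply R₁ D₁ D₂]
    exact IsLocalization.Away.isUnit_of_dvd (x := x) (Dvd.intro_left _ rfl))).toAlgebra
  haveI : IsScalarTower R₁ R₂ D₂ := IsScalarTower.of_algebraMap_eq (R := R₁) (S := R₂) (A := D₂) fun r => (IsLocalization.Away.lift_eq h _ r).symm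
  let C₂ := D₂ ⊗[D₁] C₁
  letI cC₂ : CommRing C₂ := inferInstance
  letI aC₁C₂ : Algebra C₁ C₂ := Algebra.TensorProduct.rightAlgebra
  haveI : IsScalarTower D₁ C₁ C₂ := IsScalarTower.of_algebraMap_eq (R := D₁) (S := C₁) (A := C₂) fun d =>
    ((Algebra.TensorProduct.includeRight : C₁ →ₐ[D₁] C₂).commutes d).symm
  haveI p12 : Algebra.IsPushout D₁ D₂ C₁ C₂ := TensorProduct.isPushout
  haveI hC₂x : IsLocalization (Algebra.algebraMapSubmonoid C₁ (Submonoid.powers x)) C₂ :=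
    (Algebra.isLocalization_iff_isPushout (A := D₂) (T := C₁) (B := C₂) (Submonoid.powers x)).2 p12.symm
  haveI hC₂x' : IsLocalization.Away (algebraMap D₁ C₁ x) C₂ := by
    rwa [Algebra.algebraMapSubmonoid, Submonoid.map_powers] at hC₂x
  have hximg : algebraMap D₁ C₁ x = algebraMap S₁ C₁ (g * algebraMap R₁ S₁ h) := by
    rw [map_mul (algebraMap S₁ C₁), hg, hψR, map_mul, ← IsScalarTower.algebraMap_apply R₁ D₁ C₁]
  obtain ⟨c, hc⟩ := Ideal.mem_span_singleton'.1 hgD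
  have hC₂f : IsLocalization.Away (algebraMap S₁ C₁ (f * g * algebraMap R₁ S₁ h)) C₂ := by
    have d1 : algebraMap D₁ C₁ x ∣ algebraMap S₁ C₁ (f * g * algebraMap R₁ S₁ h) := by
      rw [hximg, mul_assoc, map_mul (algebraMap S₁ C₁) f]
      exact dvd_mul_left _ _
    have d2 : algebraMap S₁ C₁ (f * g * algebraMap R₁ S₁ h) ∣ algebraMap D₁ C₁ x ^ 2 := by
      rw [mul_assoc, map_mul (algebraMap S₁ C₁) f, ← hximg, pow_two]
      refine mul_dvd_mul ?_ dvd_rfl
      rw [map_mul, map_mul, ← hc]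
      exact dvd_mul_of_dvd_left (dvd_mul_of_dvd_left (dvd_mul_left _ _) _) _
    exact @away_of_dvd C₁ C₂ _ _ aC₁C₂ _ _ hC₂x' d1 2 d2
  letI aS₁C₂ : Algebra S₁ C₂ := Algebra.compHom C₂ (algebraMap S₁ C₁)
  haveI : IsScalarTower S₁ C₁ C₂ := IsScalarTower.of_algebraMap_eq (R := S₁) (S := C₁) (A := C₂) fun _ => rfl
  let g₂ := algebraMap S₁ C₂
  have hu₂ : IsUnit (g₂ (f * g * algebraMap R₁ S₁ h)) := by
    show IsUnit (algebraMap C₁ C₂ (algebraMap S₁ C₁ (f * g * algebraMap R₁ S₁ h)))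
    exact IsLocalization.Away.algebraMap_isUnit (R := C₁) (S := C₂) (algebraMap S₁ C₁ (f * g * algebraMap R₁ S₁ h))
  let ψ₂ := IsLocalization.Away.lift (S := S₂) (f * g * algebraMap R₁ S₁ h) (g := g₂) hu₂
  have hψ₂ : ∀ s, ψ₂ (algebraMap S₁ S₂ s) = algebraMap S₁ C₂ s := fun s =>
    IsLocalization.Away.lift_eq (S := S₂) (f * g * algebraMap R₁ S₁ h) hu₂ s
  letI aS₂C₂ : Algebra S₂ C₂ := ψ₂.toAlgebra
  haveI : IsScalarTower S₁ S₂ C₂ := IsScalarTower.of_algebraMap_eq (R := S₁) (S := S₂) (A := C₂) fun s => (hψ₂ s).symm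
  letI aSC₂ : Algebra S C₂ := Algebra.compHom C₂ (algebraMap S C₁)
  haveI : IsScalarTower S C₁ C₂ := IsScalarTower.of_algebraMap_eq (R := S) (S := C₁) (A := C₂) fun _ => rfl
  haveI : IsScalarTower S S₁ C₂ := IsScalarTower.of_algebraMap_eq (R := S) (S := S₁) (A := C₂) fun s =>
    congrArg (algebraMap C₁ C₂) (IsScalarTower.algebraMap_apply S S₁ C₁ s)
  haveI : IsScalarTower S S₂ C₂ := IsScalarTower.of_algebraMap_eq (R := S) (S := S₂) (A := C₂) fun s => by
    rw [IsScalarTower.algebraMap_apply S S₁ S₂, ← IsScalarTower.algebraMap_apply S₁ S₂ C₂,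
      ← IsScalarTower.algebraMap_apply S S₁ C₂]
  letI aCC₂ : Algebra E.C C₂ := Algebra.compHom C₂ (algebraMap E.C C₁)
  haveI : IsScalarTower E.C C₁ C₂ := IsScalarTower.of_algebraMap_eq (R := E.C) (S := C₁) (A := C₂) fun _ => rfl
  haveI : IsScalarTower S E.C C₂ := IsScalarTower.of_algebraMap_eq (R := S) (S := E.C) (A := C₂) fun s => by
    rw [IsScalarTower.algebraMap_apply E.C C₁ C₂, ← IsScalarTower.algebraMap_apply S E.C C₁,
      ← IsScalarTower.algebraMap_apply S C₁ C₂]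
  haveI : IsScalarTower E.D C₁ C₂ := IsScalarTower.of_algebraMap_eq (R := E.D) (S := C₁) (A := C₂) fun d => by
    rw [IsScalarTower.algebraMap_apply E.D D₁ C₁, ← IsScalarTower.algebraMap_apply D₁ C₁ C₂,
      IsScalarTower.algebraMap_apply D₁ D₂ C₂, ← IsScalarTower.algebraMap_apply E.D D₁ D₂,
      ← IsScalarTower.algebraMap_apply E.D D₂ C₂]
  haveI : IsScalarTower E.D E.C C₂ := IsScalarTower.of_algebraMap_eq (R := E.D) (S := E.C) (A := C₂) fun d => by
    rw [IsScalarTower.algebraMap_apply E.C C₁ C₂, ← IsScalarTower.algebraMap_apply E.D E.C C₁,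
      ← IsScalarTower.algebraMap_apply E.D C₁ C₂]
  haveI : IsScalarTower E.D D₁ C₂ := IsScalarTower.of_algebraMap_eq (R := E.D) (S := D₁) (A := C₂) fun d => by
    rw [IsScalarTower.algebraMap_apply D₁ C₁ C₂, ← IsScalarTower.algebraMap_apply E.D D₁ C₁,
      ← IsScalarTower.algebraMap_apply E.D C₁ C₂]
  haveI : IsScalarTower E.D D₂ C₂ := IsScalarTower.of_algebraMap_eq (R := E.D) (S := D₂) (A := C₂) fun d => by
    rw [IsScalarTower.algebraMap_apply E.D D₁ D₂, ← IsScalarTower.algebraMap_apply D₁ D₂ C₂,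
      ← IsScalarTower.algebraMap_apply E.D D₁ C₂]
  haveI : IsLocalization (Algebra.algebraMapSubmonoid C₁ (Submonoid.powers (f * g * algebraMap R₁ S₁ h))) C₂ := by
    rw [Algebra.algebraMapSubmonoid, Submonoid.map_powers]
    exact hC₂f
  haveI p₂₁ : Algebra.IsPushout S₁ S₂ C₁ C₂ :=
    (Algebra.isPushout_of_isLocalization (Submonoid.powers (f * g * algebraMap R₁ S₁ h)) S₂ C₁ C₂).symm
  haveI pS₂ : Algebra.IsPushout S S₂ E.C C₂ := by
    haveI := pSC.symm
    exact (Algebra.IsPushout.comp_iff S S₁ E.C C₁ (T := S₂) (T' := C₂)).2 p₂₁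
  haveI pD₂ : Algebra.IsPushout E.D D₂ E.C C₂ := by
    haveI := pDC.symm
    exact (Algebra.IsPushout.comp_iff E.D D₁ E.C C₁ (T := D₂) (T' := C₂)).2 p12
  haveI : IsScalarTower R₂ S₂ C₂ := by
    refine IsScalarTower.of_algebraMap_eq (R := R₂) (S := S₂) (A := C₂) fun r => ?_
    refine DFunLike.congr_fun (IsLocalization.ringHom_ext (Submonoid.powers h)
      (j := algebraMap R₂ C₂) (k := (algebraMap S₂ C₂).comp (algebraMap R₂ S₂)) (RingHom.ext fun a => ?_)) r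
    show algebraMap D₂ C₂ (algebraMap R₂ D₂ (algebraMap R₁ R₂ a)) = algebraMap S₂ C₂ (algebraMap R₂ S₂ (algebraMap R₁ R₂ a))
    rw [← IsScalarTower.algebraMap_apply R₁ R₂ D₂, ← IsScalarTower.algebraMap_apply R₁ R₂ S₂,
      IsScalarTower.algebraMap_apply R₁ D₁ D₂, IsScalarTower.algebraMap_apply R₁ S₁ S₂,
      ← IsScalarTower.algebraMap_apply D₁ D₂ C₂, ← IsScalarTower.algebraMap_apply S₁ S₂ C₂,
      IsScalarTower.algebraMap_apply D₁ C₁ C₂, IsScalarTower.algebraMap_apply S₁ C₁ C₂, hψR,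
      ← IsScalarTower.algebraMap_apply R₁ D₁ C₁]
  -- the points
  have hxy : x ∉ y₁ := fun h' => (‹y₁.IsPrime›.mem_or_mem h').elim hG fun h'' =>
    hhp ((SetLike.ext_iff.1 (Ideal.over_def y₁ p₁) h).2 h'')
  have hyd : Disjoint (Submonoid.powers x : Set D₁) (y₁ : Set D₁) :=
    (Ideal.disjoint_powers_iff_notMem_of_isPrime _).2 hxy
  let y₂ := y₁.map (algebraMap D₁ D₂)
  haveI : y₂.IsPrime := IsLocalization.isPrime_of_isPrime_disjoint (Submonoid.powers x) D₂ y₁ ‹_› hyd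
  haveI : y₂.LiesOver y₁ :=
    ⟨(IsLocalization.under_map_of_isPrime_disjoint (Submonoid.powers x) D₂ ‹y₁.IsPrime› hyd).symm⟩
  let z₂ := z₁.map (algebraMap C₁ C₂)
  have hzd : Disjoint (Submonoid.powers (algebraMap D₁ C₁ x) : Set C₁) (z₁ : Set C₁) :=
    (Ideal.disjoint_powers_iff_notMem_of_isPrime _).2 fun h' =>
      hxy ((SetLike.ext_iff.1 (Ideal.over_def z₁ y₁) x).2 h')
  haveI : z₂.IsPrime := IsLocalization.isPrime_of_isPrime_disjoint (Submonoid.powers (algebraMap D₁ C₁ x)) C₂ z₁ ‹_› hzd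
  haveI hz₂z₁ : z₂.LiesOver z₁ := ⟨(IsLocalization.under_map_of_isPrime_disjoint
    (Submonoid.powers (algebraMap D₁ C₁ x)) C₂ ‹z₁.IsPrime› hzd).symm⟩
  haveI hy₂p₂ : y₂.LiesOver p₂ := ⟨by
    have h1 : (y₂.under R₂).under R₁ = p₂.under R₁ := by
      rw [← Ideal.over_def p₂ p₁, Ideal.over_def y₁ p₁, Ideal.over_def y₂ y₁]
      simp only [Ideal.under_def, Ideal.comap_comap, ← IsScalarTower.algebraMap_eq]
    exact (congrArg PrimeSpectrum.asIdeal (PrimeSpectrum.localization_comap_injective R₂ (Submonoid.powers h)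
      (a₁ := ⟨y₂.under R₂, inferInstance⟩) (a₂ := ⟨p₂, ‹_›⟩) (PrimeSpectrum.ext h1))).symm⟩
  haveI hz₂y₂ : z₂.LiesOver y₂ := ⟨by
    refine (congrArg PrimeSpectrum.asIdeal (PrimeSpectrum.localization_comap_injective D₂ (Submonoid.powers x)
      (a₁ := ⟨y₂, ‹_›⟩) (a₂ := ⟨z₂.under D₂, inferInstance⟩) (PrimeSpectrum.ext ?_)))
    show y₂.under D₁ = (z₂.under D₂).under D₁
    rw [← Ideal.over_def y₂ y₁, Ideal.over_def z₁ y₁, Ideal.over_def z₂ z₁]
    simp only [Ideal.under_def, Ideal.comap_comap, ← IsScalarTower.algebraMap_eq]⟩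
  haveI hz₂q₂ : z₂.LiesOver q₂ := ⟨by
    refine (congrArg PrimeSpectrum.asIdeal (PrimeSpectrum.localization_comap_injective S₂
      (Submonoid.powers (f * g * algebraMap R₁ S₁ h))
      (a₁ := ⟨q₂, ‹_›⟩) (a₂ := ⟨z₂.under S₂, inferInstance⟩) (PrimeSpectrum.ext ?_)))
    show q₂.under S₁ = (z₂.under S₂).under S₁
    rw [← Ideal.over_def q₂ q₁, Ideal.over_def z₁ q₁, Ideal.over_def z₂ z₁]
    simp only [Ideal.under_def, Ideal.comap_comap, ← IsScalarTower.algebraMap_eq]⟩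
  have huniq₂ : ∀ (Q : Ideal C₂) [Q.IsPrime], Q.LiesOver y₂ → Q = z₂ := fun Q _ hQ => by
    haveI : (Q.under C₁).LiesOver y₁ := ⟨by
      rw [Ideal.over_def y₂ y₁, Ideal.over_def Q y₂]
      simp only [Ideal.under_def, Ideal.comap_comap, ← IsScalarTower.algebraMap_eq]⟩
    have h1 := huniq₁ (Q.under C₁) inferInstance inferInstance
    refine congrArg PrimeSpectrum.asIdeal (PrimeSpectrum.localization_comap_injective C₂
      (Submonoid.powers (algebraMap D₁ C₁ x)) (a₁ := ⟨Q, ‹_›⟩) (a₂ := ⟨z₂, ‹_›⟩) (PrimeSpectrum.ext ?_))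
    show Q.under C₁ = z₂.under C₁
    rw [h1, ← Ideal.over_def z₂ z₁]
  -- the properties of `D₂`
  letI aRR₂ : Algebra R R₂ := ((algebraMap R₁ R₂).comp (algebraMap R R₁)).toAlgebra
  haveI : IsScalarTower R R₁ R₂ := IsScalarTower.of_algebraMap_eq (R := R) (S := R₁) (A := R₂) fun _ => rfl
  haveI : Algebra.Etale R₁ R₂ := Algebra.Etale.of_isLocalizationAway h
  haveI : Algebra.Etale R R₂ := Algebra.Etale.comp R R₁ R₂
  haveI : p₂.LiesOver p := Ideal.LiesOver.trans p₂ p₁ p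
  have hbp₂ : Function.Bijective (Ideal.ResidueField.mapₐ p p₂ (Algebra.ofId R R₂) (Ideal.over_def p₂ p)) :=
    bijective_mapₐ_trans p p₁ p₂ hbp
      (((RingHom.surjectiveOnStalks_of_isLocalization (Submonoid.powers h) R₂).residueFieldMap_bijective _ _ _))
  haveI : IsScalarTower R E.D D₂ := IsScalarTower.of_algebraMap_eq (R := R) (S := E.D) (A := D₂) fun r => by
    show algebraMap R D₂ r = algebraMap D₁ D₂ (algebraMap E.D D₁ (algebraMap R E.D r))
    rw [← IsScalarTower.algebraMap_apply R E.D D₁, ← IsScalarTower.algebraMap_apply R D₁ D₂]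
  haveI : IsScalarTower R R₂ D₂ := IsScalarTower.of_algebraMap_eq (R := R) (S := R₂) (A := D₂) fun r => by
    rw [IsScalarTower.algebraMap_apply R R₁ R₂, ← IsScalarTower.algebraMap_apply R₁ R₂ D₂,
      ← IsScalarTower.algebraMap_apply R R₁ D₂]
  have hsm₂ : FlatCA.SmoothRelDim E.n R₂ D₂ := smoothRelDim_shrink (R₁ := R₁) h x E.smooth
  have hgi₂ : FlatCA.GeomIntegralFibres R₂ D₂ := geomIntegral_shrink (R₁ := R₁) h x (fun 𝔞 h𝔞 hha => by
    obtain ⟨P, hP, hPc, hGP⟩ := hcover 𝔞 h𝔞 fun hm =>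
      hha (Ideal.mem_of_dvd _ ((Dvd.intro_left _ rfl).trans hdvd) hm)
    exact ⟨P, hP, hPc, fun hm => (hP.mem_or_mem hm).elim hGP fun hm' => hha (hPc ▸ hm')⟩) E.geomInt
  haveI : Module.Flat R R₁ := inferInstance
  haveI : Module.Flat E.D D₁ := Module.Flat.isBaseChange (R := R) (M := R₁) E.D D₁
    (Algebra.IsPushout.out (R := R) (S := E.D) (R' := R₁) (S' := D₁))
  haveI : Module.Flat D₁ D₂ := IsLocalization.flat D₂ (Submonoid.powers x)
  haveI : Module.Flat E.D D₂ := Module.Flat.trans E.D D₁ D₂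
  -- residue fields
  haveI : y₂.LiesOver E.y := Ideal.LiesOver.trans y₂ y₁ E.y
  have hby₂ : Function.Bijective (Ideal.ResidueField.mapₐ E.y y₂ (Algebra.ofId E.D D₂) (Ideal.over_def y₂ E.y)) :=
    bijective_mapₐ_trans E.y y₁ y₂ (pushout_bijective_mapₐ hbp E.y y₁)
      (((RingHom.surjectiveOnStalks_of_isLocalization (Submonoid.powers x) D₂).residueFieldMap_bijective _ _ _))
  refine E.hasCompleteDevissageAt (D₂ := D₂) (C₂ := C₂) i hi p₂ q₂ y₂ z₂ hbp₂ hby₂ hsm₂ hgi₂ huniq₂ ?_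
  rcases htail' with ⟨a, hkill, hadvd⟩ | hT
  · refine Or.inl ⟨a, hkill, ?_⟩
    rw [IsScalarTower.algebraMap_apply E.D D₁ D₂]
    exact IsLocalization.Away.isUnit_of_dvd (x := x) (dvd_mul_of_dvd_left (dvd_mul_of_dvd_right hadvd _) _)
  · exact Or.inr fun M₂ _ _ _ _ j hj => hT h ((Dvd.intro _ rfl).trans hdvd) hhp R₂ D₂ M₂ j hj p₂ y₂

end Groth.Agent.RG29
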