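import Groth.Agent.RG29.DevExist
import Groth.Prelude.Def_FlatCA
import Mathlib

/-!
One-step dévissages: the generic point of the fibre is in the support, and cokernels have smaller
fibre dimension.
-/

set_option autoImplicit false

universe u

open TensorProduct

namespace Groth.Agent.RG29

theorem supportDim_fiberMod {R S : Type u} [CommRing R] [CommRing S] [Algebra R S] (p : Ideal R) [p.IsPrime]
    (N : Type u) [AddCommGroup N] [Module S N] [Module.Finite S N] :
    Module.supportDim (p.Fiber S) (FlatCA.fiberMod p S N) =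
      topologicalKrullDim (Module.support (p.Fiber S) (FlatCA.fiberMod p S N)) := by
  haveI := finite_fiberMod (S := S) p N
  let A : @Ideal (p.Fiber S) CommRing.toCommSemiring.toSemiring :=
    Module.annihilator (p.Fiber S) (FlatCA.fiberMod p S N)
  have hrange : Set.range (PrimeSpectrum.comap (Ideal.Quotient.mk (R := p.Fiber S) A)) =
      Module.support (p.Fiber S) (FlatCA.fiberMod p S N) := by
    rw [range_comap_of_surjective _ _ Ideal.Quotient.mk_surjective, Ideal.mk_ker, support_fiberMod_eq_zeroLocus]
  let h := (PrimeSpectrum.isClosedEmbedding_comap_of_surjective _ (Ideal.Quotient.mk (R := p.Fiber S) A)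
    Ideal.Quotient.mk_surjective).isEmbedding.toHomeomorph.trans (Homeomorph.setCongr hrange)
  rw [Module.supportDim_eq_ringKrullDim_quotient_annihilator, ← IsHomeomorph.topologicalKrullDim_eq _ h.isHomeomorph,
    PrimeSpectrum.topologicalKrullDim_eq_ringKrullDim]

/-- The fibre support dimension does not go down along a closed subscheme finite over another algebra. -/
theorem supportDim_fiberMod_le {R S C D : Type u} [CommRing R] [CommRing S] [CommRing C] [CommRing D] [Algebra R S]
    [Algebra R C] [Algebra R D] [Algebra S C] [IsScalarTower R S C] [Algebra D C] [IsScalarTower R D C]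
    (hsurj : Function.Surjective (algebraMap S C)) [Module.Finite D C] (p : Ideal R) [p.IsPrime]
    (G : Type u) [AddCommGroup G] [Module C G] [Module S G] [IsScalarTower S C G] [Module D G] [IsScalarTower D C G]
    [Module.Finite C G] :
    Module.supportDim (p.Fiber S) (FlatCA.fiberMod p S G) ≤ Module.supportDim (p.Fiber D) (FlatCA.fiberMod p D G) := by
  haveI : Module.Finite S G :=
    haveI : Module.Finite S C := Module.Finite.of_surjective (Algebra.linearMap S C) hsurj
    Module.Finite.trans C G
  haveI : Module.Finite D G := Module.Finite.trans C G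
  haveI : Algebra.IsIntegral D C := Algebra.IsIntegral.of_finite D C
  let eS := PrimeSpectrum.primesOverOrderIsoFiber R S p
  let eD := PrimeSpectrum.primesOverOrderIsoFiber R D p
  have key : ∀ x : Module.support (p.Fiber S) (FlatCA.fiberMod p S G),
      ∃ P : Ideal C, P.IsPrime ∧ P.comap (algebraMap S C) = (eS.symm x.1).1 ∧
        ∃ hw : (P.comap (algebraMap D C)).IsPrime ∧ (P.comap (algebraMap D C)).LiesOver p,
          eD ⟨P.comap (algebraMap D C), hw⟩ ∈ Module.support (p.Fiber D) (FlatCA.fiberMod p D G) := by
    intro x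
    haveI := (eS.symm x.1).2.1
    haveI := (eS.symm x.1).2.2
    let Q : Ideal S := (eS.symm x.1).1
    have hQ : (⟨Q, inferInstance⟩ : PrimeSpectrum S) ∈ Module.support S G :=
      (mem_support_fiberMod_iff p G x.1).1 x.2
    obtain ⟨m, hm⟩ := Module.mem_support_iff'.1 hQ
    have hkle : RingHom.ker (algebraMap S C) ≤ Q := fun a ha => by
      by_contra hc
      refine hm a hc ?_
      rw [← algebraMap_smul C a m, show algebraMap S C a = 0 from ha, zero_smul]
    haveI hP : (Q.map (algebraMap S C)).IsPrime := Ideal.map_isPrime_of_surjective hsurj hkle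
    have hcomap : (Q.map (algebraMap S C)).comap (algebraMap S C) = Q := by
      rw [Ideal.comap_map_of_surjective _ hsurj, sup_eq_left]
      exact hkle
    have hzsupp : (⟨Q.map (algebraMap S C), hP⟩ : PrimeSpectrum C) ∈ Module.support C G := by
      refine Module.mem_support_iff'.2 ⟨m, fun c hc => ?_⟩
      obtain ⟨a, rfl⟩ := hsurj c
      rw [algebraMap_smul]
      exact hm a fun ha => hc (Ideal.mem_map_of_mem _ ha)
    have hover : ((Q.map (algebraMap S C)).comap (algebraMap D C)).LiesOver p := ⟨by
      rw [Ideal.under_def, Ideal.comap_comap, ← IsScalarTower.algebraMap_eq R D C, IsScalarTower.algebraMap_eq R S C,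
        ← Ideal.comap_comap, hcomap]
      exact Ideal.over_def Q p⟩
    refine ⟨Q.map (algebraMap S C), hP, hcomap, ⟨inferInstance, hover⟩, (mem_support_fiberMod_iff p G _).2 ?_⟩
    have hh := comap_mem_support (D := D) G hzsupp
    convert hh using 1
    exact PrimeSpectrum.ext (congrArg Subtype.val
      (eD.symm_apply_apply ⟨(Q.map (algebraMap S C)).comap (algebraMap D C), inferInstance, hover⟩))
  choose P hP hPQ hw hmem using key
  refine Order.krullDim_le_of_strictMono (fun x => ⟨_, hmem x⟩) fun x y hxy => ?_
  refine Subtype.mk_lt_mk.2 (eD.lt_iff_lt.2 ?_)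
  have hlt : (eS.symm x.1).1 < (eS.symm y.1).1 := eS.symm.lt_iff_lt.2 hxy
  have hPlt : P x < P y := by
    refine lt_of_le_of_ne (fun c hc => ?_) fun h => hlt.ne (by rw [← hPQ x, ← hPQ y, h])
    obtain ⟨s, rfl⟩ := hsurj c
    have : s ∈ (eS.symm x.1).1 := hPQ x ▸ hc
    exact Ideal.mem_comap.1 ((hPQ y).ge (hlt.le this))
  obtain ⟨c, hcy, hcx⟩ := SetLike.exists_of_lt hPlt
  haveI := hP x
  exact Ideal.comap_lt_comap_of_integral_mem_sdiff hPlt.le ⟨hcy, hcx⟩ (Algebra.IsIntegral.isIntegral c)

/-- Maps bijective at the generic point of the fibre exist for one-step dévissages and drop the dimension. -/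
theorem oneStep_exists_map {R S : Type u} [CommRing R] [CommRing S] [Algebra R S]
    (N : Type u) [AddCommGroup N] [Module S N] [Module R N] [IsScalarTower R S N] [Module.Finite S N] (p : Ideal R) [p.IsPrime]
    (C D G : Type u) [CommRing C] [CommRing D] [Algebra S C] [Algebra R C] [IsScalarTower R S C]
    [Algebra R D] [Algebra D C] [IsScalarTower R D C] [AddCommGroup G] [Module C G] [Module S G] [IsScalarTower S C G]
    [Module D G] [IsScalarTower D C G]
    (n : ℕ) (h : FlatCA.IsOneStepDevissage R S N p C D G n) [hP : (p.map (algebraMap R D)).IsPrime] :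
    (∃ (r : ℕ) (α : (Fin r → D) →ₗ[D] G), 0 < r ∧ Function.Bijective (α.baseChange (p.map (algebraMap R D)).ResidueField)) ∧
    ∀ (r : ℕ) (α : (Fin r → D) →ₗ[D] G), Function.Bijective (α.baseChange (p.map (algebraMap R D)).ResidueField) →
      Module.supportDim (p.Fiber D) (FlatCA.fiberMod p D (G ⧸ LinearMap.range α)) < (n : WithBot ℕ∞) := by
  obtain ⟨⟨e⟩, hsurj, -, hfinC, hfinG, hsm, hirr, hdim⟩ := h
  haveI := hfinC
  haveI := hfinG
  haveI : Module.Finite D G := Module.Finite.trans C G
  constructor
  · refine exists_map_bijective_at G _ ?_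
    by_contra hgen
    have h1 := exists_dim_support_lt p hsm hirr G hgen
    rw [← supportDim_fiberMod] at h1
    refine (lt_self_iff_false ((n : WithBot ℕ∞))).1 (lt_of_le_of_lt ?_ h1)
    rw [← hdim]
    letI := Algebra.TensorProduct.rightAlgebra (R := R) (A := p.ResidueField) (B := S)
    refine le_trans (le_of_eq (Module.supportDim_eq_of_equiv ?_)) (supportDim_fiberMod_le hsurj p G)
    exact TensorProduct.AlgebraTensorModule.congr
      (A := p.Fiber S) (LinearEquiv.refl (p.Fiber S) (p.Fiber S)) e
  · intro r α hα
    rw [supportDim_fiberMod]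
    exact exists_dim_support_lt p hsm hirr _ (notMem_support_coker _ α hα)

end Groth.Agent.RG29
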