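import Groth.Agent.RG29.Elem
import Groth.Agent.RG29.DevFibre
import Mathlib

/-!
Base change and shrinking of smooth algebras with geometrically integral fibres.
-/

set_option autoImplicit false

universe u

open TensorProduct CategoryTheory CategoryTheory.Limits AlgebraicGeometry

namespace Groth.Agent.RG29

theorem away_of_dvd {A B : Type u} [CommRing A] [CommRing B] [Algebra A B] (x y : A) [IsLocalization.Away x B]
    (h1 : x ∣ y) {k : ℕ} (h2 : y ∣ x ^ k) : IsLocalization.Away y B := by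
  obtain ⟨c, rfl⟩ := h1
  exact IsLocalization.Away.mul_of_isUnit x c
    (IsLocalization.Away.algebraMap_isUnit_iff (x := x) |>.2 ⟨k, (Dvd.intro_left x rfl).trans h2⟩)

theorem smoothRelDim_shrink {R R₁ R₂ D D₂ : Type u} [CommRing R] [CommRing R₁] [CommRing R₂] [CommRing D] [CommRing D₂]
    [Algebra R R₁] [Algebra R D] [Algebra R₁ R₂] (t : R₁) [IsLocalization.Away t R₂] (x : R₁ ⊗[R] D)
    [Algebra (R₁ ⊗[R] D) D₂] [IsLocalization.Away x D₂] [Algebra R₂ D₂] [Algebra R₁ D₂] [IsScalarTower R₁ R₂ D₂]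
    [IsScalarTower R₁ (R₁ ⊗[R] D) D₂] {n : ℕ} (h : FlatCA.SmoothRelDim n R D) :
    FlatCA.SmoothRelDim n R₂ D₂ := by
  have h1 : SmoothOfRelativeDimension n (Spec.map (CommRingCat.ofHom (algebraMap R₁ (R₁ ⊗[R] D)))) :=
    (smoothOfRelativeDimension_isStableUnderBaseChange n).of_isPullback
      (isPullback_SpecMap_of_isPushout _ _ _ _ (CommRingCat.isPushout_tensorProduct R R₁ D)).flip h
  haveI := h1
  haveI : IsOpenImmersion (Spec.map (CommRingCat.ofHom (algebraMap (R₁ ⊗[R] D) D₂))) :=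
    IsOpenImmersion.of_isLocalization x
  haveI : IsOpenImmersion (Spec.map (CommRingCat.ofHom (algebraMap R₁ R₂))) :=
    IsOpenImmersion.of_isLocalization t
  have h2 : SmoothOfRelativeDimension (0 + n) (Spec.map (CommRingCat.ofHom (algebraMap (R₁ ⊗[R] D) D₂)) ≫
      Spec.map (CommRingCat.ofHom (algebraMap R₁ (R₁ ⊗[R] D)))) := inferInstance
  rw [zero_add, ← Spec.map_comp, ← CommRingCat.ofHom_comp, ← IsScalarTower.algebraMap_eq,
    IsScalarTower.algebraMap_eq R₁ R₂ D₂, CommRingCat.ofHom_comp, Spec.map_comp] at h2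
  have hpb : IsPullback (𝟙 (Spec (CommRingCat.of D₂))) (Spec.map (CommRingCat.ofHom (algebraMap R₂ D₂)))
      (Spec.map (CommRingCat.ofHom (algebraMap R₂ D₂)) ≫ Spec.map (CommRingCat.ofHom (algebraMap R₁ R₂)))
      (Spec.map (CommRingCat.ofHom (algebraMap R₁ R₂))) := by
    refine IsPullback.of_isLimit' ⟨by simp⟩ (PullbackCone.IsLimit.mk _ (fun s => s.fst) (fun s => by simp) (fun s => ?_)
      fun s m h₁ _ => by simpa using h₁)
    refine (cancel_mono (Spec.map (CommRingCat.ofHom (algebraMap R₁ R₂)))).1 ?_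
    rw [Category.assoc]
    exact s.condition
  exact (smoothOfRelativeDimension_isStableUnderBaseChange n).of_isPullback hpb h2

theorem geomIntegral_shrink {R R₁ R₂ D : Type u} [CommRing R] [CommRing R₁] [CommRing R₂] [CommRing D] [Algebra R R₁]
    [Algebra R D] [Algebra.Smooth R D] [Algebra R₁ R₂] (t : R₁) [IsLocalization.Away t R₂] (x : R₁ ⊗[R] D)
    [Algebra R₂ (Localization.Away x)] [IsScalarTower R₁ R₂ (Localization.Away x)]
    (hcover : ∀ 𝔞 : Ideal R₁, 𝔞.IsPrime → t ∉ 𝔞 → ∃ P : Ideal (R₁ ⊗[R] D), P.IsPrime ∧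
      P.comap (algebraMap R₁ (R₁ ⊗[R] D)) = 𝔞 ∧ x ∉ P)
    (h : FlatCA.GeomIntegralFibres R D) : FlatCA.GeomIntegralFibres R₂ (Localization.Away x) := by
  refine geomIntegralFibres_of_forall fun L _ _ => ?_
  letI : Algebra R₁ L := ((algebraMap R₂ L).comp (algebraMap R₁ R₂)).toAlgebra
  haveI : IsScalarTower R₁ R₂ L := IsScalarTower.of_algebraMap_eq fun _ => rfl
  letI : Algebra R L := ((algebraMap R₁ L).comp (algebraMap R R₁)).toAlgebra
  haveI : IsScalarTower R R₁ L := IsScalarTower.of_algebraMap_eq fun _ => rfl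
  haveI : IsDomain (L ⊗[R] D) := by
    have := h.geometrically_isIntegral (Spec.map (CommRingCat.ofHom (algebraMap R L))) _ _
      (IsPullback.of_hasPullback _ _).flip
    have : IsIntegral (Spec (CommRingCat.of (L ⊗[R] D))) := IsIntegral.of_isIso (pullbackSpecIso R L D).hom
    exact (affine_isIntegral_iff _).mp this
  let jL := IsScalarTower.toAlgHom R R₁ L
  have hne : baseMap D jL x ≠ 0 := by
    let 𝔞 := RingHom.ker (algebraMap R₁ L)
    haveI : 𝔞.IsPrime := RingHom.ker_isPrime _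
    have ht : t ∉ 𝔞 := fun h0 => ((IsLocalization.Away.algebraMap_isUnit (S := R₂) t).map (algebraMap R₂ L)).ne_zero h0
    obtain ⟨P, hP, hPc, hxP⟩ := hcover 𝔞 inferInstance ht
    obtain ⟨L', _, _, ⟨i₁⟩, ⟨i₂⟩⟩ := exists_common_field (A := R₁) L P.ResidueField 𝔞 (fun r => Iff.rfl)
      fun r => by
        rw [IsScalarTower.algebraMap_apply R₁ (R₁ ⊗[R] D) P.ResidueField, Ideal.algebraMap_residueField_eq_zero,
          ← Ideal.mem_comap, hPc]
    letI : Algebra R L' := ((algebraMap R₁ L').comp (algebraMap R R₁)).toAlgebra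
    haveI : IsScalarTower R R₁ L' := IsScalarTower.of_algebraMap_eq fun _ => rfl
    intro h0
    let φ : L ⊗[R] D →ₐ[R] L' := Algebra.TensorProduct.lift (i₁.restrictScalars R)
      ((i₂.restrictScalars R).comp ((IsScalarTower.toAlgHom R (R₁ ⊗[R] D) P.ResidueField).comp
        Algebra.TensorProduct.includeRight)) fun _ _ => .all _ _
    have hφ : ∀ w, φ (baseMap D jL w) = i₂ (algebraMap (R₁ ⊗[R] D) P.ResidueField w) := fun w => by
      induction w using TensorProduct.induction_on with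
      | zero => simp
      | tmul a d =>
        rw [baseMap_tmul, Algebra.TensorProduct.lift_tmul,
          show a ⊗ₜ[R] d = algebraMap R₁ (R₁ ⊗[R] D) a * ((1 : R₁) ⊗ₜ[R] d) by
            simp [Algebra.TensorProduct.algebraMap_apply], map_mul, map_mul,
          ← IsScalarTower.algebraMap_apply, AlgHom.commutes]
        show i₁ (algebraMap R₁ L a) * _ = _
        rw [AlgHom.commutes]
        rfl
      | add u v hu hv => simp only [map_add, hu, hv]
    have := hφ x
    rw [h0, map_zero, eq_comm, map_eq_zero_iff i₂ i₂.toRingHom.injective, Ideal.algebraMap_residueField_eq_zero] at this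
    exact hxP this
  haveI hdom : IsDomain (Localization.Away (baseMap D jL x)) :=
    IsLocalization.Away.isDomain (S := Localization.Away (baseMap D jL x)) hne
  haveI : IsDomain (L ⊗[R₁] Localization.Away x) := isDomain_baseChange_away x hdom
  haveI := IsLocalization.tensorProduct_compatibleSMul (Submonoid.powers t) R₂ L (Localization.Away x)
  exact (Algebra.TensorProduct.equivOfCompatibleSMul R₁ R₂ R₂ L (Localization.Away x)).toRingEquiv.toMulEquiv.isDomain
    (L ⊗[R₁] Localization.Away x)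

/-- The image of a principal open of a flat finitely presented algebra contains a neighbourhood of
each of its points. -/
theorem exists_image_nhd {R₁ D₁ : Type u} [CommRing R₁] [CommRing D₁] [Algebra R₁ D₁] [Algebra.Smooth R₁ D₁]
    (x : D₁) (p₁ : Ideal R₁) [p₁.IsPrime] (y₁ : Ideal D₁) [y₁.IsPrime] [y₁.LiesOver p₁] (hx : x ∉ y₁) :
    ∃ t : R₁, t ∉ p₁ ∧ ∀ 𝔞 : Ideal R₁, 𝔞.IsPrime → t ∉ 𝔞 →
      ∃ P : Ideal D₁, P.IsPrime ∧ P.comap (algebraMap R₁ D₁) = 𝔞 ∧ x ∉ P := by
  have hopen : IsOpen (PrimeSpectrum.comap (algebraMap R₁ D₁) '' (PrimeSpectrum.basicOpen x : Set _)) :=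
    PrimeSpectrum.isOpenMap_comap_of_hasGoingDown_of_finitePresentation _ (PrimeSpectrum.basicOpen x).isOpen
  have hmem : (⟨p₁, ‹_›⟩ : PrimeSpectrum R₁) ∈
      PrimeSpectrum.comap (algebraMap R₁ D₁) '' (PrimeSpectrum.basicOpen x : Set _) :=
    ⟨⟨y₁, ‹_›⟩, hx, PrimeSpectrum.ext (Ideal.over_def y₁ p₁).symm⟩
  obtain ⟨_, ⟨_, ⟨t, rfl⟩, rfl⟩, ht, hsub⟩ := PrimeSpectrum.isBasis_basic_opens.exists_subset_of_mem_open hmem hopen
  refine ⟨t, ht, fun 𝔞 h𝔞 hta => ?_⟩
  obtain ⟨P, hP, hPa⟩ := hsub (show (⟨𝔞, h𝔞⟩ : PrimeSpectrum R₁) ∈ PrimeSpectrum.basicOpen t from hta)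
  exact ⟨P.asIdeal, P.2, congrArg PrimeSpectrum.asIdeal hPa, hP⟩

/-- The fibre generic point of an étale localisation lies over the fibre generic point. -/
theorem comap_map_eq {R D R₂ D₂ : Type u} [CommRing R] [CommRing D] [CommRing R₂] [CommRing D₂] [Algebra R D]
    [Algebra R R₂] [Algebra R₂ D₂] [Algebra D D₂] [Algebra R D₂] [IsScalarTower R R₂ D₂] [IsScalarTower R D D₂]
    [Algebra.Etale R R₂] [Module.Flat D D₂] (p : Ideal R) [p.IsPrime] (p₂ : Ideal R₂) [p₂.IsPrime] [p₂.LiesOver p]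
    [(p.map (algebraMap R D)).IsPrime] [(p₂.map (algebraMap R₂ D₂)).IsPrime]
    [(p.map (algebraMap R D)).LiesOver p] [(p₂.map (algebraMap R₂ D₂)).LiesOver p₂] :
    (p₂.map (algebraMap R₂ D₂)).LiesOver (p.map (algebraMap R D)) := by
  let w := p.map (algebraMap R D)
  let w₂ := p₂.map (algebraMap R₂ D₂)
  have hle : w ≤ w₂.under D := by
    refine Ideal.map_le_iff_le_comap.2 fun r hr => ?_
    show algebraMap D D₂ (algebraMap R D r) ∈ w₂
    rw [← IsScalarTower.algebraMap_apply, IsScalarTower.algebraMap_apply R R₂ D₂]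
    exact Ideal.mem_map_of_mem _ ((SetLike.ext_iff.1 (Ideal.over_def p₂ p) r).1 hr)
  obtain ⟨v, hv, hvp, hvw⟩ := Ideal.exists_ideal_le_liesOver_of_le (p := w) (q := w₂.under D) w₂ hle
  haveI := hvp
  have hv₂ : v.under R₂ ≤ p₂ := (Ideal.comap_mono hv).trans (Ideal.over_def w₂ p₂).ge
  have hvr : (v.under R₂).under R = p₂.under R := by
    rw [← Ideal.over_def p₂ p]
    ext r
    show algebraMap R₂ D₂ (algebraMap R R₂ r) ∈ v ↔ r ∈ p
    rw [← IsScalarTower.algebraMap_apply, IsScalarTower.algebraMap_apply R D D₂, ← Ideal.mem_comap,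
      show v.comap (algebraMap D D₂) = w from hvw.over.symm]
    exact (SetLike.ext_iff.1 (Ideal.over_def w p) r).symm
  have heq : v.under R₂ = p₂ := Algebra.QuasiFinite.eq_of_le_of_under_eq (R := R) _ _ hv₂ hvr
  have hv' : v = w₂ := le_antisymm hv (Ideal.map_le_iff_le_comap.2 heq.ge)
  show w₂.LiesOver w
  exact hv' ▸ hvw

end Groth.Agent.RG29
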