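import Groth.Agent.RG29.FPTransfer
import Groth.Agent.RG29.FlatTransfer
import Groth.Agent.RG29.DevFibre
import Groth.Prelude.Def_FlatCA
import Mathlib

/-!
Finite presentation along an elementary dévissage, at a point and on basic open neighbourhoods.
-/

set_option autoImplicit false

universe u

open TensorProduct

namespace Groth.Agent.RG29

/-- Faithful flatness of a map of localizations from lifting of primes. -/
theorem faithfullyFlat_locMap {S S' : Type u} [CommRing S] [CommRing S'] [Algebra S S'] [Module.Flat S S']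
    (T : Submonoid S) (T' : Submonoid S') (hT : ∀ t ∈ T, ∃ t' ∈ T', algebraMap S S' t ∣ t')
    (hlift : ∀ (Q : Ideal S) [Q.IsPrime], Disjoint (T : Set S) Q →
      ∃ Q' : Ideal S', Q'.IsPrime ∧ Disjoint (T' : Set S') Q' ∧ Q'.comap (algebraMap S S') = Q) :
    letI := (locMap T T' hT).toAlgebra
    Module.FaithfullyFlat (Localization T) (Localization T') := by
  letI := (locMap T T' hT).toAlgebra
  haveI := isScalarTower_locMap T T' hT
  haveI : Module.Flat S' (Localization T') := IsLocalization.flat (Localization T') T'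
  haveI : Module.Flat S (Localization T') := Module.Flat.trans S S' (Localization T')
  haveI : Module.Flat (Localization T) (Localization T') :=
    (Module.flat_iff_of_isLocalization (Localization T) T (Localization T')).2 inferInstance
  refine Module.FaithfullyFlat.of_comap_surjective fun P => ?_
  obtain ⟨hp, hd⟩ := (IsLocalization.isPrime_iff_isPrime_disjoint T (Localization T) P.asIdeal).1 P.isPrime
  haveI := hp
  obtain ⟨Q', hQ', hd', hQ'c⟩ := hlift _ hd
  let P' : PrimeSpectrum (Localization T') :=
    ⟨Q'.map (algebraMap S' (Localization T')),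
      IsLocalization.isPrime_of_isPrime_disjoint T' _ Q' hQ' hd'⟩
  refine ⟨P', PrimeSpectrum.localization_comap_injective (Localization T) T (PrimeSpectrum.ext ?_)⟩
  show ((Q'.map (algebraMap S' (Localization T'))).comap (algebraMap (Localization T) (Localization T'))).comap
    (algebraMap S (Localization T)) = P.asIdeal.comap (algebraMap S (Localization T))
  rw [Ideal.comap_comap, ← IsScalarTower.algebraMap_eq, IsScalarTower.algebraMap_eq S S' (Localization T'),
    ← Ideal.comap_comap]
  exact (congrArg (Ideal.comap (algebraMap S S'))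
    (IsLocalization.under_map_of_isPrime_disjoint T' (Localization T') hQ' hd')).trans hQ'c

/-- Finite presentation at a prime may be tested over a smaller algebra. -/
theorem fpAt_iff_of_algebra {D C M : Type u} [CommRing D] [CommRing C] [Algebra D C] [Module.FinitePresentation D C]
    [AddCommGroup M] [Module C M] [Module D M] [IsScalarTower D C M]
    (z : Ideal C) [z.IsPrime] (y : Ideal D) [y.IsPrime] (hzy : z.comap (algebraMap D C) = y)
    (h : ∀ J : Ideal C, ¬ J ≤ z → ∃ d : D, d ∉ y ∧ algebraMap D C d ∈ J) :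
    Module.FinitePresentation (Localization.AtPrime z) (LocalizedModule z.primeCompl M) ↔
      Module.FinitePresentation (Localization.AtPrime y) (LocalizedModule y.primeCompl M) := by
  refine fp_localized_iff y.primeCompl z.primeCompl
    (fun t ht => ⟨algebraMap D C t, fun h' => ht (hzy.le h'), dvd_rfl⟩) (fun c hc => ?_) M
  obtain ⟨d, hd, hdc⟩ := h (Ideal.span {c}) fun hle => hc (hle (Ideal.mem_span_singleton_self c))
  exact ⟨d, hd, Ideal.mem_span_singleton.1 hdc⟩

/-- Finite presentation near a prime may be tested over a smaller algebra. -/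
theorem exists_fp_powers_iff_of_algebra {D C M : Type u} [CommRing D] [CommRing C] [Algebra D C]
    [Module.FinitePresentation D C] [AddCommGroup M] [Module C M] [Module D M] [IsScalarTower D C M]
    (z : Ideal C) [z.IsPrime] (y : Ideal D) [y.IsPrime] (hzy : z.comap (algebraMap D C) = y)
    (h : ∀ J : Ideal C, ¬ J ≤ z → ∃ d : D, d ∉ y ∧ algebraMap D C d ∈ J) :
    (∃ c : C, c ∉ z ∧ Module.FinitePresentation (Localization.Away c) (LocalizedModule (Submonoid.powers c) M)) ↔
      ∃ d : D, d ∉ y ∧ Module.FinitePresentation (Localization.Away d) (LocalizedModule (Submonoid.powers d) M) := by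
  have key : ∀ d : D,
      Module.FinitePresentation (Localization.Away (algebraMap D C d))
          (LocalizedModule (Submonoid.powers (algebraMap D C d)) M) ↔
        Module.FinitePresentation (Localization.Away d) (LocalizedModule (Submonoid.powers d) M) := fun d =>
    fp_localized_iff (Submonoid.powers d) (Submonoid.powers (algebraMap D C d))
      (by rintro _ ⟨n, rfl⟩; exact ⟨algebraMap D C d ^ n, ⟨n, rfl⟩, by simp⟩)
      (by rintro _ ⟨n, rfl⟩; exact ⟨d ^ n, ⟨n, rfl⟩, by simp⟩) M
  constructor
  · rintro ⟨c, hc, hfp⟩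
    obtain ⟨d, hd, hdc⟩ := h (Ideal.span {c}) fun hle => hc (hle (Ideal.mem_span_singleton_self c))
    refine ⟨d, hd, (key d).1 ?_⟩
    haveI := hfp
    exact fp_localized_baseChange (IsBaseChange.ofEquiv (LinearEquiv.refl C M)) (Submonoid.powers c)
      (Submonoid.powers (algebraMap D C d)) (by
        rintro _ ⟨n, rfl⟩
        exact ⟨algebraMap D C d ^ n, ⟨n, rfl⟩, pow_dvd_pow_of_dvd (Ideal.mem_span_singleton.1 hdc) n⟩)
  · rintro ⟨d, hd, hfp⟩
    exact ⟨algebraMap D C d, fun h' => hd (hzy.le h'), (key d).2 hfp⟩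

set_option maxHeartbeats 800000 in
/-- Finite presentation along an elementary dévissage. -/
theorem elemDevissage_fp_iff {R S : Type u} [CommRing R] [CommRing S] [Algebra R S] [Algebra.FinitePresentation R S]
    (N : Type u) [AddCommGroup N] [Module S N] (p : Ideal R) [p.IsPrime] (q : Ideal S) [q.IsPrime] (n : ℕ)
    (E : FlatCA.ElemDevissage R S N p q n) :
    Algebra.FinitePresentation E.D E.C ∧
    [Module.FinitePresentation (Localization.AtPrime q) (LocalizedModule q.primeCompl N),
     Module.FinitePresentation (Localization.AtPrime E.z) (LocalizedModule E.z.primeCompl E.G),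
     Module.FinitePresentation (Localization.AtPrime E.y) (LocalizedModule E.y.primeCompl E.G)].TFAE ∧
    [∃ g : S, g ∉ q ∧ Module.FinitePresentation (Localization.Away g) (LocalizedModule (Submonoid.powers g) N),
     ∃ g : E.C, g ∉ E.z ∧ Module.FinitePresentation (Localization.Away g) (LocalizedModule (Submonoid.powers g) E.G),
     ∃ g : E.D, g ∉ E.y ∧ Module.FinitePresentation (Localization.Away g) (LocalizedModule (Submonoid.powers g) E.G)].TFAE := by
  obtain ⟨_, hpp, -⟩ := E.etaleR
  obtain ⟨_, hqq, -⟩ := E.etaleS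
  haveI := E.finiteDC
  haveI := E.fpC
  haveI : Algebra.IsIntegral E.D E.C := Algebra.IsIntegral.of_finite E.D E.C
  haveI : Algebra.Smooth E.R' E.D := smooth_of_smoothRelDim E.smooth
  haveI : Algebra.FinitePresentation R E.S' := Algebra.FinitePresentation.trans R S E.S'
  haveI : Algebra.FinitePresentation E.R' E.S' :=
    Algebra.FinitePresentation.of_restrict_scalars_finitePresentation R E.R' E.S'
  haveI : Algebra.FinitePresentation E.R' E.C := Algebra.FinitePresentation.trans E.R' E.S' E.C
  haveI hDC : Algebra.FinitePresentation E.D E.C :=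
    Algebra.FinitePresentation.of_restrict_scalars_finitePresentation E.R' E.D E.C
  haveI : Module.FinitePresentation E.D E.C := Module.FinitePresentation.of_finite_of_finitePresentation E.D E.C
  haveI : Module.FinitePresentation E.S' E.C :=
    Module.finitePresentation_of_surjective (Algebra.linearMap E.S' E.C) E.surjC
      (Algebra.FinitePresentation.ker_fG_of_surjective (Algebra.ofId E.S' E.C) E.surjC)
  letI : Module S E.G := Module.compHom E.G (algebraMap S E.S')
  haveI : IsScalarTower S E.S' E.G := IsScalarTower.of_algebraMap_smul fun _ _ => rfl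
  let f' : N →ₗ[S] E.G := (E.iso.toLinearMap.restrictScalars S).comp E.f
  have hf : IsBaseChange E.S' f' := IsBaseChange.of_equiv (E.isBaseChange.equiv.trans E.iso) fun x => by
    simp [f', IsBaseChange.equiv_tmul]
  have hzq : E.z.comap (algebraMap E.S' E.C) = E.q' := E.zOver.over.symm
  have hzy : E.z.comap (algebraMap E.D E.C) = E.y := E.zOverY.over.symm
  have hJC : ∀ J : Ideal E.C, ¬ J ≤ E.z → ∃ d : E.D, d ∉ E.y ∧ algebraMap E.D E.C d ∈ J :=
    fun J hJ => exists_mem_of_unique E.z E.y E.uniq J hJ
  have hJS : ∀ J : Ideal E.C, ¬ J ≤ E.z → ∃ d : E.S', d ∉ E.q' ∧ algebraMap E.S' E.C d ∈ J := fun J hJ =>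
    hzq ▸ exists_mem_of_surjective E.surjC _ J hJ
  refine ⟨hDC, ?_, ?_⟩
  · have hT : ∀ t ∈ q.primeCompl, ∃ t' ∈ E.q'.primeCompl, algebraMap S E.S' t ∣ t' := fun t ht =>
      ⟨algebraMap S E.S' t, fun h => ht (hqq.over.ge h), dvd_rfl⟩
    tfae_have 2 ↔ 3 := fpAt_iff_of_algebra E.z E.y hzy hJC
    tfae_have 1 → 2 := fun h =>
      (fpAt_iff_of_algebra E.z E.q' hzq hJS).2 (fp_localized_baseChange hf q.primeCompl E.q'.primeCompl hT)
    tfae_have 2 → 1 := fun h => by
      haveI := (fpAt_iff_of_algebra E.z E.q' hzq hJS).1 h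
      refine fp_localized_descend hf q.primeCompl E.q'.primeCompl hT
        (faithfullyFlat_locMap q.primeCompl E.q'.primeCompl hT fun Q _ hQ => ?_)
      have hQq : Q ≤ q := fun a ha => by
        by_contra haq
        exact Set.disjoint_left.1 hQ haq ha
      obtain ⟨Q', hle, hQ', hover⟩ := Ideal.exists_ideal_le_liesOver_of_le (p := Q) (q := q) E.q' hQq
      exact ⟨Q', hQ', Set.disjoint_left.2 fun a ha ha' => ha (hle ha'), hover.over.symm⟩
    tfae_finish
  · tfae_have 2 ↔ 3 := exists_fp_powers_iff_of_algebra E.z E.y hzy hJC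
    tfae_have 1 → 2 := fun ⟨g, hg, hfp⟩ =>
      (exists_fp_powers_iff_of_algebra E.z E.q' hzq hJS).2
        ⟨algebraMap S E.S' g, fun h' => hg (hqq.over.ge h'),
          fp_localized_baseChange hf (Submonoid.powers g) _ (by
            rintro _ ⟨m, rfl⟩; exact ⟨algebraMap S E.S' g ^ m, ⟨m, rfl⟩, by simp⟩)⟩
    tfae_have 2 → 1 := fun h => by
      obtain ⟨g', hg', hfp⟩ := (exists_fp_powers_iff_of_algebra E.z E.q' hzq hJS).1 h
      have hopen : IsOpen (PrimeSpectrum.comap (algebraMap S E.S') '' PrimeSpectrum.basicOpen g') :=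
        PrimeSpectrum.isOpenMap_comap_of_hasGoingDown_of_finitePresentation _
          (PrimeSpectrum.basicOpen g').isOpen
      have hmem : (⟨q, inferInstance⟩ : PrimeSpectrum S) ∈
          PrimeSpectrum.comap (algebraMap S E.S') '' PrimeSpectrum.basicOpen g' :=
        ⟨⟨E.q', inferInstance⟩, hg', PrimeSpectrum.ext hqq.over.symm⟩
      obtain ⟨_, ⟨g, rfl⟩, hgq, hsub⟩ :=
        PrimeSpectrum.isTopologicalBasis_basic_opens.exists_subset_of_mem_open hmem hopen
      haveI := hfp
      let g'' := g' * algebraMap S E.S' g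
      haveI : Module.FinitePresentation (Localization.Away g'') (LocalizedModule (Submonoid.powers g'') E.G) :=
        fp_localized_baseChange (IsBaseChange.ofEquiv (LinearEquiv.refl E.S' E.G)) (Submonoid.powers g')
          (Submonoid.powers g'') (by
            rintro _ ⟨m, rfl⟩
            exact ⟨g'' ^ m, ⟨m, rfl⟩, pow_dvd_pow_of_dvd (dvd_mul_right _ _) m⟩)
      have hT : ∀ t ∈ Submonoid.powers g, ∃ t' ∈ Submonoid.powers g'', algebraMap S E.S' t ∣ t' := by
        rintro _ ⟨m, rfl⟩
        exact ⟨g'' ^ m, ⟨m, rfl⟩, by simpa using pow_dvd_pow_of_dvd (dvd_mul_left (algebraMap S E.S' g) g') m⟩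
      refine ⟨g, hgq, fp_localized_descend hf (Submonoid.powers g) (Submonoid.powers g'') hT
        (faithfullyFlat_locMap _ _ hT fun Q hQp hQ => ?_)⟩
      have hgQ : g ∉ Q := Set.disjoint_left.1 hQ (Submonoid.mem_powers g)
      obtain ⟨Q', hQ', hQeq⟩ := hsub (show (⟨Q, hQp⟩ : PrimeSpectrum S) ∈ (PrimeSpectrum.basicOpen g : Set _) from hgQ)
      refine ⟨Q'.asIdeal, Q'.isPrime, (Ideal.disjoint_powers_iff_notMem_of_isPrime _).2 fun hm => ?_,
        congrArg PrimeSpectrum.asIdeal hQeq⟩
      exact (Q'.isPrime.mem_or_mem hm).elim hQ' fun h'' =>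
        hgQ ((congrArg PrimeSpectrum.asIdeal hQeq).le h'')
    tfae_finish

end Groth.Agent.RG29
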