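import Groth.Agent.RG29.LocalFree
import Groth.Agent.RG29.LocalAlgebra
import Mathlib

/-!
Étale localizations upstairs over base changes to local rings of étale neighbourhoods, with free modules.
-/

set_option autoImplicit false

universe u

open TensorProduct

namespace Groth.Agent.RG29

set_option maxHeartbeats 1600000 in
/-- From free localized data to the étale algebra over any model of the base change to the local ring. -/
theorem local_conclusion {R S R' S' : Type u} [CommRing R] [CommRing S] [CommRing R'] [CommRing S']
    [Algebra R S] [Algebra R R'] [Algebra.Etale R R'] [Algebra S S'] [Algebra.Etale S S'] [Algebra R' S'] [Algebra R S']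
    [IsScalarTower R R' S'] [IsScalarTower R S S'] (p' : Ideal R') [p'.IsPrime] (N : Type u) [AddCommGroup N] [Module S N]
    (hfree : Module.Free (Localization.AtPrime p') (Localization.AtPrime p' ⊗[R'] (S' ⊗[S] N)))
    (hfp : Algebra.FinitePresentation R S →
        Module.FinitePresentation (Localization (Algebra.algebraMapSubmonoid S' p'.primeCompl))
          (LocalizedModule (Algebra.algebraMapSubmonoid S' p'.primeCompl) (S' ⊗[S] N)))
    (SA NA : Type u) [CommRing SA] [Algebra R SA] [Algebra S SA] [Algebra (Localization.AtPrime p') SA]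
    [IsScalarTower R S SA] [IsScalarTower R (Localization.AtPrime p') SA]
    [Algebra.IsPushout R S (Localization.AtPrime p') SA]
    [AddCommGroup NA] [Module SA NA] [Module S NA] [IsScalarTower S SA NA]
    (f : N →ₗ[S] NA) (hf : IsBaseChange SA f) :
    ∃ (C : Type u) (_ : CommRing C) (_ : Algebra SA C) (_ : Algebra (Localization.AtPrime p') C)
      (_ : IsScalarTower (Localization.AtPrime p') SA C) (_ : Algebra S C) (_ : IsScalarTower S SA C),
      Algebra.Etale SA C ∧
      Module.Free (Localization.AtPrime p') (RestrictScalars (Localization.AtPrime p') C (C ⊗[SA] NA)) ∧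
      (Algebra.FinitePresentation R S → Algebra.FinitePresentation (Localization.AtPrime p') C ∧
        Module.FinitePresentation C (C ⊗[SA] NA)) ∧
      ∀ (q : Ideal S) [q.IsPrime] (q' : Ideal S') [q'.IsPrime] [q'.LiesOver p'] [hq : q'.LiesOver q],
        ∃ (x' : Ideal C) (_ : x'.IsPrime) (hx : x'.LiesOver q),
          x'.LiesOver (IsLocalRing.maximalIdeal (Localization.AtPrime p')) ∧
          (Function.Bijective (Ideal.ResidueField.mapₐ q q' (Algebra.ofId S S') hq.over) →
            Function.Bijective (Ideal.ResidueField.mapₐ q x' (Algebra.ofId S C) hx.over)) := by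
  obtain ⟨aSAC, tA, tS, hetC, ⟨eC⟩⟩ := exists_localAlgebra (R := R) (S' := S') p' SA NA f hf
  letI := aSAC
  let A := Localization.AtPrime p'
  let T := Algebra.algebraMapSubmonoid S' p'.primeCompl
  let C := Localization T
  refine ⟨C, inferInstance, aSAC, inferInstance, tA, inferInstance, tS, hetC, ?_, fun hS => ⟨?_, ?_⟩,
    fun q _ q' _ _ hq => ?_⟩
  · let M := S' ⊗[S] N
    letI : Module A (LocalizedModule T M) := Module.compHom _ (algebraMap A C)
    haveI : IsScalarTower A C (LocalizedModule T M) := IsScalarTower.of_algebraMap_smul fun _ _ => rfl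
    haveI : IsScalarTower R' C (LocalizedModule T M) := IsScalarTower.of_algebraMap_smul fun c m => by
      rw [IsScalarTower.algebraMap_apply R' S' C, algebraMap_smul, algebraMap_smul]
    haveI : IsScalarTower R' A (LocalizedModule T M) := IsScalarTower.of_algebraMap_smul fun c m => by
      rw [← algebraMap_smul C (algebraMap R' A c), ← IsScalarTower.algebraMap_apply, algebraMap_smul]
    haveI := isLocalizedModule_restrict (D := R') p'.primeCompl T (fun t ht => ⟨_, ⟨t, ht, rfl⟩, dvd_rfl⟩)
      (by rintro _ ⟨t, ht, rfl⟩; exact ⟨t, ht, dvd_rfl⟩) (M := M) (M' := LocalizedModule T M) (LocalizedModule.mkLinearMap T M)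
    let e₁ : A ⊗[R'] M ≃ₗ[A] LocalizedModule T M :=
      (IsLocalizedModule.linearEquiv p'.primeCompl (TensorProduct.mk R' A M 1)
        ((LocalizedModule.mkLinearMap T M).restrictScalars R')).extendScalarsOfIsLocalization p'.primeCompl A
    let e₂ : LocalizedModule T M ≃ₗ[A] RestrictScalars A C (C ⊗[SA] NA) :=
      { eC.symm.toAddEquiv.trans (RestrictScalars.addEquiv A C (C ⊗[SA] NA)).symm with
        map_smul' := fun a x => by
          show (RestrictScalars.addEquiv A C (C ⊗[SA] NA)).symm (eC.symm (algebraMap A C a • x)) =
            a • (RestrictScalars.addEquiv A C (C ⊗[SA] NA)).symm (eC.symm x)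
          rw [map_smul]
          exact RestrictScalars.addEquiv_symm_map_algebraMap_smul A C (C ⊗[SA] NA) a (eC.symm x) }
    haveI := hfree
    exact Module.Free.of_equiv (e₁.trans e₂)
  · haveI := hS
    haveI : Algebra.FinitePresentation R S' := Algebra.FinitePresentation.trans R S S'
    haveI : Algebra.FinitePresentation R' S' :=
      Algebra.FinitePresentation.of_restrict_scalars_finitePresentation R R' S'
    haveI : Algebra.IsPushout R' A S' C :=
      Algebra.IsPushout.symm (Algebra.isPushout_of_isLocalization p'.primeCompl A S' C)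
    exact Algebra.FinitePresentation.equiv (Algebra.IsPushout.equiv R' A S' C)
  · haveI := hfp hS
    exact Module.FinitePresentation.of_equiv (R := C) (M := LocalizedModule T (S' ⊗[S] N)) (N := C ⊗[SA] NA) eC.symm
  · have hd : Disjoint (T : Set S') (q' : Set S') := Set.disjoint_left.2 (by
      rintro _ ⟨c, hc, rfl⟩ h
      exact hc ((SetLike.ext_iff.1 (Ideal.over_def q' p') c).2 h))
    let x' : Ideal C := q'.map (algebraMap S' C)
    haveI : x'.IsPrime := IsLocalization.isPrime_of_isPrime_disjoint T C q' ‹_› hd
    haveI hxq' : x'.LiesOver q' := ⟨(IsLocalization.under_map_of_isPrime_disjoint T C ‹q'.IsPrime› hd).symm⟩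
    haveI hxq : x'.LiesOver q := Ideal.LiesOver.trans x' q' q
    refine ⟨x', inferInstance, hxq, ⟨?_⟩, fun hb => bijective_mapₐ_trans q q' x' hb
      ((RingHom.surjectiveOnStalks_of_isLocalization T C).residueFieldMap_bijective _ _ _)⟩
    haveI : x'.LiesOver p' := Ideal.LiesOver.trans x' q' p'
    have h1 : (x'.under A).comap (algebraMap R' A) = p' := by
      rw [Ideal.under_def, Ideal.comap_comap, ← IsScalarTower.algebraMap_eq]
      exact (Ideal.over_def x' p').symm
    rw [← IsLocalization.map_under p'.primeCompl A (x'.under A), Ideal.under_def R' (x'.under A), h1,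
      IsLocalization.AtPrime.map_eq_maximalIdeal p' A]

end Groth.Agent.RG29
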