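import Groth.Agent.RG29.ProjOpen
import Groth.Agent.RG29.LocalConclusion
import Groth.Agent.FlatMor67.ProjUnivInj
import Groth.Agent.CAlg1.ProjLocal
import Groth.Agent.CAlg6.FiberMod
import Mathlib

/-!
Affine opens of the base change to the local ring of an étale neighbourhood on which a module flat at a point
is free.
-/

set_option autoImplicit false

universe u

open TensorProduct IsLocalRing

namespace Groth.Agent.RG29

set_option maxHeartbeats 800000 in
/-- Over a local base: finitely many primes of the closed fibre outside which multiplication on a projective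
module is universally injective. -/
theorem exists_avoid_local {A C L : Type u} [CommRing A] [IsLocalRing A] [CommRing C] [Algebra A C]
    [Algebra.FiniteType A C] [AddCommGroup L] [Module C L] [Module A L] [IsScalarTower A C L] [Module.Finite C L]
    [Module.Projective A L] :
    ∃ E : Set (PrimeSpectrum C), E.Finite ∧ ∀ g : C, (∀ P ∈ E, g ∉ P.asIdeal) →
      CAlgX.UniversallyInjective A ((LinearMap.lsmul C L g).restrictScalars A) := by
  let m := maximalIdeal A
  let mC : Ideal C := m.map (algebraMap A C)
  let Q := L ⧸ mC • (⊤ : Submodule C L)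
  letI : Field (A ⧸ m) := Ideal.Quotient.field m
  haveI : Algebra.FiniteType A (C ⧸ mC) := Algebra.FiniteType.trans (S := C) inferInstance inferInstance
  letI : Algebra (A ⧸ m) (C ⧸ mC) := (Ideal.quotientMap mC (algebraMap A C) Ideal.le_comap_map).toAlgebra
  haveI : IsScalarTower A (A ⧸ m) (C ⧸ mC) := IsScalarTower.of_algebraMap_eq fun _ => rfl
  haveI : Algebra.FiniteType (A ⧸ m) (C ⧸ mC) := Algebra.FiniteType.of_restrictScalars_finiteType A (A ⧸ m) (C ⧸ mC)
  haveI : IsNoetherianRing (C ⧸ mC) := Algebra.FiniteType.isNoetherianRing (A ⧸ m) (C ⧸ mC)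
  haveI : Module.Finite (C ⧸ mC) Q := Module.Finite.of_restrictScalars_finite C (C ⧸ mC) Q
  let π := Ideal.Quotient.mk mC
  let F : Set (PrimeSpectrum (C ⧸ mC)) := {P | P.asIdeal ∈ associatedPrimes (C ⧸ mC) Q}
  have hF : F.Finite :=
    (associatedPrimes.finite (C ⧸ mC) Q).preimage fun _ _ _ _ h => PrimeSpectrum.ext h
  refine ⟨PrimeSpectrum.comap π '' F, hF.image _, fun g hg => ?_⟩
  have hreg : IsSMulRegular Q (π g) := by
    by_contra h
    have h1 : π g ∈ ⋃ P ∈ associatedPrimes (C ⧸ mC) Q, (P : Set (C ⧸ mC)) := by
      rw [biUnion_associatedPrimes_eq_compl_regular]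
      exact h
    obtain ⟨P, hP, hgP⟩ := Set.mem_iUnion₂.1 h1
    exact hg (PrimeSpectrum.comap π ⟨P, hP.isPrime⟩) (Set.mem_image_of_mem _ hP) hgP
  have hinj : FlatMor67.ProjUnivInj.InjMod ((LinearMap.lsmul C L g).restrictScalars A) := fun n hn => by
    rw [← CAlg6.mem_map_smul_top_iff (S := C), ← Submodule.Quotient.mk_eq_zero] at hn ⊢
    refine hreg ?_
    simp only [smul_zero]
    exact hn
  intro X _ _
  exact (LinearMap.lTensor_inj_iff_rTensor_inj _ _).1
    (FlatMor67.ProjUnivInj.univInj_of_injMod _ hinj X)

set_option maxHeartbeats 1600000 in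
/-- An affine open of the base change to the local ring of an étale neighbourhood with a free module. -/
theorem exists_free_open {R S : Type u} [CommRing R] [CommRing S] [Algebra R S] [Algebra.FiniteType R S]
    (N : Type u) [AddCommGroup N] [Module S N] [Module R N] [IsScalarTower R S N] [Module.Finite S N]
    (p : Ideal R) [p.IsPrime] (q : Ideal S) [q.IsPrime] [q.LiesOver p] (hflat : FlatCA.FlatAt R q N) :
    ∃ (R' : Type u) (_ : CommRing R') (_ : Algebra R R') (p' : Ideal R') (_ : p'.IsPrime), FlatCA.IsEtaleNhd R R' p p' ∧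
      ∀ (SA NA : Type u) [CommRing SA] [Algebra R SA] [Algebra S SA] [Algebra (Localization.AtPrime p') SA]
        [IsScalarTower R S SA] [IsScalarTower R (Localization.AtPrime p') SA]
        [Algebra.IsPushout R S (Localization.AtPrime p') SA]
        [AddCommGroup NA] [Module SA NA] [Module S NA] [IsScalarTower S SA NA]
        (fb : N →ₗ[S] NA), IsBaseChange SA fb →
        ∃ (g : SA) (P : Ideal SA), P.IsPrime ∧ g ∉ P ∧ P.LiesOver q ∧
          P.LiesOver (maximalIdeal (Localization.AtPrime p')) ∧
          Module.Free (Localization.AtPrime p')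
            (RestrictScalars (Localization.AtPrime p') (Localization.Away g) (Localization.Away g ⊗[SA] NA)) := by
  obtain ⟨R', S', _, _, _, _, _, _, _, _, p', q', _, _, hn, hn', hqp, hfree, hfp⟩ :=
    exists_free_nhd N p q hflat
  obtain ⟨het, -, -⟩ := id hn
  obtain ⟨het', hqq, -⟩ := hn'
  haveI := het; haveI := het'; haveI := hqq; haveI := hqp
  refine ⟨R', inferInstance, inferInstance, p', inferInstance, hn, ?_⟩
  intro SA NA _ _ _ _ _ _ hpush _ _ _ _ fb hfb
  let A := Localization.AtPrime p'
  obtain ⟨C, _, _, _, tA, _, tS, hC, hfr, -, hpts⟩ :=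
    local_conclusion (R := R) (S' := S') p' N hfree hfp SA NA fb hfb
  obtain ⟨x', hx', hxq, hxm, -⟩ := hpts q q'
  haveI := hC; haveI := hx'
  haveI : Algebra.FiniteType A SA := by
    haveI := hpush.symm
    exact Algebra.FiniteType.equiv inferInstance (Algebra.IsPushout.equiv R A S SA)
  haveI : Algebra.FiniteType A C := Algebra.FiniteType.trans (S := SA) inferInstance inferInstance
  haveI : Module.Finite SA NA := Module.Finite.equiv hfb.equiv
  letI : Module A NA := Module.compHom NA (algebraMap A SA)
  haveI : IsScalarTower A SA NA := IsScalarTower.of_algebraMap_smul fun _ _ => rfl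
  let eR : RestrictScalars A C (C ⊗[SA] NA) ≃ₗ[A] C ⊗[SA] NA :=
    { RestrictScalars.addEquiv A C (C ⊗[SA] NA) with
      map_smul' := fun c x => by
        show RestrictScalars.addEquiv A C (C ⊗[SA] NA) (c • x) = c • RestrictScalars.addEquiv A C (C ⊗[SA] NA) x
        rw [RestrictScalars.addEquiv_map_smul, algebraMap_smul] }
  haveI : Module.Free A (C ⊗[SA] NA) := Module.Free.of_equiv eR
  obtain ⟨E, hE, hEg⟩ := exists_avoid_local (A := A) (C := C) (L := C ⊗[SA] NA)
  obtain ⟨g, hgE, hgcov⟩ := exists_basicOpen_image (B := SA) (insert ⟨x', hx'⟩ E) (hE.insert _)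
  have hinj := hEg (algebraMap SA C g) fun P hP => hgE P (Set.mem_insert_of_mem _ hP)
  have hinj' : CAlgX.UniversallyInjective A ((LinearMap.lsmul SA (C ⊗[SA] NA) g).restrictScalars A) := by
    rwa [show (LinearMap.lsmul C (C ⊗[SA] NA) (algebraMap SA C g)).restrictScalars A =
      (LinearMap.lsmul SA (C ⊗[SA] NA) g).restrictScalars A from LinearMap.ext fun x => algebraMap_smul C g x] at hinj
  haveI hpr : Module.Projective A (LocalizedModule (Submonoid.powers g) NA) :=
    projective_localized_of_cover (A := A) (C := C) NA g (fun P hP hgP => hgcov P hgP) hinj'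
  haveI : Module.Free A (LocalizedModule (Submonoid.powers g) NA) :=
    CAlg1.free_of_projective (R := A) (P := LocalizedModule (Submonoid.powers g) NA)
  refine ⟨g, x'.comap (algebraMap SA C), inferInstance, hgE ⟨x', hx'⟩ (Set.mem_insert _ _), ⟨?_⟩, ⟨?_⟩, ?_⟩
  · rw [Ideal.under_def, Ideal.comap_comap, ← IsScalarTower.algebraMap_eq]
    exact hxq.over
  · rw [Ideal.under_def, Ideal.comap_comap, ← IsScalarTower.algebraMap_eq]
    exact hxm.over
  · let eT : LocalizedModule (Submonoid.powers g) NA ≃ₗ[Localization.Away g] Localization.Away g ⊗[SA] NA :=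
      LocalizedModule.equivTensorProduct (Submonoid.powers g) NA
    let e : LocalizedModule (Submonoid.powers g) NA ≃ₗ[A] RestrictScalars A (Localization.Away g)
        (Localization.Away g ⊗[SA] NA) :=
      { (eT.restrictScalars A).toAddEquiv.trans
          (RestrictScalars.addEquiv A (Localization.Away g) (Localization.Away g ⊗[SA] NA)).symm with
        map_smul' := fun c x => by
          show (RestrictScalars.addEquiv A (Localization.Away g) (Localization.Away g ⊗[SA] NA)).symm
              (eT.restrictScalars A (c • x)) =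
            c • (RestrictScalars.addEquiv A (Localization.Away g) (Localization.Away g ⊗[SA] NA)).symm
              (eT.restrictScalars A x)
          rw [map_smul, ← algebraMap_smul (Localization.Away g) c (eT.restrictScalars A x)]
          exact RestrictScalars.addEquiv_symm_map_algebraMap_smul A (Localization.Away g)
            (Localization.Away g ⊗[SA] NA) c _ }
    exact Module.Free.of_equiv e

end Groth.Agent.RG29
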