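import Groth.Agent.RG29.LocalConclusion
import Groth.Agent.RG29.ElemFP
import Mathlib

/-!
Open neighbourhoods on which base changes to local rings of étale neighbourhoods are flat and finitely presented.
-/

set_option autoImplicit false

universe u

open TensorProduct

namespace Groth.Agent.RG29

/-- Finite presentation near a point descends along an étale map through it. -/
theorem exists_fp_powers_of_baseChange {S S' N M : Type u} [CommRing S] [CommRing S'] [Algebra S S'] [Algebra.Etale S S']
    [AddCommGroup N] [Module S N] [AddCommGroup M] [Module S' M] [Module S M] [IsScalarTower S S' M] {f : N →ₗ[S] M}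
    (hf : IsBaseChange S' f) (q : Ideal S) [hqp : q.IsPrime] (q' : Ideal S') [hqp' : q'.IsPrime] [hq : q'.LiesOver q]
    [Module.FinitePresentation S' M] :
    ∃ g : S, g ∉ q ∧ Module.FinitePresentation (Localization.Away g) (LocalizedModule (Submonoid.powers g) N) := by
  have hopen : IsOpen (PrimeSpectrum.comap (algebraMap S S') '' (Set.univ : Set (PrimeSpectrum S'))) :=
    PrimeSpectrum.isOpenMap_comap_of_hasGoingDown_of_finitePresentation _ isOpen_univ
  have hmem : (⟨q, hqp⟩ : PrimeSpectrum S) ∈ PrimeSpectrum.comap (algebraMap S S') '' Set.univ :=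
    ⟨⟨q', hqp'⟩, trivial, PrimeSpectrum.ext hq.over.symm⟩
  obtain ⟨_, ⟨g, rfl⟩, hgq, hsub⟩ :=
    PrimeSpectrum.isTopologicalBasis_basic_opens.exists_subset_of_mem_open hmem hopen
  let g' := algebraMap S S' g
  have hT : ∀ t ∈ Submonoid.powers g, ∃ t' ∈ Submonoid.powers g', algebraMap S S' t ∣ t' := by
    rintro _ ⟨m, rfl⟩
    exact ⟨g' ^ m, ⟨m, rfl⟩, by simp [g']⟩
  refine ⟨g, hgq, fp_localized_descend hf (Submonoid.powers g) (Submonoid.powers g') hT
    (faithfullyFlat_locMap _ _ hT fun Q hQp hQ => ?_)⟩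
  have hgQ : g ∉ Q := Set.disjoint_left.1 hQ (Submonoid.mem_powers g)
  obtain ⟨Q', -, hQeq⟩ := hsub (show (⟨Q, hQp⟩ : PrimeSpectrum S) ∈ (PrimeSpectrum.basicOpen g : Set _) from hgQ)
  exact ⟨Q'.asIdeal, Q'.isPrime, (Ideal.disjoint_powers_iff_notMem_of_isPrime _).2 fun hm =>
    hgQ ((congrArg PrimeSpectrum.asIdeal hQeq).le hm), congrArg PrimeSpectrum.asIdeal hQeq⟩

/-- Flatness, and finite presentation, on a basic open through an étale algebra with free module. -/
theorem exists_nhd_of_free {A SA C NA : Type u} [CommRing A] [CommRing SA] [CommRing C] [Algebra A SA] [Algebra SA C]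
    [Algebra A C] [IsScalarTower A SA C] [Algebra.Etale SA C] [AddCommGroup NA] [Module SA NA] [Module A NA]
    [IsScalarTower A SA NA] (hfree : Module.Free A (RestrictScalars A C (C ⊗[SA] NA)))
    (Q : Ideal SA) [Q.IsPrime] (x' : Ideal C) [x'.IsPrime] [x'.LiesOver Q] :
    ∃ g : SA, g ∉ Q ∧ Module.Flat A (LocalizedModule (Submonoid.powers g) NA) ∧
      (Module.FinitePresentation C (C ⊗[SA] NA) →
        Module.FinitePresentation (Localization.Away g) (LocalizedModule (Submonoid.powers g) NA)) := by
  haveI := hfree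
  let e : RestrictScalars A C (C ⊗[SA] NA) ≃ₗ[A] C ⊗[SA] NA :=
    { RestrictScalars.addEquiv A C (C ⊗[SA] NA) with
      map_smul' := fun a x => by
        show RestrictScalars.addEquiv A C (C ⊗[SA] NA) (a • x) = a • RestrictScalars.addEquiv A C (C ⊗[SA] NA) x
        rw [RestrictScalars.addEquiv_map_smul, algebraMap_smul] }
  haveI : Module.Flat A (C ⊗[SA] NA) := Module.Flat.of_linearEquiv e.symm
  obtain ⟨g₁, hg₁, hflat⟩ := exists_flat_powers_of_baseChange (R := A) (TensorProduct.isBaseChange SA NA C) Q x'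
    ⟨1, fun h => Ideal.IsPrime.ne_top ‹x'.IsPrime› (x'.eq_top_iff_one.2 h), (flat_localized_iff _).2 fun I z hz =>
      ⟨1, Submonoid.one_mem _, by
        rw [one_smul]
        exact Module.Flat.lTensor_preserves_injective_linearMap I.subtype Subtype.val_injective
          (hz.trans (map_zero _).symm)⟩⟩
  have key : ∀ g₂ : SA, g₂ ∉ Q → g₁ * g₂ ∉ Q ∧
      Module.Flat A (LocalizedModule (Submonoid.powers (g₁ * g₂)) NA) := fun g₂ hg₂ => by
    refine ⟨fun h => (‹Q.IsPrime›.mem_or_mem h).elim hg₁ hg₂, (flat_localized_iff _).2 fun I z hz => ?_⟩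
    obtain ⟨_, ⟨n, rfl⟩, hn⟩ := (flat_localized_iff _).1 hflat I z hz
    dsimp only at hn
    exact ⟨(g₁ * g₂) ^ n, ⟨n, rfl⟩, by rw [mul_pow, mul_comm, mul_smul, hn, smul_zero]⟩
  by_cases hfp : Module.FinitePresentation C (C ⊗[SA] NA)
  · haveI := hfp
    obtain ⟨g₂, hg₂, hfp₂⟩ := exists_fp_powers_of_baseChange (TensorProduct.isBaseChange SA NA C) Q x'
    refine ⟨g₁ * g₂, (key g₂ hg₂).1, (key g₂ hg₂).2, fun _ => ?_⟩
    haveI := hfp₂
    exact fp_localized_baseChange (IsBaseChange.ofEquiv (LinearEquiv.refl SA NA)) (Submonoid.powers g₂)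
      (Submonoid.powers (g₁ * g₂)) (by
        rintro _ ⟨n, rfl⟩
        exact ⟨(g₁ * g₂) ^ n, ⟨n, rfl⟩, pow_dvd_pow_of_dvd (dvd_mul_left g₂ g₁) n⟩)
  · exact ⟨g₁, hg₁, hflat, fun h => absurd h hfp⟩

/-- The residue field at a point of an étale neighbourhood is unchanged in the local ring. -/
theorem bijective_mapₐ_localRing {R R' : Type u} [CommRing R] [CommRing R'] [Algebra R R'] {p : Ideal R} [p.IsPrime]
    {p' : Ideal R'} [p'.IsPrime] (hn : FlatCA.IsEtaleNhd R R' p p') :
    ∃ h : (IsLocalRing.maximalIdeal (Localization.AtPrime p')).LiesOver p,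
      Function.Bijective (Ideal.ResidueField.mapₐ p (IsLocalRing.maximalIdeal (Localization.AtPrime p'))
        (Algebra.ofId R (Localization.AtPrime p')) h.over) := by
  obtain ⟨-, hpp, hb⟩ := hn
  haveI := hpp
  haveI : (IsLocalRing.maximalIdeal (Localization.AtPrime p')).LiesOver p' :=
    ⟨(IsLocalization.AtPrime.under_maximalIdeal (Localization.AtPrime p') p').symm⟩
  haveI h : (IsLocalRing.maximalIdeal (Localization.AtPrime p')).LiesOver p :=
    Ideal.LiesOver.trans (IsLocalRing.maximalIdeal (Localization.AtPrime p')) p' p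
  exact ⟨h, bijective_mapₐ_trans p p' _ hb
    ((RingHom.surjectiveOnStalks_of_isLocalization p'.primeCompl (Localization.AtPrime p')).residueFieldMap_bijective _ _ _)⟩

set_option maxHeartbeats 800000 in
/-- Along a fibre: neighbourhoods on which the base change is flat, and finitely presented. -/
theorem exists_flat_nhds_fibre {R S : Type u} [CommRing R] [CommRing S] [Algebra R S] [Algebra.FiniteType R S]
    (N : Type u) [AddCommGroup N] [Module S N] [Module R N] [IsScalarTower R S N] [Module.Finite S N]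
    (p : Ideal R) [p.IsPrime] (hflat : ∀ (q : Ideal S) [q.IsPrime], q.LiesOver p → FlatCA.FlatAt R q N) :
    ∃ (R' : Type u) (_ : CommRing R') (_ : Algebra R R') (p' : Ideal R') (_ : p'.IsPrime), FlatCA.IsEtaleNhd R R' p p' ∧
      ∀ (SA NA : Type u) [CommRing SA] [Algebra R SA] [Algebra S SA] [Algebra (Localization.AtPrime p') SA]
        [IsScalarTower R S SA] [IsScalarTower R (Localization.AtPrime p') SA]
        [Algebra.IsPushout R S (Localization.AtPrime p') SA]
        [AddCommGroup NA] [Module SA NA] [Module S NA] [IsScalarTower S SA NA]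
        [Module (Localization.AtPrime p') NA] [IsScalarTower (Localization.AtPrime p') SA NA]
        (f : N →ₗ[S] NA), IsBaseChange SA f →
        ∀ (Q : Ideal SA) [Q.IsPrime], Q.LiesOver (IsLocalRing.maximalIdeal (Localization.AtPrime p')) →
        ∃ g : SA, g ∉ Q ∧ Module.Flat (Localization.AtPrime p') (LocalizedModule (Submonoid.powers g) NA) ∧
          (Algebra.FinitePresentation R S →
            Module.FinitePresentation (Localization.Away g) (LocalizedModule (Submonoid.powers g) NA)) := by
  obtain ⟨R', S', _, _, _, _, _, _, _, _, p', _, hn, het', hcov, hfree, hfp⟩ := exists_free_cover N p hflat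
  obtain ⟨hm, hbm⟩ := bijective_mapₐ_localRing hn
  obtain ⟨het, -, -⟩ := id hn
  haveI := het; haveI := het'
  refine ⟨R', inferInstance, inferInstance, p', inferInstance, hn, fun SA NA _ _ _ _ _ _ _ _ _ _ _ _ _ f hf Q _ hQ => ?_⟩
  obtain ⟨C, _, _, _, tA, _, tS, hC, hfr, hfpC, hpts⟩ :=
    local_conclusion (R := R) (S' := S') p' N hfree hfp SA NA f hf
  haveI := tA; haveI := tS; haveI := hQ; haveI := hm; haveI := hC
  haveI : Q.LiesOver p := Ideal.LiesOver.trans Q (IsLocalRing.maximalIdeal (Localization.AtPrime p')) p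
  haveI hqp : (Q.comap (algebraMap S SA)).LiesOver p := ⟨by
    rw [Ideal.under_def, Ideal.comap_comap, ← IsScalarTower.algebraMap_eq]
    exact Ideal.over_def Q p⟩
  obtain ⟨q', hq', hqp', hqq⟩ := hcov (Q.comap (algebraMap S SA)) hqp
  haveI := hq'; haveI := hqp'; haveI := hqq
  obtain ⟨x', hxp, hx, hxm, -⟩ := hpts (Q.comap (algebraMap S SA)) q'
  haveI := hxp; haveI := hx; haveI := hxm
  have hQ₀ : x'.comap (algebraMap SA C) = Q := by
    haveI : (x'.comap (algebraMap SA C)).LiesOver (IsLocalRing.maximalIdeal (Localization.AtPrime p')) := ⟨by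
      rw [Ideal.under_def, Ideal.comap_comap, ← IsScalarTower.algebraMap_eq]
      exact hxm.over⟩
    refine pushout_prime_le (S := S) (p := p) hbm _ Q ?_
    rw [Ideal.under_def, Ideal.comap_comap, ← IsScalarTower.algebraMap_eq]
    exact hx.over.symm
  haveI : x'.LiesOver Q := ⟨hQ₀.symm⟩
  obtain ⟨g, hg, hfl, hfpg⟩ := exists_nhd_of_free hfr Q x'
  exact ⟨g, hg, hfl, fun hS => hfpg (hfpC hS).2⟩

set_option maxHeartbeats 1600000 in
/-- A finite type algebra flat at a point becomes flat and finitely presented near the point after passing to the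
local ring of an étale neighbourhood. -/
theorem exists_flat_fp_algebra {R S : Type u} [CommRing R] [CommRing S] [Algebra R S] [Algebra.FiniteType R S]
    (p : Ideal R) [p.IsPrime] (q : Ideal S) [q.IsPrime] [q.LiesOver p] (hflat : Module.Flat R (Localization.AtPrime q)) :
    ∃ (R' : Type u) (_ : CommRing R') (_ : Algebra R R') (p' : Ideal R') (_ : p'.IsPrime), FlatCA.IsEtaleNhd R R' p p' ∧
      ∀ (SA : Type u) [CommRing SA] [Algebra R SA] [Algebra S SA] [Algebra (Localization.AtPrime p') SA]
        [IsScalarTower R S SA] [IsScalarTower R (Localization.AtPrime p') SA]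
        [Algebra.IsPushout R S (Localization.AtPrime p') SA],
        ∃ g : SA, (∀ (Q : Ideal SA) [Q.IsPrime], Q.LiesOver q → Q.LiesOver (IsLocalRing.maximalIdeal (Localization.AtPrime p')) → g ∉ Q) ∧
          Module.Flat (Localization.AtPrime p') (Localization.Away g) ∧
          Algebra.FinitePresentation (Localization.AtPrime p') (Localization.Away g) := by
  obtain ⟨n, φ, hφ⟩ := Algebra.FiniteType.iff_quotient_mvPolynomial''.mp ‹Algebra.FiniteType R S›
  let P := MvPolynomial (Fin n) R
  letI : Algebra P S := φ.toRingHom.toAlgebra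
  haveI : IsScalarTower R P S := IsScalarTower.of_algebraMap_eq fun r => (φ.commutes r).symm
  haveI : Module.Finite P S := Module.Finite.of_surjective (Algebra.linearMap P S) hφ
  let Q₀ := q.comap (algebraMap P S)
  haveI hQ₀p : Q₀.LiesOver p := ⟨by
    rw [Ideal.under_def, Ideal.comap_comap, ← IsScalarTower.algebraMap_eq]
    exact Ideal.over_def q p⟩
  have hflatS : FlatCA.FlatAt R q S := Module.Flat.of_linearEquiv
    ((IsLocalizedModule.iso q.primeCompl (Algebra.linearMap S (Localization.AtPrime q))).restrictScalars R)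
  have hflatP : FlatCA.FlatAt R Q₀ S :=
    (flatAt_iff_of_algebra q Q₀ rfl fun J hJ => exists_mem_of_surjective hφ q J hJ).1 hflatS
  obtain ⟨R', P', _, _, _, _, _, _, _, _, p', q', _, _, hn, hn', hqp, hfree, hfp⟩ := exists_free_nhd S p Q₀ hflatP
  obtain ⟨hm, hbm⟩ := bijective_mapₐ_localRing hn
  obtain ⟨het, -, -⟩ := id hn
  obtain ⟨het', hqq, -⟩ := hn'
  haveI := het; haveI := het'; haveI := hqq; haveI := hqp; haveI := hm
  refine ⟨R', inferInstance, inferInstance, p', inferInstance, hn, fun SA _ _ _ _ _ _ _ => ?_⟩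
  let A := Localization.AtPrime p'
  letI : Algebra A (P ⊗[R] A) := Algebra.TensorProduct.rightAlgebra
  let PA := P ⊗[R] A
  haveI : Algebra.IsPushout R P A PA := inferInstance
  letI : Algebra P SA := Algebra.compHom SA (algebraMap P S)
  haveI : IsScalarTower P S SA := IsScalarTower.of_algebraMap_eq fun _ => rfl
  haveI : IsScalarTower R P SA := IsScalarTower.of_algebraMap_eq fun r => by
    show _ = algebraMap S SA (algebraMap P S (algebraMap R P r))
    rw [← IsScalarTower.algebraMap_apply R P S, ← IsScalarTower.algebraMap_apply R S SA]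
  let ψ : PA →ₐ[R] SA := Algebra.TensorProduct.lift (IsScalarTower.toAlgHom R P SA) (IsScalarTower.toAlgHom R A SA)
    fun _ _ => mul_comm _ _
  letI : Algebra PA SA := ψ.toRingHom.toAlgebra
  haveI : IsScalarTower P PA SA := IsScalarTower.of_algebraMap_eq fun x => by
    show _ = ψ (x ⊗ₜ[R] 1)
    refine Eq.trans ?_ (Algebra.TensorProduct.lift_tmul _ _ _ _ _).symm
    rw [map_one, mul_one]
    rfl
  haveI : IsScalarTower A PA SA := IsScalarTower.of_algebraMap_eq fun a => by
    show _ = ψ ((1 : P) ⊗ₜ[R] a)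
    refine Eq.trans ?_ (Algebra.TensorProduct.lift_tmul _ _ _ _ _).symm
    rw [map_one, one_mul]
    rfl
  haveI : IsScalarTower R PA SA := IsScalarTower.of_algebraMap_eq fun r => (ψ.commutes r).symm
  haveI hP : Algebra.IsPushout P S PA SA :=
    (Algebra.IsPushout.comp_iff (R := R) (S := P) (R' := A) (S' := PA) (T := S) (T' := SA)).1 inferInstance
  have hf : IsBaseChange PA (IsScalarTower.toAlgHom P S SA).toLinearMap := (Algebra.IsPushout.symm hP).out
  obtain ⟨C, _, _, _, tA, _, tS, hC, hfr, hfpC, hpts⟩ :=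
    local_conclusion (R := R) (S' := P') p' S hfree hfp PA SA (IsScalarTower.toAlgHom P S SA).toLinearMap hf
  haveI := tA; haveI := tS; haveI := hC
  obtain ⟨x', hxp, hx, hxm, -⟩ := hpts Q₀ q'
  haveI := hxp; haveI := hx; haveI := hxm
  let QA := x'.comap (algebraMap PA C)
  haveI : x'.LiesOver QA := ⟨rfl⟩
  haveI : QA.LiesOver (IsLocalRing.maximalIdeal A) := ⟨by
    rw [Ideal.under_def, Ideal.comap_comap, ← IsScalarTower.algebraMap_eq]
    exact hxm.over⟩
  obtain ⟨g₀, hg₀, hfl, hfpg⟩ := exists_nhd_of_free hfr QA x'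
  haveI := hfpg (hfpC inferInstance).2
  let g := algebraMap PA SA g₀
  refine ⟨g, fun Q _ hQq hQm hgQ => hg₀ ?_, ?_⟩
  · haveI : (Q.comap (algebraMap PA SA)).LiesOver (IsLocalRing.maximalIdeal A) := ⟨by
      rw [Ideal.under_def, Ideal.comap_comap, ← IsScalarTower.algebraMap_eq]
      exact hQm.over⟩
    have hQA : Q.comap (algebraMap PA SA) = QA := pushout_prime_le (S := P) (p := p) hbm _ QA (by
      rw [Ideal.under_def, Ideal.under_def, Ideal.comap_comap, Ideal.comap_comap, ← IsScalarTower.algebraMap_eq,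
        ← IsScalarTower.algebraMap_eq, IsScalarTower.algebraMap_eq P S SA, ← Ideal.comap_comap]
      exact (congrArg (Ideal.comap (algebraMap P S)) hQq.over.symm).trans hx.over)
    exact hQA.le hgQ
  · let L₀ := Localization.Away g₀
    let L := Localization.Away g
    have h1 : ∀ t ∈ Submonoid.powers g₀, ∃ t' ∈ Submonoid.powers g, algebraMap PA SA t ∣ t' := by
      rintro _ ⟨m, rfl⟩; exact ⟨g ^ m, ⟨m, rfl⟩, by simp [g]⟩
    have h2 : ∀ c ∈ Submonoid.powers g, ∃ t ∈ Submonoid.powers g₀, c ∣ algebraMap PA SA t := by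
      rintro _ ⟨m, rfl⟩; exact ⟨g₀ ^ m, ⟨m, rfl⟩, by simp [g]⟩
    haveI := isLocalizedModule_restrict (D := PA) (Submonoid.powers g₀) (Submonoid.powers g) h1 h2
      (Algebra.linearMap SA L)
    letI : Algebra L₀ L := (locMap (Submonoid.powers g₀) (Submonoid.powers g) h1).toAlgebra
    haveI : IsScalarTower PA L₀ L := isScalarTower_locMap _ _ h1
    let e : LocalizedModule (Submonoid.powers g₀) SA ≃ₗ[PA] L :=
      IsLocalizedModule.iso (Submonoid.powers g₀) ((Algebra.linearMap SA L).restrictScalars PA)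
    haveI := hfl
    refine ⟨Module.Flat.of_linearEquiv (e.restrictScalars A).symm, ?_⟩
    haveI : Module.FinitePresentation L₀ L :=
      Module.FinitePresentation.of_equiv (R := L₀) (M := LocalizedModule (Submonoid.powers g₀) SA) (N := L)
        (e.extendScalarsOfIsLocalization (Submonoid.powers g₀) L₀)
    haveI : Algebra.FinitePresentation L₀ L := Algebra.FinitePresentation.of_finitePresentation L₀ L
    haveI : Algebra.FinitePresentation PA L₀ := IsLocalization.Away.finitePresentation g₀
    haveI : IsScalarTower A PA L₀ := inferInstance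
    haveI : IsScalarTower A L₀ L := IsScalarTower.of_algebraMap_eq fun a => by
      rw [IsScalarTower.algebraMap_apply A PA L₀, ← IsScalarTower.algebraMap_apply PA L₀ L,
        ← IsScalarTower.algebraMap_apply A PA L]
    haveI : Algebra.FinitePresentation A PA := by
      haveI : Algebra.IsPushout R A P PA := Algebra.IsPushout.symm inferInstance
      exact Algebra.FinitePresentation.equiv (Algebra.IsPushout.equiv R A P PA)
    haveI : Algebra.FinitePresentation A L₀ := Algebra.FinitePresentation.trans A PA L₀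
    exact Algebra.FinitePresentation.trans A L₀ L

end Groth.Agent.RG29
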