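import Mathlib.RingTheory.MvPolynomial.Basic
import Mathlib.Algebra.MvPolynomial.NoZeroDivisors
import Mathlib.Algebra.MvPolynomial.Equiv
import Mathlib.Algebra.Polynomial.Monic
import Mathlib.RingTheory.Localization.FractionRing
import Mathlib.RingTheory.Ideal.Maximal
import Mathlib.RingTheory.Ideal.Quotient.Basic
import Mathlib.Data.Finsupp.Interval

/-! Absolute irreducibility of a monic polynomial spreads out. -/

set_option autoImplicit false

universe u

open MvPolynomial

namespace Groth.Agent.RG29

variable {A : Type u} [CommRing A] [IsDomain A] {n : ℕ}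

theorem coeff_le_totalDegree {L : Type u} [CommRing L] (G : Polynomial (MvPolynomial (Fin n) L)) (i : ℕ)
    (m : Fin n →₀ ℕ) (h : coeff m (G.coeff i) ≠ 0) (j : Fin n) :
    m j ≤ ((finSuccEquiv L n).symm G).totalDegree := by
  have h' : coeff (m.cons i) ((finSuccEquiv L n).symm G) ≠ 0 := by
    rw [← finSuccEquiv_coeff_coeff, AlgEquiv.apply_symm_apply]
    exact h
  refine le_trans ?_ (le_totalDegree (mem_support_iff.2 h'))
  by_cases h0 : m.cons i j.succ = 0
  · rw [Finsupp.cons_succ] at h0; omega
  · refine le_trans (le_of_eq (Finsupp.cons_succ j i m).symm) ?_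
    exact Finset.single_le_sum (f := fun x => m.cons i x) (fun _ _ => Nat.zero_le _)
      (Finsupp.mem_support_iff.2 h0)

/-- If a monic polynomial over `A[x]` stays irreducible over all fields containing `A`, it stays
irreducible at all points of a nonempty open of `Spec A`. -/
theorem exists_irreducible_spread (F : Polynomial (MvPolynomial (Fin n) A)) (hF : F.Monic)
    (hirr : ∀ (L : Type u) [Field L] (φ : A →+* L), Function.Injective φ →
      Irreducible (F.map (MvPolynomial.map φ))) :
    ∃ a : A, a ≠ 0 ∧ ∀ (L : Type u) [Field L] (φ : A →+* L), φ a ≠ 0 →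
      Irreducible (F.map (MvPolynomial.map φ)) := by
  classical
  set d := F.natDegree
  have hd : d ≠ 0 := by
    intro hd0
    have h1 : F = 1 := hF.natDegree_eq_zero.1 hd0
    have := hirr (FractionRing A) (algebraMap A _) (IsFractionRing.injective A _)
    rw [h1, Polynomial.map_one] at this
    exact not_irreducible_one this
  set D := ((finSuccEquiv A n).symm F).totalDegree
  let S : Finset (Fin n →₀ ℕ) := Finset.Iic (Finsupp.equivFunOnFinite.symm fun _ => D)
  let σ := Bool × Fin d × S
  let U := MvPolynomial σ A
  let Gu : ℕ → Bool → Polynomial (MvPolynomial (Fin n) U) := fun e b =>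
    Polynomial.X ^ e + ∑ i : Fin d, if (i : ℕ) < e then
      Polynomial.C (∑ m : S, monomial (m : Fin n →₀ ℕ) (X (b, i, m) : U)) * Polynomial.X ^ (i : ℕ) else 0
  let J : ℕ → Ideal U := fun e => Ideal.span (Set.range fun x : ℕ × (Fin n →₀ ℕ) =>
    coeff x.2 ((Gu e true * Gu (d - e) false - F.map (MvPolynomial.map MvPolynomial.C)).coeff x.1))
  -- a factorisation gives a zero of `J e`
  have key : ∀ (L : Type u) [Field L] (φ : A →+* L) (G H : Polynomial (MvPolynomial (Fin n) L)),
      G.Monic → H.Monic → G * H = F.map (MvPolynomial.map φ) →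
      J G.natDegree ≤ RingHom.ker (eval₂Hom φ fun t : σ =>
        coeff (t.2.2 : Fin n →₀ ℕ) ((if t.1 then G else H).coeff t.2.1)) := by
    intro L _ φ G H hG hH hGH
    set ψ := eval₂Hom φ fun t : σ => coeff (t.2.2 : Fin n →₀ ℕ) ((if t.1 then G else H).coeff t.2.1)
    have hdeg : G.natDegree + H.natDegree = d := by
      rw [← hG.natDegree_mul hH, hGH, hF.natDegree_map]
    have hsplit : ((finSuccEquiv L n).symm G).totalDegree + ((finSuccEquiv L n).symm H).totalDegree ≤ D := by
      rw [← totalDegree_mul_of_isDomain (by simpa using hG.ne_zero) (by simpa using hH.ne_zero), ← map_mul, hGH]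
      refine Finset.sup_le fun m hm => le_totalDegree (p := (finSuccEquiv A n).symm F) ?_
      have e : ∀ (R : Type u) [CommRing R] (P : Polynomial (MvPolynomial (Fin n) R)),
          coeff m ((finSuccEquiv R n).symm P) = coeff m.tail (P.coeff (m 0)) := fun R _ P => by
        rw [← AlgEquiv.apply_symm_apply (finSuccEquiv R n) P, finSuccEquiv_coeff_coeff,
          AlgEquiv.apply_symm_apply, Finsupp.cons_tail]
      rw [mem_support_iff, e] at hm ⊢
      intro h0
      exact hm (by rw [Polynomial.coeff_map, MvPolynomial.coeff_map, h0, map_zero])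
    have hGu : ∀ (b : Bool), (if b then G else H).natDegree ≤ d →
        (Gu (if b then G else H).natDegree b).map (MvPolynomial.map ψ) = (if b then G else H) := by
      intro b hbd
      set P := if b then G else H with hP
      have hmon : P.Monic := by rw [hP]; split_ifs <;> assumption
      have hPD : ((finSuccEquiv L n).symm P).totalDegree ≤ D := by rw [hP]; split_ifs <;> omega
      ext1 i
      simp only [Gu, Polynomial.map_add, Polynomial.map_pow, Polynomial.map_X, Polynomial.map_sum,
        Polynomial.coeff_add, Polynomial.coeff_X_pow, Polynomial.finsetSum_coeff]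
      have hterm : ∀ x : Fin d, ((if (x : ℕ) < P.natDegree then Polynomial.C (∑ m : S, monomial (m : Fin n →₀ ℕ)
            (X (b, x, m) : U)) * Polynomial.X ^ (x : ℕ) else 0 : Polynomial (MvPolynomial (Fin n) U)).map
              (MvPolynomial.map ψ)).coeff i =
          if (x : ℕ) = i ∧ i < P.natDegree then P.coeff i else 0 := by
        intro x
        split_ifs with h1 h2 h2
        · rw [Polynomial.map_mul, Polynomial.map_C, Polynomial.map_pow, Polynomial.map_X,
            Polynomial.coeff_C_mul_X_pow, if_pos h2.1.symm, map_sum]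
          ext1 m
          rw [coeff_sum]
          have hval : ∀ m' : S, ψ (X (b, x, m')) = coeff (m' : Fin n →₀ ℕ) (P.coeff i) := fun m' => by
            simp [ψ, hP, h2.1]
          simp only [MvPolynomial.map_monomial, hval, coeff_monomial]
          by_cases hm : m ∈ S
          · rw [Finset.sum_eq_single ⟨m, hm⟩ (fun m' _ hne => if_neg fun h => hne (Subtype.ext h))
              (fun h => absurd (Finset.mem_univ _) h), if_pos rfl]
          · rw [Finset.sum_eq_zero fun (m' : S) _ => if_neg fun (h : (m' : Fin n →₀ ℕ) = m) => hm (h ▸ m'.2)]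
            by_contra hne
            exact hm (Finset.mem_Iic.2 fun j => (coeff_le_totalDegree P i m (Ne.symm hne) j).trans hPD)
        · rw [Polynomial.map_mul, Polynomial.map_C, Polynomial.map_pow, Polynomial.map_X,
            Polynomial.coeff_C_mul_X_pow, if_neg fun (h : i = (x : ℕ)) => h2 ⟨h.symm, h ▸ h1⟩]
        · exact absurd (h2.1 ▸ h2.2) h1
        · rw [Polynomial.map_zero, Polynomial.coeff_zero]
      rw [Finset.sum_congr rfl fun x _ => hterm x]
      rcases lt_trichotomy i P.natDegree with h | rfl | h
      · rw [if_neg h.ne, zero_add, Finset.sum_eq_single ⟨i, h.trans_le hbd⟩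
          (fun x _ hne => if_neg fun hx => hne (Fin.ext hx.1)) (fun hh => absurd (Finset.mem_univ _) hh),
          if_pos ⟨rfl, h⟩]
      · rw [if_pos rfl, Finset.sum_eq_zero fun x _ => if_neg fun hx => lt_irrefl _ hx.2, add_zero,
          hmon.coeff_natDegree]
      · rw [if_neg h.ne', Finset.sum_eq_zero fun x _ => if_neg fun hx => absurd hx.2 (not_lt.2 h.le), zero_add,
          Polynomial.coeff_eq_zero_of_natDegree_lt h]
    have h0 : (Gu G.natDegree true * Gu (d - G.natDegree) false - F.map (MvPolynomial.map MvPolynomial.C)).map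
        (MvPolynomial.map ψ) = 0 := by
      rw [Polynomial.map_sub, Polynomial.map_mul, Polynomial.map_map]
      have h1 := hGu true (by simp only [↓reduceIte]; omega)
      have h2 := hGu false (by simp only [Bool.false_eq_true, ↓reduceIte]; omega)
      simp only [↓reduceIte, Bool.false_eq_true] at h1 h2
      rw [show d - G.natDegree = H.natDegree by omega, h1, h2, hGH,
        show (MvPolynomial.map ψ).comp (MvPolynomial.map MvPolynomial.C) = MvPolynomial.map (σ := Fin n) φ from
          MvPolynomial.ringHom_ext (fun r => by simp [ψ]) (fun i => by simp), sub_self]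
    rw [Ideal.span_le]
    rintro _ ⟨⟨i, m⟩, rfl⟩
    have := congrArg (fun P => coeff m (Polynomial.coeff P i)) h0
    simp only [Polynomial.coeff_map, MvPolynomial.coeff_map, Polynomial.coeff_zero, coeff_zero] at this
    exact this
  have hmeet : ∀ e : ℕ, 0 < e → e < d → ∃ a : A, a ≠ 0 ∧ MvPolynomial.C a ∈ J e := by
    intro e he hed
    by_contra! hnone
    let M : Submonoid U := (nonZeroDivisors A).map (MvPolynomial.C : A →+* U)
    have hdisj : Disjoint (J e : Set U) (M : Set U) := by
      rw [Set.disjoint_left]
      rintro x hx ⟨a, ha, rfl⟩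
      exact hnone a (nonZeroDivisors.ne_zero ha) hx
    obtain ⟨P, hPprime, hJP, hPM⟩ := Ideal.exists_le_prime_disjoint (J e) M hdisj
    let L := FractionRing (U ⧸ P)
    let ψ : U →+* L := (algebraMap (U ⧸ P) L).comp (Ideal.Quotient.mk P)
    let φ : A →+* L := ψ.comp MvPolynomial.C
    have hφ : Function.Injective φ := by
      rw [injective_iff_map_eq_zero]
      intro a ha
      by_contra ha0
      have : MvPolynomial.C a ∈ P :=
        Ideal.Quotient.eq_zero_iff_mem.1 (IsFractionRing.injective (U ⧸ P) L (ha.trans (map_zero _).symm))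
      exact Set.disjoint_left.1 hPM this ⟨a, mem_nonZeroDivisors_of_ne_zero ha0, rfl⟩
    have h0 : (Gu e true * Gu (d - e) false - F.map (MvPolynomial.map MvPolynomial.C)).map
        (MvPolynomial.map ψ) = 0 := by
      ext i m
      rw [Polynomial.coeff_map, MvPolynomial.coeff_map, Polynomial.coeff_zero, coeff_zero]
      show algebraMap _ L (Ideal.Quotient.mk P _) = 0
      rw [Ideal.Quotient.eq_zero_iff_mem.2 (hJP (Ideal.subset_span (Set.mem_range_self (i, m)))), map_zero]
    rw [Polynomial.map_sub, Polynomial.map_mul, Polynomial.map_map,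
      show (MvPolynomial.map ψ).comp (MvPolynomial.map MvPolynomial.C) = MvPolynomial.map (σ := Fin n) φ from
        MvPolynomial.ringHom_ext (fun r => by simp [φ]) (fun i => by simp)] at h0
    replace h0 := (sub_eq_zero (G := Polynomial (MvPolynomial (Fin n) L))).1 h0
    have hmon : ∀ e b, e ≤ d → (Gu e b).Monic ∧ (Gu e b).natDegree = e := by
      intro e b _
      have hlt : (∑ i : Fin d, if (i : ℕ) < e then
          Polynomial.C (∑ m : S, monomial (m : Fin n →₀ ℕ) (X (b, i, m) : U)) * Polynomial.X ^ (i : ℕ) else 0 :
            Polynomial (MvPolynomial (Fin n) U)).degree < e := by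
        refine (Polynomial.degree_sum_le _ _).trans_lt ((Finset.sup_lt_iff (WithBot.bot_lt_coe _)).2 fun i _ => ?_)
        split_ifs with h
        · exact (Polynomial.degree_C_mul_X_pow_le _ _).trans_lt (Nat.cast_lt.2 h)
        · rw [Polynomial.degree_zero]; exact WithBot.bot_lt_coe _
      refine ⟨Polynomial.monic_X_pow_add hlt, ?_⟩
      exact Polynomial.natDegree_eq_of_degree_eq_some (by
        rw [Polynomial.degree_add_eq_left_of_degree_lt (by rwa [Polynomial.degree_X_pow]), Polynomial.degree_X_pow])
    obtain ⟨hm1, hd1⟩ := hmon e true hed.le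
    obtain ⟨hm2, hd2⟩ := hmon (d - e) false (Nat.sub_le _ _)
    rcases ((hF.map _).irreducible_iff_natDegree.1 (hirr L φ hφ)).2 _ _ (hm1.map _) (hm2.map _) h0 with h | h
    · rw [hm1.natDegree_map, hd1] at h; omega
    · rw [hm2.natDegree_map, hd2] at h; omega
  choose a ha0 haJ using hmeet
  refine ⟨∏ e : Fin d, if h : 0 < (e : ℕ) then a e h e.2 else 1, Finset.prod_ne_zero_iff.2 fun e _ => ?_,
    fun L _ φ hφ => ?_⟩
  · split_ifs with h
    · exact ha0 _ _ _
    · exact one_ne_zero
  refine (hF.map _).irreducible_iff_natDegree.2 ⟨fun h1 => hd ?_, fun G H hG hH hGH => ?_⟩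
  · show F.natDegree = 0
    rw [← hF.natDegree_map (MvPolynomial.map (σ := Fin n) φ), h1, Polynomial.natDegree_one]
  · by_contra! hne
    have hdeg : G.natDegree + H.natDegree = d := by
      rw [← hG.natDegree_mul hH, hGH, hF.natDegree_map]
    have he : G.natDegree < d := by omega
    refine hφ ?_
    rw [map_prod]
    refine Finset.prod_eq_zero (Finset.mem_univ ⟨G.natDegree, he⟩) ?_
    rw [dif_pos (Nat.pos_of_ne_zero hne.1)]
    have := key L φ G H hG hH hGH (haJ G.natDegree (Nat.pos_of_ne_zero hne.1) he)
    rw [RingHom.mem_ker, eval₂Hom_C] at this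
    exact this

end Groth.Agent.RG29
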