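import Groth.Agent.RG29.LocalFree
import Groth.Agent.RG29.DevFlatProj
import Groth.Agent.FlatCrit65.FlatLocus.Module
import Mathlib

/-!
Finitely presented modules flat along a fibre become projective after étale localization on base and source.
-/

set_option autoImplicit false

universe u

open TensorProduct

namespace Groth.Agent.RG29

/-- An open set containing a fibre contains a basic open containing it. -/
theorem exists_basicOpen_fibre {R S : Type u} [CommRing R] [CommRing S] [Algebra R S] (p : Ideal R) [p.IsPrime]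
    {U : Set (PrimeSpectrum S)} (hU : IsOpen U)
    (h : ∀ q : PrimeSpectrum S, q.asIdeal.LiesOver p → q ∈ U) :
    ∃ g : S, (∀ q : PrimeSpectrum S, q.asIdeal.LiesOver p → g ∉ q.asIdeal) ∧
      (PrimeSpectrum.basicOpen g : Set (PrimeSpectrum S)) ⊆ U := by
  obtain ⟨I, hI⟩ := (PrimeSpectrum.isClosed_iff_zeroLocus_ideal _).1 hU.isClosed_compl
  let ι : S →ₐ[R] p.Fiber S := Algebra.TensorProduct.includeRight
  have htop : Ideal.map ι.toRingHom I = ⊤ := by
    by_contra hne
    obtain ⟨m, hm, hle⟩ := Ideal.exists_le_maximal _ hne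
    haveI := hm.isPrime
    let x : PrimeSpectrum (p.Fiber S) := ⟨m, inferInstance⟩
    obtain ⟨-, hov⟩ := ((PrimeSpectrum.primesOverOrderIsoFiber R S p).symm x).2
    have hmem : PrimeSpectrum.comap ι.toRingHom x ∈ Uᶜ := by
      rw [hI]
      exact (PrimeSpectrum.mem_zeroLocus _ _).2 (Ideal.map_le_iff_le_comap.1 hle)
    exact hmem (h _ hov)
  have hgen : ∀ w ∈ Ideal.map ι.toRingHom I, ∃ c : R, c ∉ p ∧ ∃ a ∈ I, c • w = ι a := by
    intro w hw
    rw [Ideal.map] at hw
    induction hw using Submodule.span_induction with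
    | mem w hw =>
      obtain ⟨a, ha, rfl⟩ := hw
      exact ⟨1, fun h1 => Ideal.IsPrime.ne_top ‹_› (p.eq_top_iff_one.2 h1), a, ha, one_smul _ _⟩
    | zero => exact ⟨1, fun h1 => Ideal.IsPrime.ne_top ‹_› (p.eq_top_iff_one.2 h1), 0, I.zero_mem, by simp⟩
    | add u v _ _ hu hv =>
      obtain ⟨c, hc, a, ha, hca⟩ := hu
      obtain ⟨d, hd, b, hb, hdb⟩ := hv
      refine ⟨c * d, fun h1 => (‹p.IsPrime›.mem_or_mem h1).elim hc hd, d • a + c • b,
        I.add_mem (I.smul_of_tower_mem d ha) (I.smul_of_tower_mem c hb), ?_⟩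
      rw [map_add ι, map_smul, map_smul, ← hca, ← hdb, smul_add, smul_smul, smul_smul, mul_comm d c]
    | smul v w _ hw =>
      obtain ⟨c, hc, a, ha, hca⟩ := hw
      obtain ⟨s, b, hs⟩ : ∃ (s : R) (b : S), s ∉ p ∧ s • v = ι b := by
        induction v using TensorProduct.induction_on with
        | zero => exact ⟨1, 0, fun h1 => Ideal.IsPrime.ne_top ‹_› (p.eq_top_iff_one.2 h1), by simp⟩
        | tmul x b =>
          obtain ⟨x, y, hy, rfl⟩ := IsFractionRing.div_surjective (A := R ⧸ p) x
          obtain ⟨x, rfl⟩ := Ideal.Quotient.mk_surjective x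
          obtain ⟨y, rfl⟩ := Ideal.Quotient.mk_surjective y
          have hy' : y ∉ p := fun h1 => nonZeroDivisors.ne_zero hy (Ideal.Quotient.eq_zero_iff_mem.2 h1)
          refine ⟨y, x • b, hy', ?_⟩
          rw [Ideal.algebraMap_quotient_residueField_mk, Ideal.algebraMap_quotient_residueField_mk,
            TensorProduct.smul_tmul', Algebra.smul_def, mul_div_cancel₀]
          · rw [Algebra.algebraMap_eq_smul_one, TensorProduct.smul_tmul]
            rfl
          · rwa [ne_eq, Ideal.algebraMap_residueField_eq_zero]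
        | add u u' hu hu' =>
          obtain ⟨s, b, hs, h1⟩ := hu
          obtain ⟨s', b', hs', h2⟩ := hu'
          refine ⟨s * s', s' • b + s • b', fun h3 => (‹p.IsPrime›.mem_or_mem h3).elim hs hs', ?_⟩
          rw [map_add ι, map_smul, map_smul, ← h1, ← h2, smul_add, smul_smul, smul_smul, mul_comm s' s]
      refine ⟨s * c, fun h1 => (‹p.IsPrime›.mem_or_mem h1).elim hs.1 hc, b * a, I.mul_mem_left b ha, ?_⟩
      rw [smul_eq_mul, map_mul, ← hs.2, ← hca, smul_mul_smul_comm]
  obtain ⟨c, hc, g, hgI, hcg⟩ := hgen 1 (htop ▸ trivial)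
  refine ⟨g, fun q hq hgq => ?_, fun q hq => ?_⟩
  · haveI := hq
    obtain ⟨x, -, hx⟩ := exists_fiber_point p q.asIdeal
    have h1 : ι g ∈ x.asIdeal := hx.ge hgq
    rw [← hcg, Algebra.smul_def, mul_one] at h1
    refine hc ((SetLike.ext_iff.1 hq.over c).2 ?_)
    show algebraMap R S c ∈ q.asIdeal
    rw [← hx]
    show ι (algebraMap R S c) ∈ x.asIdeal
    rwa [AlgHom.commutes]
  · by_contra hqU
    exact hq ((PrimeSpectrum.mem_zeroLocus _ _).1 (hI ▸ hqU : q ∈ PrimeSpectrum.zeroLocus (I : Set S)) hgI)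

/-- Projectivity after inverting an element passes to multiples. -/
theorem projective_away_of_dvd {R : Type u} [CommRing R] {M : Type u} [AddCommGroup M] [Module R M] {f g : R}
    (hfg : f ∣ g) [Module.Projective (Localization.Away f) (Localization.Away f ⊗[R] M)] :
    Module.Projective (Localization.Away g) (Localization.Away g ⊗[R] M) := by
  letI : Algebra (Localization.Away f) (Localization.Away g) :=
    (IsLocalization.Away.lift f (g := algebraMap R (Localization.Away g))
      (IsLocalization.Away.isUnit_of_dvd (x := g) hfg)).toAlgebra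
  haveI : IsScalarTower R (Localization.Away f) (Localization.Away g) :=
    IsScalarTower.of_algebraMap_eq fun r => (IsLocalization.Away.lift_eq f _ r).symm
  exact Module.Projective.of_equiv
    (TensorProduct.AlgebraTensorModule.cancelBaseChange R (Localization.Away f) (Localization.Away g)
      (Localization.Away g) M)

/-- Flatness on a basic open from flatness at its points. -/
theorem flat_away_of_forall {R S : Type u} [CommRing R] [CommRing S] [Algebra R S] (N : Type u) [AddCommGroup N]
    [Module S N] [Module R N] [IsScalarTower R S N] (g₀ : S)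
    (h : ∀ q : PrimeSpectrum S, g₀ ∉ q.asIdeal → Module.Flat R (LocalizedModule q.asIdeal.primeCompl N)) :
    Module.Flat R (Localization.Away g₀ ⊗[S] N) := by
  haveI hfl : Module.Flat R (LocalizedModule (Submonoid.powers g₀) N) := (flat_localized_iff _).2 fun I z hz => by
    suffices hrad : g₀ ∈ Ideal.radical (LinearMap.ker (LinearMap.toSpanSingleton S (N ⊗[R] I) z)) by
      obtain ⟨m, hm⟩ := hrad
      exact ⟨g₀ ^ m, ⟨m, rfl⟩, hm⟩
    rw [Ideal.radical_eq_sInf, Ideal.mem_sInf]
    rintro Q ⟨hJQ, hQ⟩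
    by_contra hgQ
    haveI := hQ
    obtain ⟨s, hs, hsz⟩ := (flat_localized_iff _).1 (h ⟨Q, hQ⟩ hgQ) I z hz
    exact hs (hJQ (show s ∈ LinearMap.ker _ by rw [LinearMap.mem_ker, LinearMap.toSpanSingleton_apply, hsz]))
  exact Module.Flat.of_linearEquiv
    (((LocalizedModule.equivTensorProduct (Submonoid.powers g₀) N).restrictScalars R).symm)

set_option maxHeartbeats 800000 in
/-- Flat charts with complete dévissages covering a fibre. -/
theorem exists_flat_devissage_cover {R S : Type u} [CommRing R] [CommRing S] [Algebra R S] [Algebra.FinitePresentation R S]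
    (N : Type u) [AddCommGroup N] [Module S N] [Module R N] [IsScalarTower R S N] [Module.FinitePresentation S N]
    [Module.Flat R N] (p : Ideal R) [p.IsPrime] :
    ∃ (R' : Type u) (_ : CommRing R') (_ : Algebra R R') (p' : Ideal R') (_ : p'.IsPrime), FlatCA.IsEtaleNhd R R' p p' ∧
      ∃ (k : ℕ) (C : Fin k → Type u) (_ : ∀ i, CommRing (C i)) (_ : ∀ i, Algebra S (C i)) (_ : ∀ i, Algebra R' (C i))
        (_ : ∀ i, Algebra R (C i)) (_ : ∀ i, IsScalarTower R R' (C i)) (_ : ∀ i, IsScalarTower R S (C i))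
        (Nc : Fin k → Type u) (_ : ∀ i, AddCommGroup (Nc i)) (_ : ∀ i, Module (C i) (Nc i)) (_ : ∀ i, Module S (Nc i))
        (_ : ∀ i, IsScalarTower S (C i) (Nc i)) (gc : ∀ i, N →ₗ[S] Nc i),
        (∀ i, Algebra.Etale S (C i) ∧ IsBaseChange (C i) (gc i) ∧ Nonempty (FlatCA.CompleteDevissage R' (C i) (Nc i) p')) ∧
        ∀ (q : Ideal S) [q.IsPrime], q.LiesOver p → ∃ (i : Fin k) (Q' : Ideal (C i)), Q'.IsPrime ∧ Q'.LiesOver p' ∧
          Q'.comap (algebraMap S (C i)) = q := by
  obtain ⟨R', _, _, p', _, hn, hall⟩ := exists_etale_cover (A := R) (B := S) N p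
  obtain ⟨het, hpp, hbp⟩ := hn
  haveI := het; haveI := hpp
  letI : Algebra R' (S ⊗[R] R') := Algebra.TensorProduct.rightAlgebra
  let BA := S ⊗[R] R'
  haveI : Algebra.IsPushout R S R' BA := inferInstance
  obtain ⟨k, C, _, _, _, _, Nc, _, _, _, _, g, hmain, hcov⟩ :=
    hall BA (BA ⊗[S] N) (TensorProduct.mk S BA N 1) (TensorProduct.isBaseChange S N BA)
  haveI := fun i => (hmain i).1
  letI : ∀ i, Algebra S (C i) := fun i => ((algebraMap BA (C i)).comp (algebraMap S BA)).toAlgebra
  haveI : ∀ i, IsScalarTower S BA (C i) := fun i => IsScalarTower.of_algebraMap_eq fun _ => rfl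
  letI : ∀ i, Algebra R (C i) := fun i => ((algebraMap R' (C i)).comp (algebraMap R R')).toAlgebra
  haveI hRR : ∀ i, IsScalarTower R R' (C i) := fun i => IsScalarTower.of_algebraMap_eq fun _ => rfl
  haveI hRS : ∀ i, IsScalarTower R S (C i) := fun i => IsScalarTower.of_algebraMap_eq fun x => by
    show algebraMap R' (C i) (algebraMap R R' x) = algebraMap BA (C i) (algebraMap S BA (algebraMap R S x))
    rw [IsScalarTower.algebraMap_apply R' BA (C i), ← IsScalarTower.algebraMap_apply R S BA,
      ← IsScalarTower.algebraMap_apply R R' BA]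
  haveI : Algebra.Etale S BA := inferInstance
  haveI : ∀ i, Algebra.Etale S (C i) := fun i => Algebra.Etale.comp S BA (C i)
  letI : ∀ i, Module S (Nc i) := fun i => Module.compHom (Nc i) (algebraMap S BA)
  haveI : ∀ i, IsScalarTower S BA (Nc i) := fun i => IsScalarTower.of_algebraMap_smul fun _ _ => rfl
  haveI hSC : ∀ i, IsScalarTower S (C i) (Nc i) := fun i => IsScalarTower.of_algebraMap_smul fun c m => by
    show algebraMap BA (C i) (algebraMap S BA c) • m = algebraMap S BA c • m
    rw [algebraMap_smul]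
  refine ⟨R', inferInstance, inferInstance, p', inferInstance, ⟨het, hpp, hbp⟩, k, C, inferInstance, inferInstance,
    inferInstance, inferInstance, hRR, hRS, Nc, inferInstance, inferInstance, inferInstance, hSC,
    fun i => (g i).restrictScalars S ∘ₗ TensorProduct.mk S BA N 1,
    fun i => ⟨inferInstance, IsBaseChange.comp (TensorProduct.isBaseChange S N BA) (hmain i).2.1, (hmain i).2.2⟩,
    fun q _ hq => ?_⟩
  haveI := hq
  obtain ⟨Q, hQp, hQo, hQq⟩ := pushout_exists_prime (S := S) (R' := R') (S' := BA) hbp q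
  haveI := hQp
  obtain ⟨i, Q', hQ', hQQ⟩ := hcov Q hQo
  haveI := hQ'
  refine ⟨i, Q', hQ', ⟨?_⟩, ?_⟩
  · rw [Ideal.under_def, IsScalarTower.algebraMap_eq R' BA (C i), ← Ideal.comap_comap, hQQ]
    exact hQo.over
  · rw [IsScalarTower.algebraMap_eq S BA (C i), ← Ideal.comap_comap, hQQ]
    exact hQq.over.symm

/-- A chart becomes projective after inverting one element. -/
theorem chart_projective_away {R S R' C : Type u} [CommRing R] [CommRing S] [CommRing R'] [CommRing C] [Algebra R S]
    [Algebra.FinitePresentation R S] [Algebra R R'] [Algebra.Etale R R'] [Algebra S C] [Algebra.Etale S C]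
    [Algebra R' C] [Algebra R C] [IsScalarTower R R' C] [IsScalarTower R S C]
    (N : Type u) [AddCommGroup N] [Module S N] [Module R N] [IsScalarTower R S N] [Module.FinitePresentation S N]
    [Module.Flat R N] {Nc : Type u} [AddCommGroup Nc] [Module C Nc] [Module S Nc] [IsScalarTower S C Nc]
    [Module R' Nc] [IsScalarTower R' C Nc] {gc : N →ₗ[S] Nc} (hbc : IsBaseChange C gc) (p' : Ideal R') [p'.IsPrime]
    (h : Nonempty (FlatCA.CompleteDevissage R' C Nc p')) :
    ∃ f : R', f ∉ p' ∧ Module.Projective (Localization.Away f) (Localization.Away f ⊗[R'] Nc) := by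
  haveI : Algebra.FinitePresentation R C := Algebra.FinitePresentation.trans R S C
  haveI : Algebra.FinitePresentation R' C := Algebra.FinitePresentation.of_restrict_scalars_finitePresentation R R' C
  letI : Module R Nc := Module.compHom Nc (algebraMap R R')
  haveI : IsScalarTower R R' Nc := IsScalarTower.of_algebraMap_smul fun _ _ => rfl
  haveI : IsScalarTower R C Nc := IsScalarTower.of_algebraMap_smul fun c m => by
    rw [IsScalarTower.algebraMap_apply R R' C, algebraMap_smul, algebraMap_smul]
  haveI : Module.FinitePresentation C Nc := FinitePresentation.of_isBaseChange gc hbc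
  haveI : Module.Flat R (C ⊗[S] N) := FlatCrit65.flat_tensor_of_flat (R' := R) (T := S) C N
  haveI : Module.Flat R Nc := Module.Flat.of_linearEquiv (hbc.equiv.restrictScalars R).symm
  haveI : Module.Flat R' Nc := Hensel20.flat_of_formallyUnramified R R' Nc
  obtain ⟨D⟩ := h
  obtain ⟨f, hf, hp, -⟩ := exists_projective_localization Nc p' D
  exact ⟨f, hf, Module.Projective.of_equiv (LocalizedModule.equivTensorProduct (Submonoid.powers f) Nc)⟩

/-- The projective module of a chart as a base change of the original module. -/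
theorem chart_projective_baseChange {S R' C R'' : Type u} [CommRing S] [CommRing R'] [CommRing C] [CommRing R'']
    [Algebra S C] [Algebra R' C] [Algebra R' R''] (N : Type u) [AddCommGroup N] [Module S N]
    {Nc : Type u} [AddCommGroup Nc] [Module C Nc] [Module S Nc] [IsScalarTower S C Nc]
    [Module R' Nc] [IsScalarTower R' C Nc] {gc : N →ₗ[S] Nc} (hbc : IsBaseChange C gc)
    [Module.Projective R'' (R'' ⊗[R'] Nc)] :
    letI : Algebra R'' (C ⊗[R'] R'') := Algebra.TensorProduct.rightAlgebra
    Module.Projective R'' ((C ⊗[R'] R'') ⊗[S] N) := by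
  letI : Algebra R'' (C ⊗[R'] R'') := Algebra.TensorProduct.rightAlgebra
  have h := IsBaseChange.comp hbc (TensorProduct.isBaseChange C Nc (C ⊗[R'] R''))
  exact Module.Projective.of_equiv
    ((h.equiv.restrictScalars R'').trans (Algebra.IsPushout.cancelBaseChange R' R'' C (C ⊗[R'] R'') Nc)).symm

/-- Products of projective charts. -/
theorem projective_restrictScalars_pi {S R'' : Type u} [CommRing S] [CommRing R''] {k : ℕ} (C : Fin k → Type u)
    [∀ i, CommRing (C i)] [∀ i, Algebra S (C i)] [∀ i, Algebra R'' (C i)] (N : Type u) [AddCommGroup N] [Module S N]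
    [∀ i, Module.Projective R'' (C i ⊗[S] N)] :
    Module.Projective R'' (RestrictScalars R'' (∀ i, C i) ((∀ i, C i) ⊗[S] N)) := by
  classical
  haveI : Module.Projective R'' (∀ i, C i ⊗[S] N) :=
    Module.Projective.of_equiv (DFinsupp.linearEquivFunOnFintype (R := R'') (M := fun i => C i ⊗[S] N))
  let eS : (∀ i, C i) ⊗[S] N ≃ₗ[R''] ∀ i, C i ⊗[S] N :=
    { TensorProduct.piLeft S N C with
      map_smul' := fun c z => by
        show TensorProduct.piLeft S N C (c • z) = c • TensorProduct.piLeft S N C z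
        induction z using TensorProduct.induction_on with
        | zero => simp
        | tmul s n => funext i; simp [TensorProduct.piLeft, TensorProduct.smul_tmul']
        | add a b ha hb => simp only [smul_add, map_add, ha, hb] }
  let e : (∀ i, C i) ⊗[S] N ≃ₗ[R''] RestrictScalars R'' (∀ i, C i) ((∀ i, C i) ⊗[S] N) :=
    { (RestrictScalars.addEquiv R'' (∀ i, C i) ((∀ i, C i) ⊗[S] N)).symm with
      map_smul' := fun c z => by
        show (RestrictScalars.addEquiv R'' (∀ i, C i) ((∀ i, C i) ⊗[S] N)).symm (c • z) =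
          c • (RestrictScalars.addEquiv R'' (∀ i, C i) ((∀ i, C i) ⊗[S] N)).symm z
        rw [← algebraMap_smul (∀ i, C i) c z]
        exact RestrictScalars.addEquiv_symm_map_algebraMap_smul R'' (∀ i, C i) ((∀ i, C i) ⊗[S] N) c z }
  exact Module.Projective.of_equiv (eS.symm.trans e)

set_option maxHeartbeats 800000 in
/-- Projectivity after étale localization along the fibre, for a flat module. -/
theorem exists_projective_cover_of_flat {R S : Type u} [CommRing R] [CommRing S] [Algebra R S] [Algebra.FinitePresentation R S]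
    (N : Type u) [AddCommGroup N] [Module S N] [Module R N] [IsScalarTower R S N] [Module.FinitePresentation S N]
    [Module.Flat R N] (p : Ideal R) [p.IsPrime] :
    ∃ (R' S' : Type u) (_ : CommRing R') (_ : CommRing S') (_ : Algebra R R') (_ : Algebra S S') (_ : Algebra R' S')
      (_ : Algebra R S') (_ : IsScalarTower R R' S') (_ : IsScalarTower R S S')
      (p' : Ideal R') (_ : p'.IsPrime),
      FlatCA.IsEtaleNhd R R' p p' ∧ Algebra.Etale S S' ∧
      (∀ (q : Ideal S) [q.IsPrime], q.LiesOver p → ∃ q' : Ideal S', q'.IsPrime ∧ q'.comap (algebraMap S S') = q) ∧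
      Module.Projective R' (RestrictScalars R' S' (S' ⊗[S] N)) := by
  classical
  obtain ⟨R', _, _, p', _, hn, k, C, _, _, _, _, hRR, hRS, Nc, _, _, _, hSC, gc, hmain, hcov⟩ :=
    exists_flat_devissage_cover (R := R) (S := S) N p
  obtain ⟨het, hpp, hbp⟩ := hn
  haveI := het; haveI := hpp
  haveI := fun i => (hmain i).1
  letI : ∀ i, Module R' (Nc i) := fun i => Module.compHom (Nc i) (algebraMap R' (C i))
  haveI : ∀ i, IsScalarTower R' (C i) (Nc i) := fun i => IsScalarTower.of_algebraMap_smul fun _ _ => rfl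
  choose fi hfi hpi using fun i => chart_projective_away (R := R) N (hmain i).2.1 p' (hmain i).2.2
  let f := ∏ i, fi i
  have hf : f ∉ p' := fun h => by
    obtain ⟨i, -, hi⟩ := (‹p'.IsPrime›.prod_mem_iff).1 h
    exact hfi i hi
  let R'' := Localization.Away f
  haveI : ∀ i, Module.Projective R'' (R'' ⊗[R'] Nc i) := fun i => by
    haveI := hpi i
    exact projective_away_of_dvd (Finset.dvd_prod_of_mem fi (Finset.mem_univ i))
  have hd : Disjoint (Submonoid.powers f : Set R') (p' : Set R') :=
    (Ideal.disjoint_powers_iff_notMem_of_isPrime _).2 hf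
  let p'' : Ideal R'' := p'.map (algebraMap R' R'')
  haveI : p''.IsPrime := IsLocalization.isPrime_of_isPrime_disjoint (Submonoid.powers f) R'' p' ‹_› hd
  haveI hpp' : p''.LiesOver p' :=
    ⟨(IsLocalization.under_map_of_isPrime_disjoint (Submonoid.powers f) R'' ‹p'.IsPrime› hd).symm⟩
  haveI : Algebra.Etale R' R'' := Algebra.Etale.of_isLocalizationAway f
  have hb'' := (RingHom.surjectiveOnStalks_of_isLocalization (Submonoid.powers f) R'').residueFieldMap_bijective
  have hn'' : FlatCA.IsEtaleNhd R R'' p p'' := isEtaleNhd_trans ⟨het, hpp, hbp⟩ ⟨inferInstance, hpp', hb'' _ _ _⟩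
  letI : ∀ i, Algebra R'' (C i ⊗[R'] R'') := fun i => Algebra.TensorProduct.rightAlgebra
  haveI : ∀ i, Algebra.Etale S (C i ⊗[R'] R'') := fun i => Algebra.Etale.comp S (C i) (C i ⊗[R'] R'')
  haveI : ∀ i, IsScalarTower R R'' (C i ⊗[R'] R'') := fun i => IsScalarTower.of_algebraMap_eq fun x => by
    show algebraMap R (C i) x ⊗ₜ[R'] (1 : R'') = (1 : C i) ⊗ₜ[R'] algebraMap R R'' x
    rw [IsScalarTower.algebraMap_apply R R' (C i), IsScalarTower.algebraMap_apply R R' R'']
    generalize algebraMap R R' x = r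
    rw [Algebra.algebraMap_eq_smul_one, Algebra.algebraMap_eq_smul_one, TensorProduct.smul_tmul]
  haveI : ∀ i, SMulCommClass S R'' (C i ⊗[R'] R'') := fun i => ⟨fun s r x => by
    rw [Algebra.smul_def r x, Algebra.smul_def r (s • x)]
    exact (mul_smul_comm s _ x).symm⟩
  haveI : ∀ i, SMulCommClass R'' S (C i ⊗[R'] R'') := fun i => SMulCommClass.symm _ _ _
  haveI : ∀ i, Module.Projective R'' ((C i ⊗[R'] R'') ⊗[S] N) := fun i => chart_projective_baseChange N (hmain i).2.1
  refine ⟨R'', ∀ i, C i ⊗[R'] R'', inferInstance, inferInstance, inferInstance, inferInstance, inferInstance, inferInstance,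
    inferInstance, inferInstance, p'', inferInstance, hn'', inferInstance, fun q _ hq => ?_,
    projective_restrictScalars_pi (fun i => C i ⊗[R'] R'') N⟩
  obtain ⟨i, Q', hQ', hQ'o, hQ'S⟩ := hcov q hq
  haveI := hQ'; haveI := hQ'o
  obtain ⟨Q'', hQ''p, -, hQ''Q⟩ := pushout_exists_prime (R := R') (S := C i) (R' := R'') (S' := C i ⊗[R'] R'')
    (p := p') (p' := p'') (hb'' _ _ _) Q'
  haveI := hQ''p
  refine ⟨Q''.comap (Pi.evalRingHom (fun i => C i ⊗[R'] R'') i), inferInstance, ?_⟩
  rw [Ideal.comap_comap]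
  show Q''.comap (algebraMap S (C i ⊗[R'] R'')) = q
  rw [IsScalarTower.algebraMap_eq S (C i) (C i ⊗[R'] R''), ← Ideal.comap_comap]
  exact (congrArg (Ideal.comap (algebraMap S (C i))) hQ''Q.over.symm).trans hQ'S

set_option maxHeartbeats 800000 in
/-- Projectivity after étale localization along a fibre. -/
theorem exists_projective_cover {R S : Type u} [CommRing R] [CommRing S] [Algebra R S] [Algebra.FinitePresentation R S]
    (N : Type u) [AddCommGroup N] [Module S N] [Module R N] [IsScalarTower R S N] [Module.FinitePresentation S N]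
    (p : Ideal R) [p.IsPrime] (hflat : ∀ (q : Ideal S) [q.IsPrime], q.LiesOver p → FlatCA.FlatAt R q N) :
    ∃ (R' S' : Type u) (_ : CommRing R') (_ : CommRing S') (_ : Algebra R R') (_ : Algebra S S') (_ : Algebra R' S')
      (_ : Algebra R S') (_ : IsScalarTower R R' S') (_ : IsScalarTower R S S')
      (p' : Ideal R') (_ : p'.IsPrime),
      FlatCA.IsEtaleNhd R R' p p' ∧ Algebra.Etale S S' ∧
      (∀ (q : Ideal S) [q.IsPrime], q.LiesOver p → ∃ q' : Ideal S', q'.IsPrime ∧ q'.comap (algebraMap S S') = q) ∧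
      Module.Projective R' (RestrictScalars R' S' (S' ⊗[S] N)) := by
  obtain ⟨g₀, hg₀, hsub⟩ := exists_basicOpen_fibre p (FlatCrit65.isOpen_flat_locus_module (R := R) (S := S) (M := N))
    fun q hq => hflat q.asIdeal hq
  let S₁ := Localization.Away g₀
  haveI : Algebra.FinitePresentation S S₁ := IsLocalization.Away.finitePresentation g₀
  haveI : Algebra.FinitePresentation R S₁ := Algebra.FinitePresentation.trans R S S₁
  haveI : Algebra.Etale S S₁ := Algebra.Etale.of_isLocalizationAway g₀
  haveI : Module.Flat R (S₁ ⊗[S] N) := flat_away_of_forall N g₀ fun q hq => hsub hq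
  obtain ⟨R', S', _, _, _, _, _, _, hRR', hRS', p', _, hn, het', hcov, hproj⟩ :=
    exists_projective_cover_of_flat (R := R) (S := S₁) (S₁ ⊗[S] N) p
  letI : Algebra S S' := ((algebraMap S₁ S').comp (algebraMap S S₁)).toAlgebra
  haveI : IsScalarTower S S₁ S' := IsScalarTower.of_algebraMap_eq fun _ => rfl
  haveI := hRS'; haveI := het'
  haveI : IsScalarTower R S S' := IsScalarTower.of_algebraMap_eq fun x => by
    show _ = algebraMap S₁ S' (algebraMap S S₁ (algebraMap R S x))
    rw [← IsScalarTower.algebraMap_apply R S S₁, ← IsScalarTower.algebraMap_apply R S₁ S']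
  refine ⟨R', S', inferInstance, inferInstance, inferInstance, inferInstance, inferInstance, inferInstance,
    hRR', inferInstance, p', inferInstance, hn, Algebra.Etale.comp S S₁ S', fun q _ hq => ?_, ?_⟩
  · have hgq : g₀ ∉ q := hg₀ ⟨q, inferInstance⟩ hq
    have hdq : Disjoint (Submonoid.powers g₀ : Set S) (q : Set S) :=
      (Ideal.disjoint_powers_iff_notMem_of_isPrime _).2 hgq
    let q₁ : Ideal S₁ := q.map (algebraMap S S₁)
    haveI : q₁.IsPrime := IsLocalization.isPrime_of_isPrime_disjoint (Submonoid.powers g₀) S₁ q ‹_› hdq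
    have hq₁ : q₁.comap (algebraMap S S₁) = q :=
      IsLocalization.under_map_of_isPrime_disjoint (Submonoid.powers g₀) S₁ ‹q.IsPrime› hdq
    haveI : q₁.LiesOver q := ⟨hq₁.symm⟩
    haveI := hq
    obtain ⟨q', hq', hq'₁⟩ := hcov q₁ (Ideal.LiesOver.trans q₁ q p)
    refine ⟨q', hq', ?_⟩
    rw [IsScalarTower.algebraMap_eq S S₁ S', ← Ideal.comap_comap, hq'₁, hq₁]
  · let e : S' ⊗[S₁] (S₁ ⊗[S] N) ≃ₗ[S'] S' ⊗[S] N :=
      TensorProduct.AlgebraTensorModule.cancelBaseChange S S₁ S' S' N
    let e' : RestrictScalars R' S' (S' ⊗[S₁] (S₁ ⊗[S] N)) ≃ₗ[R'] RestrictScalars R' S' (S' ⊗[S] N) :=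
      { e.toAddEquiv with map_smul' := fun c z => e.map_smul (algebraMap R' S' c) z }
    haveI := hproj
    exact Module.Projective.of_equiv e'

end Groth.Agent.RG29
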