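import Groth.Agent.RG29.OpenDescent
import Groth.Agent.RG29.DevAvoid
import Groth.Agent.RG29.ProjCover
import Mathlib

/-!
Affine opens of étale base changes on which a module flat at a point is projective over the base.
-/

set_option autoImplicit false

universe u

open TensorProduct

namespace Groth.Agent.RG29

/-- A basic open in the image of a flat finitely presented algebra containing the images of finitely many
points. -/
theorem exists_basicOpen_image {B C : Type u} [CommRing B] [CommRing C] [Algebra B C] [Module.Flat B C]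
    [Algebra.FinitePresentation B C] (E : Set (PrimeSpectrum C)) (hE : E.Finite) :
    ∃ g : B, (∀ P ∈ E, algebraMap B C g ∉ P.asIdeal) ∧
      ∀ (P : Ideal B) [P.IsPrime], g ∉ P → ∃ P' : Ideal C, P'.IsPrime ∧ P'.comap (algebraMap B C) = P := by
  have hopen : IsOpen (Set.range (PrimeSpectrum.comap (algebraMap B C))) :=
    IsOpenMap.isOpen_range fun _ h => PrimeSpectrum.isOpenMap_comap_of_hasGoingDown_of_finitePresentation _ h
  obtain ⟨I, hI⟩ := (PrimeSpectrum.isClosed_iff_zeroLocus_ideal _).1 hopen.isClosed_compl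
  obtain ⟨g, hg, hgE⟩ := exists_mem_notMem I (PrimeSpectrum.comap (algebraMap B C) '' E) (hE.image _) (by
    rintro _ ⟨P, -, rfl⟩ hle
    have : PrimeSpectrum.comap (algebraMap B C) P ∈ (Set.range (PrimeSpectrum.comap (algebraMap B C)))ᶜ := by
      rw [hI]
      exact (PrimeSpectrum.mem_zeroLocus _ _).2 hle
    exact this ⟨P, rfl⟩)
  refine ⟨g, fun P hP => hgE _ (Set.mem_image_of_mem _ hP), fun P hP hgP => ?_⟩
  obtain ⟨P', hP'⟩ : (⟨P, hP⟩ : PrimeSpectrum B) ∈ Set.range (PrimeSpectrum.comap (algebraMap B C)) := by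
    by_contra h
    have : (⟨P, hP⟩ : PrimeSpectrum B) ∈ PrimeSpectrum.zeroLocus (I : Set B) := hI ▸ h
    exact hgP ((PrimeSpectrum.mem_zeroLocus _ _).1 this hg)
  exact ⟨P'.asIdeal, P'.isPrime, congrArg PrimeSpectrum.asIdeal hP'⟩

/-- Killed kernels give universal injectivity after inverting the element. -/
theorem KerKilled.univInj_baseChange {R P Q : Type u} [CommRing R] [AddCommGroup P] [Module R P] [AddCommGroup Q]
    [Module R Q] {f : R} {φ : P →ₗ[R] Q} (h : KerKilled f φ) (R' : Type u) [CommRing R'] [Algebra R R']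
    (hf : IsUnit (algebraMap R R' f)) : CAlgX.UniversallyInjective R' (φ.baseChange R') := by
  intro X _ _
  letI : Module R X := Module.compHom X (algebraMap R R')
  haveI : IsScalarTower R R' X := IsScalarTower.of_algebraMap_smul fun _ _ => rfl
  let eP : (R' ⊗[R] P) ⊗[R'] X ≃ₗ[R] P ⊗[R] X :=
    (((TensorProduct.comm R' _ X).trans (AlgebraTensorModule.cancelBaseChange R R' R' X P)).restrictScalars R).trans
      (TensorProduct.comm R X P)
  let eQ : (R' ⊗[R] Q) ⊗[R'] X ≃ₗ[R] Q ⊗[R] X :=
    (((TensorProduct.comm R' _ X).trans (AlgebraTensorModule.cancelBaseChange R R' R' X Q)).restrictScalars R).trans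
      (TensorProduct.comm R X Q)
  have hcomm : ∀ w, eQ ((φ.baseChange R').rTensor X w) = φ.rTensor X (eP w) := fun w => by
    induction w using TensorProduct.induction_on with
    | zero => simp
    | tmul a x =>
      induction a using TensorProduct.induction_on with
      | zero => simp
      | tmul r v => simp [eP, eQ]
      | add a b ha hb => simp only [TensorProduct.add_tmul, map_add, ha, hb]
    | add a b ha hb => simp only [map_add, ha, hb]
  refine (injective_iff_map_eq_zero _).2 fun w hw => ?_
  obtain ⟨n, hn⟩ := h X (eP w) (by rw [← hcomm, hw, map_zero])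
  rw [← map_smul, LinearEquiv.map_eq_zero_iff, ← algebraMap_smul R', map_pow] at hn
  exact ((hf.pow n).smul_eq_zero).1 hn

set_option maxHeartbeats 800000 in
/-- A chart at a point where the module is flat. -/
theorem exists_point_chart {R S : Type u} [CommRing R] [CommRing S] [Algebra R S] [Algebra.FinitePresentation R S]
    (N : Type u) [AddCommGroup N] [Module S N] [Module R N] [IsScalarTower R S N] [Module.FinitePresentation S N]
    (p : Ideal R) [p.IsPrime] (q : Ideal S) [q.IsPrime] [q.LiesOver p] (hflat : FlatCA.FlatAt R q N) :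
    ∃ (R' : Type u) (_ : CommRing R') (_ : Algebra R R') (p' : Ideal R') (_ : p'.IsPrime),
      FlatCA.IsEtaleNhd R R' p p' ∧
      ∃ (C : Type u) (_ : CommRing C) (_ : Algebra S C) (_ : Algebra R' C) (_ : Algebra R C)
        (_ : IsScalarTower R R' C) (_ : IsScalarTower R S C) (Q : Ideal C) (_ : Q.IsPrime)
        (Nc : Type u) (_ : AddCommGroup Nc) (_ : Module C Nc) (_ : Module S Nc) (_ : IsScalarTower S C Nc)
        (_ : Module R' Nc) (_ : IsScalarTower R' C Nc) (gc : N →ₗ[S] Nc),
        Algebra.Etale S C ∧ IsBaseChange C gc ∧ Q.comap (algebraMap S C) = q ∧ Q.comap (algebraMap R' C) = p' ∧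
        ∃ (f₀ : R') (E : Set (PrimeSpectrum C)), f₀ ∉ p' ∧ E.Finite ∧
          Module.Projective (Localization.Away f₀) (Localization.Away f₀ ⊗[R'] Nc) ∧
          ∀ g : C, (∀ P ∈ E, g ∉ P.asIdeal) →
            ∃ f : R', f ∉ p' ∧ KerKilled f ((LinearMap.lsmul C Nc g).restrictScalars R') := by
  obtain ⟨_, ⟨g₀, rfl⟩, hqg, hsub⟩ := PrimeSpectrum.isTopologicalBasis_basic_opens.exists_subset_of_mem_open
    (show (⟨q, inferInstance⟩ : PrimeSpectrum S) ∈ {x : PrimeSpectrum S | Module.Flat R (LocalizedModule x.asIdeal.primeCompl N)}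
      from hflat)
    (FlatCrit65.isOpen_flat_locus_module (R := R) (S := S) (M := N))
  let S₁ := Localization.Away g₀
  haveI : Algebra.FinitePresentation S S₁ := IsLocalization.Away.finitePresentation g₀
  haveI : Algebra.FinitePresentation R S₁ := Algebra.FinitePresentation.trans R S S₁
  haveI : Algebra.Etale S S₁ := Algebra.Etale.of_isLocalizationAway g₀
  haveI : Module.Flat R (S₁ ⊗[S] N) := flat_away_of_forall N g₀ fun x hx => hsub hx
  obtain ⟨R', _, _, p', _, hn, k, C, _, _, _, _, hRR, hRS, Nc, _, _, _, hSC, gc, hmain, hcov⟩ :=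
    exists_flat_devissage_cover (R := R) (S := S₁) (S₁ ⊗[S] N) p
  obtain ⟨het, hpp, hbp⟩ := hn
  haveI := het; haveI := hpp
  have hdq : Disjoint (Submonoid.powers g₀ : Set S) (q : Set S) :=
    (Ideal.disjoint_powers_iff_notMem_of_isPrime _).2 hqg
  let q₁ : Ideal S₁ := q.map (algebraMap S S₁)
  haveI : q₁.IsPrime := IsLocalization.isPrime_of_isPrime_disjoint (Submonoid.powers g₀) S₁ q ‹_› hdq
  have hq₁ : q₁.comap (algebraMap S S₁) = q :=
    IsLocalization.under_map_of_isPrime_disjoint (Submonoid.powers g₀) S₁ ‹q.IsPrime› hdq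
  haveI : q₁.LiesOver q := ⟨hq₁.symm⟩
  obtain ⟨i, Q, hQ, hQp, hQq⟩ := hcov q₁ (Ideal.LiesOver.trans q₁ q p)
  haveI := (hmain i).1
  haveI := hRS i
  letI : Algebra S (C i) := ((algebraMap S₁ (C i)).comp (algebraMap S S₁)).toAlgebra
  haveI : IsScalarTower S S₁ (C i) := IsScalarTower.of_algebraMap_eq fun _ => rfl
  haveI : IsScalarTower R S (C i) := IsScalarTower.of_algebraMap_eq fun x => by
    show _ = algebraMap S₁ (C i) (algebraMap S S₁ (algebraMap R S x))
    rw [← IsScalarTower.algebraMap_apply R S S₁, ← IsScalarTower.algebraMap_apply R S₁ (C i)]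
  haveI : Algebra.Etale S (C i) := Algebra.Etale.comp S S₁ (C i)
  haveI := hSC i
  letI : Module S (Nc i) := Module.compHom (Nc i) (algebraMap S S₁)
  haveI : IsScalarTower S S₁ (Nc i) := IsScalarTower.of_algebraMap_smul fun _ _ => rfl
  haveI : IsScalarTower S (C i) (Nc i) := IsScalarTower.of_algebraMap_smul fun c m => by
    show algebraMap S₁ (C i) (algebraMap S S₁ c) • m = algebraMap S S₁ c • m
    rw [algebraMap_smul]
  letI : Module R' (Nc i) := Module.compHom (Nc i) (algebraMap R' (C i))
  haveI : IsScalarTower R' (C i) (Nc i) := IsScalarTower.of_algebraMap_smul fun _ _ => rfl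
  letI : Module R (Nc i) := Module.compHom (Nc i) (algebraMap R R')
  haveI : IsScalarTower R R' (Nc i) := IsScalarTower.of_algebraMap_smul fun _ _ => rfl
  haveI := hRR i
  haveI : IsScalarTower R (C i) (Nc i) := IsScalarTower.of_algebraMap_smul fun c m => by
    rw [IsScalarTower.algebraMap_apply R R' (C i), algebraMap_smul, algebraMap_smul]
  haveI : Module.FinitePresentation (C i) (Nc i) := FinitePresentation.of_isBaseChange (gc i) (hmain i).2.1
  haveI : Module.Flat R ((C i) ⊗[S₁] (S₁ ⊗[S] N)) := FlatCrit65.flat_tensor_of_flat (R' := R) (T := S₁) (C i) (S₁ ⊗[S] N)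
  haveI : Module.Flat R (Nc i) := Module.Flat.of_linearEquiv ((hmain i).2.1.equiv.restrictScalars R).symm
  haveI : Module.Flat R' (Nc i) := Hensel20.flat_of_formallyUnramified R R' (Nc i)
  haveI : Algebra.FinitePresentation R (C i) := Algebra.FinitePresentation.trans R S (C i)
  haveI : Algebra.FinitePresentation R' (C i) :=
    Algebra.FinitePresentation.of_restrict_scalars_finitePresentation R R' (C i)
  obtain ⟨D⟩ := (hmain i).2.2
  obtain ⟨f₀, E, hf₀, hE, hproj, hkill⟩ := exists_projective_avoid D
  refine ⟨R', inferInstance, inferInstance, p', inferInstance, ⟨het, hpp, hbp⟩, C i, inferInstance, inferInstance,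
    inferInstance, inferInstance, inferInstance, inferInstance, Q, hQ, Nc i, inferInstance, inferInstance,
    inferInstance, inferInstance, inferInstance, inferInstance, (gc i).restrictScalars S ∘ₗ TensorProduct.mk S S₁ N 1,
    inferInstance, IsBaseChange.comp (TensorProduct.isBaseChange S N S₁) (hmain i).2.1, ?_, hQp.over.symm,
    f₀, E, hf₀, hE, hproj, hkill⟩
  rw [IsScalarTower.algebraMap_eq S S₁ (C i), ← Ideal.comap_comap, hQq, hq₁]

/-- Universal injectivity moves along an intertwining isomorphism. -/
theorem univInj_of_conj {R L L' : Type u} [CommRing R] [AddCommGroup L] [Module R L] [AddCommGroup L'] [Module R L']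
    (e : L ≃ₗ[R] L') (u : L →ₗ[R] L) (v : L' →ₗ[R] L') (h : ∀ x, e (u x) = v (e x))
    (hv : CAlgX.UniversallyInjective R v) : CAlgX.UniversallyInjective R u := by
  intro X _ _ a b hab
  refine (LinearEquiv.rTensor X e).injective (hv X ?_)
  show v.rTensor X (e.toLinearMap.rTensor X a) = v.rTensor X (e.toLinearMap.rTensor X b)
  rw [← LinearMap.rTensor_comp_apply, ← LinearMap.rTensor_comp_apply,
    show v.comp e.toLinearMap = e.toLinearMap.comp u from LinearMap.ext fun x => (h x).symm,
    LinearMap.rTensor_comp_apply, LinearMap.rTensor_comp_apply, hab]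

set_option maxHeartbeats 1600000 in
/-- An affine open of the base change to an étale neighbourhood, containing the point over the given one, on
which the module is projective over the base. -/
theorem exists_projective_open {R S : Type u} [CommRing R] [CommRing S] [Algebra R S] [Algebra.FinitePresentation R S]
    (N : Type u) [AddCommGroup N] [Module S N] [Module R N] [IsScalarTower R S N] [Module.FinitePresentation S N]
    (p : Ideal R) [p.IsPrime] (q : Ideal S) [q.IsPrime] [q.LiesOver p] (hflat : FlatCA.FlatAt R q N) :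
    ∃ (R' : Type u) (_ : CommRing R') (_ : Algebra R R') (p' : Ideal R') (_ : p'.IsPrime), FlatCA.IsEtaleNhd R R' p p' ∧
      ∀ (S' N' : Type u) [CommRing S'] [Algebra R S'] [Algebra S S'] [Algebra R' S'] [IsScalarTower R S S'] [IsScalarTower R R' S']
        [Algebra.IsPushout R S R' S']
        [AddCommGroup N'] [Module S' N'] [Module S N'] [IsScalarTower S S' N']
        (fb : N →ₗ[S] N'), IsBaseChange S' fb →
        ∃ (g : S') (P : Ideal S'), P.IsPrime ∧ g ∉ P ∧ P.LiesOver q ∧ P.LiesOver p' ∧
          Module.Projective R' (RestrictScalars R' (Localization.Away g) (Localization.Away g ⊗[S'] N')) := by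
  obtain ⟨R', _, _, p', _, hn, C, _, _, _, _, hRR, hRS, Q, hQ, Nc, _, _, _, _, _, _, gc, hetC, hbc, hQq, hQp, f₀, E,
    hf₀, hE, hproj₀, hkill⟩ := exists_point_chart N p q hflat
  obtain ⟨het, hpp, hbp⟩ := hn
  haveI := het; haveI := hpp; haveI := hetC; haveI := hQ
  letI : Algebra R' (S ⊗[R] R') := Algebra.TensorProduct.rightAlgebra
  let BA := S ⊗[R] R'
  letI : Algebra BA C := (Algebra.TensorProduct.lift (IsScalarTower.toAlgHom R S C) (IsScalarTower.toAlgHom R R' C)
    (fun _ _ => Commute.all _ _)).toRingHom.toAlgebra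
  haveI : IsScalarTower S BA C := IsScalarTower.of_algebraMap_eq fun x => by
    show algebraMap S C x = algebraMap S C x * algebraMap R' C 1
    rw [map_one, mul_one]
  haveI : IsScalarTower R' BA C := IsScalarTower.of_algebraMap_eq fun x => by
    show algebraMap R' C x = algebraMap S C 1 * algebraMap R' C x
    rw [map_one, one_mul]
  haveI : Algebra.Etale S BA := inferInstance
  haveI : Algebra.Etale BA C := Algebra.Etale.of_restrictScalars S BA C
  obtain ⟨g, hgE, hgcov⟩ := exists_basicOpen_image (B := BA) (insert ⟨Q, hQ⟩ E) (hE.insert _)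
  obtain ⟨f₁, hf₁, hk₁⟩ := hkill (algebraMap BA C g) fun P hP => hgE P (Set.mem_insert_of_mem _ hP)
  let f := f₀ * f₁
  have hf : f ∉ p' := fun h => (‹p'.IsPrime›.mem_or_mem h).elim hf₀ hf₁
  let R'' := Localization.Away f
  haveI : Module.Projective R'' (R'' ⊗[R'] Nc) := by
    haveI := hproj₀
    exact projective_away_of_dvd (dvd_mul_right f₀ f₁)
  have hd : Disjoint (Submonoid.powers f : Set R') (p' : Set R') :=
    (Ideal.disjoint_powers_iff_notMem_of_isPrime _).2 hf
  let p'' : Ideal R'' := p'.map (algebraMap R' R'')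
  haveI : p''.IsPrime := IsLocalization.isPrime_of_isPrime_disjoint (Submonoid.powers f) R'' p' ‹_› hd
  haveI hpp' : p''.LiesOver p' :=
    ⟨(IsLocalization.under_map_of_isPrime_disjoint (Submonoid.powers f) R'' ‹p'.IsPrime› hd).symm⟩
  haveI : Algebra.Etale R' R'' := Algebra.Etale.of_isLocalizationAway f
  have hb'' := (RingHom.surjectiveOnStalks_of_isLocalization (Submonoid.powers f) R'').residueFieldMap_bijective
  refine ⟨R'', inferInstance, inferInstance, p'', inferInstance,
    isEtaleNhd_trans ⟨het, hpp, hbp⟩ ⟨inferInstance, hpp', hb'' _ _ _⟩, ?_⟩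
  intro S' N' _ _ _ _ _ _ hpush _ _ _ _ fb hfb
  letI : Algebra R' S' := ((algebraMap R'' S').comp (algebraMap R' R'')).toAlgebra
  haveI : IsScalarTower R' R'' S' := IsScalarTower.of_algebraMap_eq fun _ => rfl
  haveI : IsScalarTower R R' S' := IsScalarTower.of_algebraMap_eq fun x => by
    show _ = algebraMap R'' S' (algebraMap R' R'' (algebraMap R R' x))
    rw [← IsScalarTower.algebraMap_apply R R' R'', ← IsScalarTower.algebraMap_apply R R'' S']
  letI : Algebra BA S' := (Algebra.TensorProduct.lift (IsScalarTower.toAlgHom R S S') (IsScalarTower.toAlgHom R R' S')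
    (fun _ _ => Commute.all _ _)).toRingHom.toAlgebra
  haveI : IsScalarTower S BA S' := IsScalarTower.of_algebraMap_eq fun x => by
    show algebraMap S S' x = algebraMap S S' x * algebraMap R' S' 1
    rw [map_one, mul_one]
  haveI : IsScalarTower R' BA S' := IsScalarTower.of_algebraMap_eq fun x => by
    show algebraMap R' S' x = algebraMap S S' 1 * algebraMap R' S' x
    rw [map_one, one_mul]
  haveI : IsScalarTower R BA S' := IsScalarTower.of_algebraMap_eq fun x => by
    rw [IsScalarTower.algebraMap_apply R R' BA, ← IsScalarTower.algebraMap_apply R' BA S',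
      ← IsScalarTower.algebraMap_apply R R' S']
  haveI : Algebra.IsPushout R R' S BA := Algebra.IsPushout.symm inferInstance
  have hp1 : Algebra.IsPushout R' R'' BA S' :=
    (Algebra.IsPushout.comp_iff R R' S BA (T := R'') (T' := S')).1 hpush.symm
  haveI hp1' : Algebra.IsPushout R' BA R'' S' := hp1.symm
  let C' := S' ⊗[BA] C
  letI : Algebra C C' := Algebra.TensorProduct.rightAlgebra
  haveI : SMulCommClass BA R'' S' := ⟨fun a b x => by
    rw [Algebra.smul_def b x, Algebra.smul_def b (a • x)]
    exact (mul_smul_comm a _ x).symm⟩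
  haveI : IsScalarTower BA C C' := inferInstance
  haveI : IsScalarTower R' C C' := IsScalarTower.of_algebraMap_eq fun x => by
    rw [IsScalarTower.algebraMap_apply R' BA C, ← IsScalarTower.algebraMap_apply BA C C',
      IsScalarTower.algebraMap_apply BA S' C', ← IsScalarTower.algebraMap_apply R' BA S']
    exact (IsScalarTower.algebraMap_apply R' S' C' x)
  haveI : IsScalarTower S C C' := IsScalarTower.of_algebraMap_eq fun x => by
    rw [IsScalarTower.algebraMap_apply S BA C, ← IsScalarTower.algebraMap_apply BA C C',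
      IsScalarTower.algebraMap_apply BA S' C', ← IsScalarTower.algebraMap_apply S BA S']
    exact (IsScalarTower.algebraMap_apply S S' C' x)
  haveI hC'push : Algebra.IsPushout R' C R'' C' :=
    (Algebra.IsPushout.comp_iff R' BA R'' S' (T := C) (T' := C')).2
      (Algebra.IsPushout.symm (inferInstance : Algebra.IsPushout BA S' C C'))
  haveI hlocS : IsLocalization (Algebra.algebraMapSubmonoid BA (Submonoid.powers f)) S' :=
    (Algebra.isLocalization_iff_isPushout (Submonoid.powers f) R'').2 hp1'
  haveI hlocC : IsLocalization (Algebra.algebraMapSubmonoid C (Submonoid.powers f)) C' :=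
    (Algebra.isLocalization_iff_isPushout (Submonoid.powers f) R'').2 hC'push
  have hdisj : ∀ P1 : Ideal C, P1.IsPrime → f ∉ P1.comap (algebraMap R' C) →
      Disjoint (Algebra.algebraMapSubmonoid C (Submonoid.powers f) : Set C) (P1 : Set C) := fun P1 hP1 h =>
    Set.disjoint_left.2 (by
      rintro _ ⟨_, ⟨m, rfl⟩, rfl⟩ hm
      exact h ((hP1.comap _).mem_of_pow_mem m hm))
  have hover : ∀ P1 : Ideal C, P1.IsPrime → f ∉ P1.comap (algebraMap R' C) →
      (P1.map (algebraMap C C')).IsPrime ∧ (P1.map (algebraMap C C')).comap (algebraMap C C') = P1 := fun P1 hP1 h =>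
    ⟨IsLocalization.isPrime_of_isPrime_disjoint _ C' P1 hP1 (hdisj P1 hP1 h),
      IsLocalization.under_map_of_isPrime_disjoint _ C' hP1 (hdisj P1 hP1 h)⟩
  let gS : S' := algebraMap BA S' g
  have hunit : IsUnit (algebraMap R' R'' f) := IsLocalization.Away.algebraMap_isUnit f
  have hcov : ∀ (P : Ideal S') [P.IsPrime], gS ∉ P →
      ∃ P' : Ideal C', P'.IsPrime ∧ P'.comap (algebraMap S' C') = P := fun P hP hgP => by
    obtain ⟨P1, hP1, hP1B⟩ := hgcov (P.comap (algebraMap BA S')) hgP
    have hfP : f ∉ P1.comap (algebraMap R' C) := fun h => by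
      rw [IsScalarTower.algebraMap_eq R' BA C, ← Ideal.comap_comap, hP1B, Ideal.comap_comap,
        ← IsScalarTower.algebraMap_eq, IsScalarTower.algebraMap_eq R' R'' S', ← Ideal.comap_comap] at h
      exact (hP.comap (algebraMap R'' S')).ne_top (Ideal.eq_top_of_isUnit_mem _ h hunit)
    obtain ⟨hprime, hcomap⟩ := hover P1 hP1 hfP
    refine ⟨P1.map (algebraMap C C'), hprime, ?_⟩
    have h := PrimeSpectrum.localization_comap_injective S' (Algebra.algebraMapSubmonoid BA (Submonoid.powers f))
      (a₁ := ⟨(P1.map (algebraMap C C')).comap (algebraMap S' C'), hprime.comap _⟩) (a₂ := ⟨P, hP⟩)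
      (PrimeSpectrum.ext (by
        show ((P1.map (algebraMap C C')).comap (algebraMap S' C')).comap (algebraMap BA S') = P.comap (algebraMap BA S')
        rw [Ideal.comap_comap, ← IsScalarTower.algebraMap_eq BA S' C', IsScalarTower.algebraMap_eq BA C C',
          ← Ideal.comap_comap, hcomap, hP1B]))
    exact congrArg PrimeSpectrum.asIdeal h
  haveI : Algebra.FiniteType R'' S' := by
    haveI := hpush.symm
    exact Algebra.FiniteType.equiv inferInstance (Algebra.IsPushout.equiv R R'' S S')
  haveI : Module.Finite S' N' := Module.Finite.equiv hfb.equiv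
  letI : Module R'' N' := Module.compHom N' (algebraMap R'' S')
  haveI : IsScalarTower R'' S' N' := IsScalarTower.of_algebraMap_smul fun _ _ => rfl
  haveI : IsScalarTower R'' S' C' := inferInstance
  haveI hC'push' : Algebra.IsPushout R' R'' C C' := hC'push.symm
  have hb₁ := IsBaseChange.comp hfb (TensorProduct.isBaseChange S' N' C')
  have hb₂ := IsBaseChange.comp hbc (TensorProduct.isBaseChange C Nc C')
  let eC : C' ⊗[S'] N' ≃ₗ[C'] C' ⊗[C] Nc := hb₁.equiv.symm.trans hb₂.equiv
  let e : C' ⊗[S'] N' ≃ₗ[R''] R'' ⊗[R'] Nc :=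
    (eC.restrictScalars R'').trans (Algebra.IsPushout.cancelBaseChange R' R'' C C' Nc)
  haveI : Module.Projective R'' (C' ⊗[S'] N') := Module.Projective.of_equiv e.symm
  let gC : C := algebraMap BA C g
  have hcan : ∀ w : R'' ⊗[R'] Nc, algebraMap C C' gC • (Algebra.IsPushout.cancelBaseChange R' R'' C C' Nc).symm w =
      (Algebra.IsPushout.cancelBaseChange R' R'' C C' Nc).symm
        (((LinearMap.lsmul C Nc gC).restrictScalars R').baseChange R'' w) := fun w => by
    induction w using TensorProduct.induction_on with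
    | zero => simp
    | tmul r n =>
      rw [LinearMap.baseChange_tmul, Algebra.IsPushout.cancelBaseChange_symm_tmul,
        Algebra.IsPushout.cancelBaseChange_symm_tmul]
      show algebraMap C C' gC • (algebraMap R'' C' r ⊗ₜ[C] n) = algebraMap R'' C' r ⊗ₜ[C] (gC • n)
      rw [algebraMap_smul, TensorProduct.tmul_smul]
    | add a b ha hb => simp only [map_add, smul_add, ha, hb]
  have hinj : CAlgX.UniversallyInjective R'' ((LinearMap.lsmul S' (C' ⊗[S'] N') gS).restrictScalars R'') :=
    univInj_of_conj e _ (((LinearMap.lsmul C Nc gC).restrictScalars R').baseChange R'') (fun x => by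
      apply (Algebra.IsPushout.cancelBaseChange R' R'' C C' Nc).symm.injective
      rw [← hcan]
      simp only [e, LinearEquiv.trans_apply, LinearEquiv.symm_apply_apply]
      show eC (gS • x) = algebraMap C C' gC • eC x
      rw [← algebraMap_smul C' gS x, map_smul, ← IsScalarTower.algebraMap_apply BA S' C',
        IsScalarTower.algebraMap_apply BA C C'])
      ((hk₁.of_dvd (dvd_mul_left f₁ f₀)).univInj_baseChange R'' hunit)
  have hpr : Module.Projective R'' (LocalizedModule (Submonoid.powers gS) N') :=
    projective_localized_of_cover (A := R'') (C := C') N' gS hcov hinj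
  have hfQ : f ∉ Q.comap (algebraMap R' C) := hQp ▸ hf
  obtain ⟨hQ'prime, hQ'comap⟩ := hover Q hQ hfQ
  let P : Ideal S' := (Q.map (algebraMap C C')).comap (algebraMap S' C')
  haveI : P.IsPrime := hQ'prime.comap _
  have hPB : P.comap (algebraMap BA S') = Q.comap (algebraMap BA C) := by
    rw [Ideal.comap_comap, ← IsScalarTower.algebraMap_eq BA S' C', IsScalarTower.algebraMap_eq BA C C',
      ← Ideal.comap_comap, hQ'comap]
  refine ⟨gS, P, inferInstance, fun h => hgE ⟨Q, hQ⟩ (Set.mem_insert _ _) ((SetLike.ext_iff.1 hPB g).1 h),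
    ⟨?_⟩, ⟨?_⟩, ?_⟩
  · rw [Ideal.under_def, IsScalarTower.algebraMap_eq S BA S', ← Ideal.comap_comap, hPB, Ideal.comap_comap,
      ← IsScalarTower.algebraMap_eq, hQq]
  · refine congrArg PrimeSpectrum.asIdeal (PrimeSpectrum.localization_comap_injective R'' (Submonoid.powers f)
      (a₁ := ⟨p'', inferInstance⟩) (a₂ := ⟨P.under R'', inferInstance⟩) (PrimeSpectrum.ext ?_))
    show p''.comap (algebraMap R' R'') = (P.comap (algebraMap R'' S')).comap (algebraMap R' R'')
    rw [Ideal.comap_comap, ← IsScalarTower.algebraMap_eq, IsScalarTower.algebraMap_eq R' BA S', ← Ideal.comap_comap,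
      hPB, Ideal.comap_comap, ← IsScalarTower.algebraMap_eq, hQp]
    exact hpp'.over.symm
  · let eT : LocalizedModule (Submonoid.powers gS) N' ≃ₗ[Localization.Away gS] Localization.Away gS ⊗[S'] N' :=
      LocalizedModule.equivTensorProduct (Submonoid.powers gS) N'
    haveI := hpr
    let eR : LocalizedModule (Submonoid.powers gS) N' ≃ₗ[R''] RestrictScalars R'' (Localization.Away gS)
        (Localization.Away gS ⊗[S'] N') :=
      { (eT.restrictScalars R'').toAddEquiv.trans
          (RestrictScalars.addEquiv R'' (Localization.Away gS) (Localization.Away gS ⊗[S'] N')).symm with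
        map_smul' := fun c x => by
          show (RestrictScalars.addEquiv R'' (Localization.Away gS) (Localization.Away gS ⊗[S'] N')).symm
              (eT.restrictScalars R'' (c • x)) =
            c • (RestrictScalars.addEquiv R'' (Localization.Away gS) (Localization.Away gS ⊗[S'] N')).symm
              (eT.restrictScalars R'' x)
          rw [map_smul, ← algebraMap_smul (Localization.Away gS) c (eT.restrictScalars R'' x)]
          exact RestrictScalars.addEquiv_symm_map_algebraMap_smul R'' (Localization.Away gS)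
            (Localization.Away gS ⊗[S'] N') c _ }
    exact Module.Projective.of_equiv eR

end Groth.Agent.RG29
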