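import Groth.Agent.RG29.CompIdem
import Mathlib.RingTheory.Smooth.Flat

/-!
The connected component of a section in the fibres of a smooth algebra, through field valued points.
-/

set_option autoImplicit false

universe u

open TensorProduct

namespace Groth.Agent.RG29

variable {R B : Type u} [CommRing R] [CommRing B] [Algebra R B]

/-- The base change of a section. -/
noncomputable def secMap (σ : B →ₐ[R] R) (L : Type u) [CommRing L] [Algebra R L] : L ⊗[R] B →ₐ[L] L :=
  Algebra.TensorProduct.lift (AlgHom.id L L) ((Algebra.ofId R L).comp σ) fun _ _ => .all _ _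

@[simp]
theorem secMap_tmul (σ : B →ₐ[R] R) (L : Type u) [CommRing L] [Algebra R L] (a : L) (b : B) :
    secMap σ L (a ⊗ₜ b) = a * algebraMap R L (σ b) := by
  simp [secMap]

/-- The point of the base change given by a point with values in `L`. -/
noncomputable def ptMap {L : Type u} [CommRing L] [Algebra R L] (τ : B →ₐ[R] L) : L ⊗[R] B →ₐ[L] L :=
  Algebra.TensorProduct.lift (AlgHom.id L L) τ fun _ _ => .all _ _

@[simp]
theorem ptMap_tmul {L : Type u} [CommRing L] [Algebra R L] (τ : B →ₐ[R] L) (a : L) (b : B) :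
    ptMap τ (a ⊗ₜ b) = a * τ b := by
  simp [ptMap]

/-- The point `τ` lies in the component of the section `σ`. -/
def InComp (σ : B →ₐ[R] R) (L : Type u) [Field L] [Algebra R L] (τ : B →ₐ[R] L) : Prop :=
  ∃ e : L ⊗[R] B, IsCompIdem (secMap σ L).toRingHom e ∧ ptMap τ e = 1

theorem InComp.eval {σ : B →ₐ[R] R} {L : Type u} [Field L] [Algebra R L] {τ : B →ₐ[R] L}
    (h : InComp σ L τ) {e : L ⊗[R] B} (he : IsCompIdem (secMap σ L).toRingHom e) : ptMap τ e = 1 := by
  obtain ⟨e', he', h1⟩ := h
  rwa [he.unique he']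

/-- The map of base changes induced by a map of scalars. -/
noncomputable def baseMap (B : Type u) [CommRing B] [Algebra R B] {L L' : Type u} [CommRing L] [CommRing L']
    [Algebra R L] [Algebra R L'] (j : L →ₐ[R] L') : L ⊗[R] B →ₐ[R] L' ⊗[R] B :=
  Algebra.TensorProduct.map j (AlgHom.id R B)

@[simp]
theorem baseMap_tmul {L L' : Type u} [CommRing L] [CommRing L'] [Algebra R L] [Algebra R L']
    (j : L →ₐ[R] L') (a : L) (b : B) : baseMap B j (a ⊗ₜ b) = j a ⊗ₜ b :=
  rfl

theorem secMap_baseMap (σ : B →ₐ[R] R) {L L' : Type u} [CommRing L] [CommRing L'] [Algebra R L] [Algebra R L']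
    (j : L →ₐ[R] L') (x : L ⊗[R] B) : secMap σ L' (baseMap B j x) = j (secMap σ L x) := by
  induction x using TensorProduct.induction_on with
  | zero => simp
  | tmul a b => simp
  | add x y hx hy => simp [hx, hy]

theorem ptMap_baseMap {L L' : Type u} [CommRing L] [CommRing L'] [Algebra R L] [Algebra R L']
    (j : L →ₐ[R] L') (τ : B →ₐ[R] L) (x : L ⊗[R] B) :
    ptMap (j.comp τ) (baseMap B j x) = j (ptMap τ x) := by
  induction x using TensorProduct.induction_on with
  | zero => simp
  | tmul a b => simp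
  | add x y hx hy => simp [hx, hy]

variable [Algebra.Smooth R B]

theorem exists_isCompIdem_secMap (σ : B →ₐ[R] R) (L : Type u) [Field L] [Algebra R L] :
    ∃ e : L ⊗[R] B, IsCompIdem (secMap σ L).toRingHom e := by
  haveI : IsNoetherianRing (L ⊗[R] B) := Algebra.FiniteType.isNoetherianRing L _
  exact exists_isCompIdem _

/-- Component idempotents of a section are compatible with field extensions. -/
theorem IsCompIdem.baseMap (σ : B →ₐ[R] R) {L L' : Type u} [Field L] [Field L'] [Algebra R L] [Algebra R L']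
    (j : L →ₐ[R] L') {e : L ⊗[R] B} (h : IsCompIdem (secMap σ L).toRingHom e) :
    IsCompIdem (secMap σ L').toRingHom (baseMap B j e) := by
  letI : Algebra L L' := j.toRingHom.toAlgebra
  haveI : IsScalarTower R L L' := IsScalarTower.of_algHom j
  let E := Algebra.TensorProduct.cancelBaseChange R L L' L' B
  have hE : ∀ x : L ⊗[R] B, E ((1 : L') ⊗ₜ x) = RG29.baseMap B j x := by
    intro x
    induction x using TensorProduct.induction_on with
    | zero => simp [E]
    | tmul a b =>
      simp only [E, Algebra.TensorProduct.cancelBaseChange_tmul, baseMap_tmul]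
      rw [Algebra.smul_def, mul_one]
      rfl
    | add x y hx hy => simp only [TensorProduct.tmul_add, map_add, hx, hy]
  have h1 := IsCompIdem.map_extension (secMap σ L) h L' ((secMap σ L').toRingHom.comp E.toAlgHom.toRingHom)
    fun g => by
      show secMap σ L' (E ((1 : L') ⊗ₜ g)) = _
      rw [hE, secMap_baseMap]
      rfl
  have h2 := h1.of_ringEquiv E.toRingEquiv (secMap σ L').toRingHom fun _ => rfl
  rwa [show E.toRingEquiv ((1 : L') ⊗ₜ[L] e) = RG29.baseMap B j e from hE e] at h2

theorem inComp_comp_iff (σ : B →ₐ[R] R) {L L' : Type u} [Field L] [Field L'] [Algebra R L] [Algebra R L']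
    (j : L →ₐ[R] L') (τ : B →ₐ[R] L) : InComp σ L' (j.comp τ) ↔ InComp σ L τ := by
  obtain ⟨e, he⟩ := exists_isCompIdem_secMap σ L
  constructor
  · intro h
    refine ⟨e, he, j.toRingHom.injective ?_⟩
    show j _ = j 1
    rw [← ptMap_baseMap, h.eval (he.baseMap σ j), map_one]
  · intro h
    exact ⟨_, he.baseMap σ j, by rw [ptMap_baseMap, h.eval he, map_one]⟩

/-- The union of the components of the section in the fibres. -/
def compSet (σ : B →ₐ[R] R) : Set (PrimeSpectrum B) :=
  {x | InComp σ x.asIdeal.ResidueField (IsScalarTower.toAlgHom R B _)}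

theorem mem_compSet_iff (σ : B →ₐ[R] R) (x : PrimeSpectrum B) {L : Type u} [Field L] [Algebra R L]
    (τ : B →ₐ[R] L) (hx : ∀ b, τ b = 0 ↔ b ∈ x.asIdeal) : x ∈ compSet σ ↔ InComp σ L τ := by
  let j : x.asIdeal.ResidueField →ₐ[R] L := Ideal.ResidueField.liftₐ x.asIdeal τ (fun b hb => (hx b).2 hb)
    fun b hb => isUnit_iff_ne_zero.2 fun h => hb ((hx b).1 h)
  have hτ : j.comp (IsScalarTower.toAlgHom R B x.asIdeal.ResidueField) = τ :=
    Ideal.ResidueField.liftₐ_comp_toAlgHom x.asIdeal τ _ _
  rw [← hτ, inComp_comp_iff]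
  rfl

end Groth.Agent.RG29
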