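import Groth.Agent.RG29.SectionDefs
import Groth.Agent.E4O.DvrDom
import Mathlib.RingTheory.DiscreteValuationRing.Basic
import Mathlib.LinearAlgebra.TensorProduct.RightExactness

/-!
The component of a section is stable under generalisation.
-/

set_option autoImplicit false

universe u

open TensorProduct

namespace Groth.Agent.RG29

variable {R B : Type u} [CommRing R] [CommRing B] [Algebra R B] [Algebra.Smooth R B]

/-- Over a discrete valuation ring, being in the component of the section passes from the closed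
fibre to the generic fibre. -/
theorem inComp_of_dvr (σ : B →ₐ[R] R) (V : Type u) [CommRing V] [IsDomain V] [IsDiscreteValuationRing V]
    [Algebra R V] (K : Type u) [Field K] [Algebra V K] [IsFractionRing V K] [Algebra R K] [IsScalarTower R V K]
    (k : Type u) [Field k] [Algebra V k] [Algebra R k] [IsScalarTower R V k]
    (hsurj : Function.Surjective (algebraMap V k))
    (hker : RingHom.ker (algebraMap V k) = IsLocalRing.maximalIdeal V) (τ : B →ₐ[R] V)
    (h : InComp σ k ((IsScalarTower.toAlgHom R V k).comp τ)) :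
    InComp σ K ((IsScalarTower.toAlgHom R V K).comp τ) := by
  obtain ⟨ek, hek, hτk⟩ := h
  obtain ⟨eK, heK⟩ := exists_isCompIdem_secMap σ K
  let ψ := baseMap B (IsScalarTower.toAlgHom R V K)
  let φ := baseMap B (IsScalarTower.toAlgHom R V k)
  have hψ : Function.Injective ψ := by
    have := Module.Flat.rTensor_preserves_injective_linearMap (M := B) (IsScalarTower.toAlgHom R V K).toLinearMap
      (IsFractionRing.injective V K)
    exact this
  obtain ⟨π, hπ⟩ := IsDiscreteValuationRing.exists_irreducible V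
  -- elements of the generic fibre up to scaling
  have hscale : ∀ x : K ⊗[R] B, ∃ a : V, a ≠ 0 ∧ ∃ g, algebraMap V K a • x = ψ g := by
    intro x
    induction x using TensorProduct.induction_on with
    | zero => exact ⟨1, one_ne_zero, 0, by simp⟩
    | tmul c b =>
      obtain ⟨a₁, a₂, ha₂, rfl⟩ := IsFractionRing.div_surjective (A := V) (K := K) c
      have h0 : algebraMap V K a₂ ≠ 0 := IsFractionRing.to_map_ne_zero_of_mem_nonZeroDivisors ha₂
      refine ⟨a₂, nonZeroDivisors.ne_zero ha₂, a₁ ⊗ₜ b, ?_⟩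
      rw [TensorProduct.smul_tmul', smul_eq_mul, mul_div_cancel₀ _ h0]
      rfl
    | add x y hx hy =>
      obtain ⟨a₁, h₁, g₁, hg₁⟩ := hx
      obtain ⟨a₂, h₂, g₂, hg₂⟩ := hy
      refine ⟨a₁ * a₂, mul_ne_zero h₁ h₂, (a₂ ⊗ₜ 1) * g₁ + (a₁ ⊗ₜ 1) * g₂, ?_⟩
      rw [map_add, map_mul ψ, map_mul ψ, ← hg₁, ← hg₂, map_mul, smul_add]
      show _ = ((algebraMap V K a₂) ⊗ₜ[R] (1 : B)) * _ + ((algebraMap V K a₁) ⊗ₜ[R] (1 : B)) * _
      have hs : ∀ (c : K) (z : K ⊗[R] B), (c ⊗ₜ[R] (1 : B)) * z = c • z := fun c z => by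
        rw [Algebra.smul_def]; rfl
      rw [hs, hs, smul_smul, smul_smul, mul_comm (algebraMap V K a₂)]
  have hψsmul : ∀ (a : V) (g : V ⊗[R] B), ψ (a • g) = algebraMap V K a • ψ g := by
    intro a g
    induction g using TensorProduct.induction_on with
    | zero => simp
    | tmul c b =>
      rw [TensorProduct.smul_tmul', smul_eq_mul]
      show algebraMap V K (a * c) ⊗ₜ b = _ • (algebraMap V K c ⊗ₜ b)
      rw [TensorProduct.smul_tmul', smul_eq_mul, map_mul]
    | add x y hx hy => rw [smul_add, map_add, map_add, hx, hy, smul_add]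
  -- the kernel of the reduction
  have hφker : ∀ g, φ g = 0 → ∃ g', g = π • g' := by
    intro g hg
    have hex : Function.Exact (LinearMap.mulLeft R π : V →ₗ[R] V) (IsScalarTower.toAlgHom R V k).toLinearMap := by
      intro v
      show algebraMap V k v = 0 ↔ _
      rw [← RingHom.mem_ker, hker, hπ.maximalIdeal_eq, Ideal.mem_span_singleton']
      exact ⟨fun ⟨c, hc⟩ => ⟨c, (mul_comm π c).trans hc⟩, fun ⟨c, hc⟩ => ⟨c, (mul_comm c π).trans hc⟩⟩
    obtain ⟨g', rfl⟩ := (rTensor_exact B hex hsurj g).1 hg
    refine ⟨g', ?_⟩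
    clear hg
    induction g' using TensorProduct.induction_on with
    | zero => simp
    | tmul c b => rw [LinearMap.rTensor_tmul, TensorProduct.smul_tmul', smul_eq_mul]; rfl
    | add x y hx hy => rw [map_add, hx, hy, smul_add]
  -- the idempotent is integral
  obtain ⟨g, hg⟩ : ∃ g, eK = ψ g := by
    obtain ⟨a, ha, g, hg⟩ := hscale eK
    obtain ⟨m, hu⟩ := IsDiscreteValuationRing.associated_pow_irreducible ha hπ
    obtain ⟨v, hv⟩ := hu
    have hg' : algebraMap V K (π ^ m) • eK = ψ ((v : V) • g) := by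
      rw [hψsmul, ← hg, smul_smul, ← map_mul, ← hv, mul_comm]
    generalize (v : V) • g = g' at hg'
    clear hg hv ha g
    induction m generalizing g' with
    | zero => exact ⟨g', by rwa [pow_zero, map_one, one_smul] at hg'⟩
    | succ m ih =>
      have hsq : g' * g' = π ^ (m + 1) • g' := by
        refine hψ ?_
        rw [hψsmul, map_mul, ← hg', smul_mul_smul_comm, heK.1.eq, ← smul_smul]
      haveI : IsReduced (k ⊗[R] B) := WC97.isReduced_of_algebraSmooth k _
      have h0 : φ g' = 0 := by
        refine IsNilpotent.eq_zero ⟨2, ?_⟩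
        rw [pow_two, ← map_mul, hsq]
        have hsm : π ^ (m + 1) • g' = ((π ^ (m + 1) : V) ⊗ₜ[R] (1 : B)) * g' := by
          rw [Algebra.smul_def]; rfl
        rw [hsm, map_mul]
        show (algebraMap V k (π ^ (m + 1)) ⊗ₜ[R] (1 : B)) * _ = 0
        rw [map_pow, show algebraMap V k π = 0 by
          rw [← RingHom.mem_ker, hker, hπ.maximalIdeal_eq]; exact Ideal.mem_span_singleton_self π,
          zero_pow (Nat.succ_ne_zero m), TensorProduct.zero_tmul, zero_mul]
      obtain ⟨g'', rfl⟩ := hφker g' h0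
      refine ih g'' ?_
      rw [hψsmul, pow_succ', map_mul, ← smul_smul] at hg'
      exact smul_right_injective (K ⊗[R] B)
        (fun h => hπ.ne_zero (IsFractionRing.injective V K (h.trans (map_zero _).symm))) hg'
  -- read off at the closed point
  have hgi : IsIdempotentElem g := hψ (by rw [map_mul, ← hg]; exact heK.1)
  have hsV : secMap σ V g = 1 := by
    refine IsFractionRing.injective V K ?_
    rw [map_one]
    have := secMap_baseMap σ (IsScalarTower.toAlgHom R V K) g
    rw [show baseMap B (IsScalarTower.toAlgHom R V K) g = eK from hg.symm] at this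
    exact this.symm.trans heK.2.1
  have hsk : secMap σ k (φ g) = 1 := by rw [secMap_baseMap, hsV, map_one]
  have h1 := hek.2.2 (φ g) (hgi.map φ) hsk
  have h2 := congrArg (ptMap ((IsScalarTower.toAlgHom R V k).comp τ)) h1
  rw [map_mul, hτk, mul_one, ptMap_baseMap] at h2
  have hτV : ptMap τ g = 1 := by
    refine (IsIdempotentElem.iff_eq_zero_or_one.1 (hgi.map (ptMap τ))).resolve_left fun h0 => ?_
    rw [h0, map_zero] at h2
    exact zero_ne_one h2
  exact ⟨eK, heK, by rw [hg, ptMap_baseMap, hτV, map_one]⟩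

set_option maxHeartbeats 800000 in
/-- The component of a section is stable under generalisation. -/
theorem compSet_stableUnderGeneralization [IsNoetherianRing R] (σ : B →ₐ[R] R) {x₁ x₀ : PrimeSpectrum B}
    (hle : x₁.asIdeal ≤ x₀.asIdeal) (h₀ : x₀ ∈ compSet σ) : x₁ ∈ compSet σ := by
  by_cases heq : x₁.asIdeal = x₀.asIdeal
  · rwa [PrimeSpectrum.ext heq]
  haveI : IsNoetherianRing B := Algebra.FiniteType.isNoetherianRing R B
  let D := B ⧸ x₁.asIdeal
  let P : Ideal D := x₀.asIdeal.map (Ideal.Quotient.mk x₁.asIdeal)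
  haveI : P.IsPrime := Ideal.isPrime_map_quotientMk_of_isPrime hle
  have hPc : P.comap (Ideal.Quotient.mk x₁.asIdeal) = x₀.asIdeal := by
    rw [Ideal.comap_map_quotientMk, sup_eq_right.2 hle]
  let A₀ := Localization.AtPrime P
  let K := FractionRing D
  have hPnz : P.primeCompl ≤ nonZeroDivisors D := Ideal.primeCompl_le_nonZeroDivisors P
  letI : Algebra A₀ K := IsLocalization.localizationAlgebraOfSubmonoidLe A₀ K P.primeCompl (nonZeroDivisors D) hPnz
  haveI : IsScalarTower D A₀ K :=
    IsLocalization.localization_isScalarTower_of_submonoid_le A₀ K P.primeCompl (nonZeroDivisors D) hPnz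
  haveI : IsFractionRing A₀ K := IsFractionRing.isFractionRing_of_isDomain_of_isLocalization P.primeCompl A₀ K
  have hnf : ¬ IsField A₀ := by
    intro hf
    refine heq (le_antisymm hle fun b hb => ?_)
    have h1 : algebraMap D A₀ (Ideal.Quotient.mk _ b) ∈ IsLocalRing.maximalIdeal A₀ :=
      (IsLocalization.AtPrime.to_map_mem_maximal_iff A₀ P _).2 (Ideal.mem_map_of_mem _ hb)
    rw [IsLocalRing.isField_iff_maximalIdeal_eq.1 hf, Ideal.mem_bot] at h1
    exact Ideal.Quotient.eq_zero_iff_mem.1 (IsLocalization.injective A₀ hPnz (h1.trans (map_zero _).symm))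
  obtain ⟨V, hV, hVmem, hVlt⟩ := E4O.exists_dvr_dominating hnf K K ⟨∅, Subsingleton.elim _ _⟩
  haveI := hV
  have hmem : ∀ b : B, algebraMap B K b ∈ V := fun b => by
    have := hVmem (algebraMap D A₀ (Ideal.Quotient.mk _ b))
    rwa [← IsScalarTower.algebraMap_apply D A₀ K] at this
  let g₀ : B →+* V := (algebraMap B K).codRestrict V.toSubring hmem
  letI : Algebra R V := (g₀.comp (algebraMap R B)).toAlgebra
  haveI : IsScalarTower R V K := IsScalarTower.of_algebraMap_eq fun r => (IsScalarTower.algebraMap_apply R B K r)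
  haveI : IsFractionRing V K := inferInstance
  let τ : B →ₐ[R] V := { g₀ with commutes' := fun r => rfl }
  let k := IsLocalRing.ResidueField V
  have hk : ∀ b, algebraMap V k (τ b) = 0 ↔ b ∈ x₀.asIdeal := by
    intro b
    rw [← RingHom.mem_ker, show RingHom.ker (algebraMap V k) = IsLocalRing.maximalIdeal V from IsLocalRing.ker_residue]
    constructor
    · intro hb
      by_contra hb0
      have hu : IsUnit (algebraMap D A₀ (Ideal.Quotient.mk _ b)) :=
        (IsLocalization.AtPrime.isUnit_to_map_iff A₀ P _).2 fun h => hb0 (hPc.le h)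
      obtain ⟨c, hc⟩ := hu.exists_right_inv
      refine (IsLocalRing.mem_maximalIdeal _).1 hb (IsUnit.of_mul_eq_one (⟨algebraMap A₀ K c, hVmem c⟩ : V) ?_)
      refine Subtype.ext ?_
      show algebraMap B K b * algebraMap A₀ K c = 1
      rw [show algebraMap B K b = algebraMap A₀ K (algebraMap D A₀ (Ideal.Quotient.mk _ b)) from
        (IsScalarTower.algebraMap_apply D A₀ K _), ← map_mul, hc, map_one]
    · intro hb
      have := hVlt _ ((IsLocalization.AtPrime.to_map_mem_maximal_iff A₀ P _).2 (Ideal.mem_map_of_mem _ hb))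
      rw [← IsScalarTower.algebraMap_apply D A₀ K] at this
      exact (V.valuation_lt_one_iff (τ b)).2 this
  rw [mem_compSet_iff σ x₀ ((IsScalarTower.toAlgHom R V k).comp τ) hk] at h₀
  have hK : ∀ b, ((IsScalarTower.toAlgHom R V K).comp τ) b = 0 ↔ b ∈ x₁.asIdeal := fun b => by
    show algebraMap D K (Ideal.Quotient.mk _ b) = 0 ↔ _
    rw [map_eq_zero_iff _ (IsFractionRing.injective D K), Ideal.Quotient.eq_zero_iff_mem]
  rw [mem_compSet_iff σ x₁ _ hK]
  exact inComp_of_dvr σ V K k IsLocalRing.residue_surjective IsLocalRing.ker_residue τ h₀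

end Groth.Agent.RG29
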