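import Groth.Agent.RG29.SectionGen
import Groth.Agent.RG29.IntegralSpread

/-!
The component of a section contains a neighbourhood of each of its points in their closure, and is
open over a Noetherian base.
-/

set_option autoImplicit false

universe u

open TensorProduct

namespace Groth.Agent.RG29

variable {R B : Type u} [CommRing R] [CommRing B] [Algebra R B] [Algebra.Smooth R B]

set_option maxHeartbeats 1600000 in
/-- Near a point of the component of the section, inside the closure of that point, all points are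
in the component. -/
theorem compSet_exists_nhd_in_closure (σ : B →ₐ[R] R) (x : PrimeSpectrum B) (hx : x ∈ compSet σ) :
    ∃ g : B, g ∉ x.asIdeal ∧ ∀ z : PrimeSpectrum B, x.asIdeal ≤ z.asIdeal → g ∉ z.asIdeal → z ∈ compSet σ := by
  classical
  let 𝔰 := x.asIdeal.under R
  let A := R ⧸ 𝔰
  let L0 := 𝔰.ResidueField
  let ι : A →ₐ[R] L0 := IsScalarTower.toAlgHom R A L0
  have hι : Function.Injective ι := IsFractionRing.injective A L0
  let ψ := baseMap B ι
  have hψ : Function.Injective ψ :=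
    Module.Flat.rTensor_preserves_injective_linearMap (M := B) ι.toLinearMap hι
  obtain ⟨e0, he0⟩ := exists_isCompIdem_secMap σ L0
  -- clear denominators
  have hscale : ∀ y : L0 ⊗[R] B, ∃ a : A, a ≠ 0 ∧ ∃ c, ι a • y = ψ c := by
    intro y
    induction y using TensorProduct.induction_on with
    | zero => exact ⟨1, one_ne_zero, 0, by simp⟩
    | tmul c b =>
      obtain ⟨a₁, a₂, ha₂, rfl⟩ := IsFractionRing.div_surjective (A := A) (K := L0) c
      refine ⟨a₂, nonZeroDivisors.ne_zero ha₂, a₁ ⊗ₜ b, ?_⟩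
      rw [TensorProduct.smul_tmul', smul_eq_mul]
      show (algebraMap A L0 a₂ * _) ⊗ₜ[R] b = algebraMap A L0 a₁ ⊗ₜ[R] b
      rw [mul_div_cancel₀ _ (IsFractionRing.to_map_ne_zero_of_mem_nonZeroDivisors ha₂)]
    | add y z hy hz =>
      obtain ⟨a₁, h₁, g₁, hg₁⟩ := hy
      obtain ⟨a₂, h₂, g₂, hg₂⟩ := hz
      refine ⟨a₁ * a₂, mul_ne_zero h₁ h₂, (a₂ ⊗ₜ 1) * g₁ + (a₁ ⊗ₜ 1) * g₂, ?_⟩
      rw [map_add, map_mul ψ, map_mul ψ, ← hg₁, ← hg₂, map_mul, smul_add]
      show _ = (ι a₂ ⊗ₜ[R] (1 : B)) * _ + (ι a₁ ⊗ₜ[R] (1 : B)) * _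
      have hs : ∀ (c : L0) (z : L0 ⊗[R] B), (c ⊗ₜ[R] (1 : B)) * z = c • z := fun c z => by
        rw [Algebra.smul_def]; rfl
      rw [hs, hs, smul_smul, smul_smul, mul_comm (ι a₂)]
  obtain ⟨a, ha, c, hc⟩ := hscale e0
  have hsmul : ∀ {L : Type u} [CommRing L] [Algebra R L] (j : A →ₐ[R] L) (d : A) (y : A ⊗[R] B),
      baseMap B j ((d ⊗ₜ[R] (1 : B)) * y) = j d • baseMap B j y := fun j d y => by
    rw [map_mul, baseMap_tmul, Algebra.smul_def]
    rfl
  have hcsq : c * c = (a ⊗ₜ[R] (1 : B)) * c := by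
    refine hψ ?_
    rw [map_mul, hsmul, ← hc, smul_mul_smul_comm, he0.1.eq, smul_smul]
  have hsecc : secMap σ A c = a := by
    refine hι ?_
    rw [← secMap_baseMap σ ι, show baseMap B ι c = _ from hc.symm, map_smul,
      show secMap σ L0 e0 = 1 from he0.2.1, smul_eq_mul, mul_one]
  -- idempotents over the fields above
  have hidem : ∀ (L : Type u) [Field L] [Algebra R L] (j : A →ₐ[R] L), j a ≠ 0 →
      IsIdempotentElem ((j a)⁻¹ • baseMap B j c) ∧ secMap σ L ((j a)⁻¹ • baseMap B j c) = 1 := by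
    intro L _ _ j hja
    constructor
    · show _ * _ = _
      rw [smul_mul_smul_comm, ← map_mul, hcsq, hsmul, smul_smul, mul_assoc, inv_mul_cancel₀ hja, mul_one]
    · rw [map_smul, secMap_baseMap, hsecc, smul_eq_mul, inv_mul_cancel₀ hja]
  -- the smooth algebra cut out by `c`
  let B₁ := Localization.Away c
  haveI : Algebra.Etale (A ⊗[R] B) B₁ := Algebra.Etale.of_isLocalizationAway c
  haveI : Algebra.Smooth A B₁ := Algebra.Smooth.comp A (A ⊗[R] B) B₁
  -- base change to a field
  have hbc : ∀ (L : Type u) [Field L] [Algebra A L] [Algebra R L] [IsScalarTower R A L],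
      algebraMap A L a ≠ 0 →
      ∀ e : L ⊗[R] B, e = (algebraMap A L a)⁻¹ • baseMap B (IsScalarTower.toAlgHom R A L) c →
      ∃ π : L ⊗[R] B →+* L ⊗[A] B₁, π e = 1 ∧ (∀ y, π y = 0 → e * y = 0) ∧
        (∀ (C : Type u) [CommRing C] [Algebra (L ⊗[R] B) C] [IsLocalization.Away e C],
          Nonempty (C ≃+* L ⊗[A] B₁)) := by
    intro L _ _ _ _ hLa e he
    have hei : IsIdempotentElem e := by
      rw [he]; exact (hidem L (IsScalarTower.toAlgHom R A L) hLa).1
    letI := RingHom.toAlgebra (R := L ⊗[A] (A ⊗[R] B)) (S := L ⊗[A] B₁)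
      (Algebra.TensorProduct.map (AlgHom.id L L) (IsScalarTower.toAlgHom A (A ⊗[R] B) B₁)).toRingHom
    haveI : IsScalarTower L (L ⊗[A] (A ⊗[R] B)) (L ⊗[A] B₁) := IsScalarTower.of_algebraMap_eq fun y => by
      show _ = (Algebra.TensorProduct.map (AlgHom.id L L) (IsScalarTower.toAlgHom A (A ⊗[R] B) B₁)) (y ⊗ₜ 1)
      simp
    have hW : IsLocalization.Away ((1 : L) ⊗ₜ[A] c) (L ⊗[A] B₁) := by
      have := IsLocalization.tensorProduct_tensorProduct_right A L (A := A ⊗[R] B) (Submonoid.powers c) B₁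
        (RingHom.ext fun y => by
          show (Algebra.TensorProduct.map (AlgHom.id L L) (IsScalarTower.toAlgHom A (A ⊗[R] B) B₁)) ((1 : L) ⊗ₜ y) = _
          simp)
      rwa [Submonoid.map_powers] at this
    let E := Algebra.TensorProduct.cancelBaseChange R A L L B
    have hE : ∀ y : A ⊗[R] B, E ((1 : L) ⊗ₜ y) = baseMap B (IsScalarTower.toAlgHom R A L) y := by
      intro y
      induction y using TensorProduct.induction_on with
      | zero => simp [E]
      | tmul s b =>
        simp only [E, Algebra.TensorProduct.cancelBaseChange_tmul, baseMap_tmul]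
        rw [Algebra.smul_def, mul_one]
        rfl
      | add y z hy hz => simp only [TensorProduct.tmul_add, map_add, hy, hz]
    have hassoc : Associated ((1 : L) ⊗ₜ[A] c) (E.symm e) := by
      have h1 : E.symm e = algebraMap L _ (algebraMap A L a)⁻¹ * ((1 : L) ⊗ₜ[A] c) := by
        rw [he, ← hE, map_smul, AlgEquiv.symm_apply_apply]
        rw [TensorProduct.smul_tmul', smul_eq_mul, Algebra.TensorProduct.algebraMap_apply,
          Algebra.TensorProduct.tmul_mul_tmul, one_mul]
        rfl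
      rw [h1]
      exact (associated_unit_mul_left _ _ ((isUnit_iff_ne_zero.2 (inv_ne_zero hLa)).map _)).symm
    haveI hW' : IsLocalization.Away (E.symm e) (L ⊗[A] B₁) := IsLocalization.Away.of_associated hassoc
    let π : L ⊗[R] B →+* L ⊗[A] B₁ :=
      ((IsScalarTower.toAlgHom L (L ⊗[A] (A ⊗[R] B)) (L ⊗[A] B₁)).comp E.symm.toAlgHom).toRingHom
    have hu : IsUnit (π e) := IsLocalization.Away.algebraMap_isUnit (E.symm e)
    refine ⟨π, hu.mul_left_cancel (by rw [← map_mul, hei.eq, mul_one]), fun y hy => ?_, fun C _ _ _ => ?_⟩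
    · obtain ⟨⟨_, m, rfl⟩, hm⟩ := (IsLocalization.map_eq_zero_iff (Submonoid.powers (E.symm e)) (L ⊗[A] B₁) _).1 hy
      have h2 := congrArg E hm
      simp only [map_mul, map_pow, AlgEquiv.apply_symm_apply, map_zero] at h2
      have h3 : e ^ (m + 1) = e := hei.pow_succ_eq m
      rw [← h3, pow_succ', mul_assoc]
      erw [AlgEquiv.apply_symm_apply] at h2
      rw [h2, mul_zero]
    · letI : Algebra (L ⊗[R] B) (L ⊗[A] B₁) := π.toAlgebra
      haveI : IsLocalization.Away e (L ⊗[A] B₁) := by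
        have := IsLocalization.isLocalization_of_base_ringEquiv (Submonoid.powers (E.symm e)) (L ⊗[A] B₁) E.toRingEquiv
        have hmap : Submonoid.map E.toRingEquiv (Submonoid.powers (E.symm e)) = Submonoid.powers e := by
          rw [Submonoid.map_powers]
          congr 1
          exact E.apply_symm_apply e
        rw [hmap] at this
        exact this
      exact ⟨(IsLocalization.algEquiv (Submonoid.powers e) C (L ⊗[A] B₁)).toRingEquiv⟩
  have hint : ∀ (L : Type u) [Field L] [Algebra A L], Function.Injective (algebraMap A L) → IsDomain (L ⊗[A] B₁) := by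
    intro L _ _ hinj
    letI : Algebra R L := ((algebraMap A L).comp (algebraMap R A)).toAlgebra
    haveI : IsScalarTower R A L := IsScalarTower.of_algebraMap_eq fun _ => rfl
    have hLa : algebraMap A L a ≠ 0 := (map_ne_zero_iff _ hinj).2 ha
    let j : L0 →ₐ[R] L := IsLocalization.liftAlgHom (M := nonZeroDivisors A) (f := IsScalarTower.toAlgHom R A L)
      fun y => isUnit_iff_ne_zero.2 ((map_ne_zero_iff _ hinj).2 (nonZeroDivisors.ne_zero y.2))
    have hj : ∀ s : A, j (ι s) = algebraMap A L s := fun s => IsLocalization.lift_eq _ s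
    have hcomp : j.comp ι = IsScalarTower.toAlgHom R A L := AlgHom.ext hj
    let e := baseMap B j e0
    have hbb : ∀ y, baseMap B j (baseMap B ι y) = baseMap B (IsScalarTower.toAlgHom R A L) y := by
      intro y
      induction y using TensorProduct.induction_on with
      | zero => simp
      | tmul s b => simp only [baseMap_tmul]; rw [hj]; rfl
      | add y z hy hz => simp only [map_add, hy, hz]
    have hje : ∀ (l : L0) (y : L0 ⊗[R] B), baseMap B j (l • y) = j l • baseMap B j y := fun l y => by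
      rw [Algebra.smul_def, map_mul, Algebra.smul_def]
      rfl
    have he : e = (algebraMap A L a)⁻¹ • baseMap B (IsScalarTower.toAlgHom R A L) c := by
      rw [← hbb, show baseMap B ι c = _ from hc.symm, hje, hj, smul_smul, inv_mul_cancel₀ hLa, one_smul]
    have hcomp' := he0.baseMap σ j
    haveI := hcomp'.isDomain_corner (k := L)
    haveI : IsLocalization.Away e ((L ⊗[R] B) ⧸ Ideal.span {1 - e}) := IsLocalization.away_of_isIdempotentElem hcomp'.1
      (by rw [Ideal.Quotient.algebraMap_eq, Ideal.mk_ker]) Ideal.Quotient.mk_surjective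
    obtain ⟨π, -, -, hC⟩ := hbc L hLa e he
    obtain ⟨Ψ⟩ := hC ((L ⊗[R] B) ⧸ Ideal.span {1 - e})
    exact Ψ.symm.toMulEquiv.isDomain
  obtain ⟨a₁, ha₁, hspread⟩ := exists_domain_spread (A := A) (B := B₁) hint
  obtain ⟨r, hr⟩ := Ideal.Quotient.mk_surjective (a * a₁)
  refine ⟨algebraMap R B r, fun h => mul_ne_zero ha ha₁ ?_, fun z hxz hgz => ?_⟩
  · rw [← hr, Ideal.Quotient.eq_zero_iff_mem]
    exact h
  -- the point `z`
  let L := z.asIdeal.ResidueField
  let jA : A →ₐ[R] L := Ideal.Quotient.liftₐ 𝔰 (Algebra.ofId R L) fun s hs => by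
    show algebraMap R L s = 0
    rw [IsScalarTower.algebraMap_apply R B L, Ideal.algebraMap_residueField_eq_zero]
    exact hxz hs
  letI : Algebra A L := jA.toRingHom.toAlgebra
  haveI : IsScalarTower R A L := IsScalarTower.of_algebraMap_eq fun s => (jA.commutes s).symm
  have hne : algebraMap A L (a * a₁) ≠ 0 := by
    rw [← hr]
    show algebraMap R L r ≠ 0
    rw [IsScalarTower.algebraMap_apply R B L, Ne, Ideal.algebraMap_residueField_eq_zero]
    exact hgz
  rw [map_mul, mul_ne_zero_iff] at hne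
  haveI := hspread L hne.2
  obtain ⟨π, hπe, hπker, -⟩ := hbc L hne.1 _ rfl
  obtain ⟨hei, hes⟩ := hidem L jA hne.1
  have hcompz : IsCompIdem (secMap σ L).toRingHom ((algebraMap A L a)⁻¹ • baseMap B jA c) :=
    isCompIdem_of_isDomain _ hei hes π hπker hπe
  refine ⟨_, hcompz, ?_⟩
  -- evaluation at the points
  let τA : B →ₐ[R] B ⧸ x.asIdeal := Ideal.Quotient.mkₐ R x.asIdeal
  let μ : A ⊗[R] B →ₐ[R] B ⧸ x.asIdeal := Algebra.TensorProduct.lift
    (Ideal.Quotient.liftₐ 𝔰 (Algebra.ofId R (B ⧸ x.asIdeal)) fun s hs => by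
      show algebraMap R (B ⧸ x.asIdeal) s = 0
      rw [IsScalarTower.algebraMap_apply R B, Ideal.Quotient.algebraMap_eq, Ideal.Quotient.eq_zero_iff_mem]
      exact hs) τA fun _ _ => .all _ _
  have hkey : ∀ (M : Type u) [Field M] [Algebra R M] (i : B ⧸ x.asIdeal →ₐ[R] M) (j : A →ₐ[R] M) (y : A ⊗[R] B),
      ptMap (i.comp τA) (baseMap B j y) = i (μ y) := by
    intro M _ _ i j y
    induction y using TensorProduct.induction_on with
    | zero => simp
    | tmul s b =>
      obtain ⟨s, rfl⟩ := Ideal.Quotient.mk_surjective s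
      simp only [baseMap_tmul, ptMap_tmul, μ, Algebra.TensorProduct.lift_tmul, map_mul]
      show j (algebraMap R A s) * _ = i (algebraMap R (B ⧸ x.asIdeal) s) * _
      rw [AlgHom.commutes, AlgHom.commutes]
      rfl
    | add y z hy hz => simp only [map_add, hy, hz]
  have hμ : μ c = μ (a ⊗ₜ 1) := by
    obtain ⟨e, he, hpt⟩ := hx
    let M := x.asIdeal.ResidueField
    let i : B ⧸ x.asIdeal →ₐ[R] M := IsScalarTower.toAlgHom R _ M
    let j : L0 →ₐ[R] M := Ideal.ResidueField.mapₐ 𝔰 x.asIdeal (Algebra.ofId R B) rfl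
    refine (IsFractionRing.injective (B ⧸ x.asIdeal) M) ?_
    show i (μ c) = i (μ (a ⊗ₜ 1))
    rw [← hkey M i (j.comp ι), ← hkey M i (j.comp ι)]
    have hbb : ∀ y, baseMap B (j.comp ι) y = baseMap B j (baseMap B ι y) := fun y => by
      induction y using TensorProduct.induction_on with
      | zero => simp
      | tmul s b => rfl
      | add y z hy hz => simp only [map_add, hy, hz]
    rw [hbb, show baseMap B ι c = _ from hc.symm]
    have : baseMap B j (ι a • e0) = j (ι a) • baseMap B j e0 := by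
      rw [Algebra.smul_def, map_mul, Algebra.smul_def]
      rfl
    rw [this, (he0.baseMap σ j).unique he, map_smul,
      show ptMap (i.comp τA) e = 1 from hpt, baseMap_tmul, ptMap_tmul]
    simp
  let iz : B ⧸ x.asIdeal →ₐ[R] L := Ideal.Quotient.liftₐ x.asIdeal (IsScalarTower.toAlgHom R B L)
    fun b hb => Ideal.algebraMap_residueField_eq_zero.2 (hxz hb)
  have hτ : iz.comp τA = IsScalarTower.toAlgHom R B L := AlgHom.ext fun b => rfl
  rw [map_smul, ← hτ, hkey L iz jA, hμ, ← hkey L iz jA, baseMap_tmul, ptMap_tmul, map_one, mul_one,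
    smul_eq_mul]
  exact inv_mul_cancel₀ hne.1

/-- Over a Noetherian base the component of a section is open. -/
theorem compSet_isOpen_of_isNoetherianRing [IsNoetherianRing R] (σ : B →ₐ[R] R) : IsOpen (compSet σ) := by
  classical
  haveI : IsNoetherianRing B := Algebra.FiniteType.isNoetherianRing R B
  rw [← isClosed_compl_iff, ← closure_subset_iff_isClosed]
  intro x hx hxE
  set F := (compSet σ)ᶜ
  rw [← PrimeSpectrum.zeroLocus_vanishingIdeal_eq_closure, PrimeSpectrum.mem_zeroLocus] at hx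
  set I := PrimeSpectrum.vanishingIdeal F
  obtain ⟨η, hη, hηx⟩ := Ideal.exists_minimalPrimes_le (J := x.asIdeal) (I := I) hx
  let η' : PrimeSpectrum B := ⟨η, hη.1.1⟩
  have hηE : η' ∈ compSet σ := compSet_stableUnderGeneralization σ hηx hxE
  obtain ⟨g, hg, hgE⟩ := compSet_exists_nhd_in_closure σ η' hηE
  have hfin := Ideal.finite_minimalPrimes_of_isNoetherianRing B I
  let T := hfin.toFinset.erase η
  have hex : ∀ Q ∈ T, ∃ u ∈ Q, u ∉ η := by
    intro Q hQ
    obtain ⟨hne, hQ⟩ := Finset.mem_erase.1 hQ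
    by_contra hcon
    push Not at hcon
    exact hne (le_antisymm hcon (hη.2 (hfin.mem_toFinset.1 hQ).1 hcon))
  choose u huQ huη using hex
  let h : B := g * ∏ Q ∈ T.attach, u Q.1 Q.2
  have hhη : h ∉ η := by
    intro hh
    rcases hη.1.1.mem_or_mem hh with hh | hh
    · exact hg hh
    · obtain ⟨Q, -, hQ⟩ := (Ideal.IsPrime.prod_mem_iff (hp := hη.1.1)).1 hh
      exact huη _ _ hQ
  refine hhη (hη.1.2 ?_)
  rw [PrimeSpectrum.mem_vanishingIdeal]
  intro z hz
  have hIz : I ≤ z.asIdeal := fun b hb => (PrimeSpectrum.mem_vanishingIdeal _ _).1 hb z hz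
  obtain ⟨Q, hQ, hQz⟩ := Ideal.exists_minimalPrimes_le hIz
  by_contra hhz
  by_cases hQη : Q = η
  · subst hQη
    exact hz (hgE z hQz fun hgz => hhz (Ideal.mul_mem_right _ _ hgz))
  · refine hhz (Ideal.mul_mem_left _ _ (Ideal.prod_mem _ (s := T.attach)
      (i := ⟨Q, Finset.mem_erase.2 ⟨hQη, hfin.mem_toFinset.2 hQ⟩⟩) (Finset.mem_attach _ _)
      (hQz (huQ _ _))))

end Groth.Agent.RG29
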