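import Groth.Agent.RG29.SectionLocal
import Mathlib.RingTheory.Smooth.NoetherianDescent

/-!
The component of a section of a smooth algebra is open, over any base.
-/

set_option autoImplicit false

universe u

open TensorProduct

namespace Groth.Agent.RG29

variable {R B : Type u} [CommRing R] [CommRing B] [Algebra R B] [Algebra.Smooth R B]

/-- The component of a section is compatible with base change. -/
theorem compSet_eq_preimage {R₁ B₁ : Type u} [CommRing R₁] [CommRing B₁] [Algebra R₁ R] [Algebra R₁ B₁]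
    [Algebra.Smooth R₁ B₁] (σ₁ : B₁ →ₐ[R₁] R₁) (σ : B →ₐ[R] R) (E : R ⊗[R₁] B₁ ≃ₐ[R] B)
    (hσ : ∀ b, σ (E ((1 : R) ⊗ₜ b)) = algebraMap R₁ R (σ₁ b)) :
    compSet σ = PrimeSpectrum.comap (E.toAlgHom.toRingHom.comp
      (Algebra.TensorProduct.includeRight (R := R₁) (A := R) (B := B₁)).toRingHom) ⁻¹' compSet σ₁ := by
  ext x
  let L := x.asIdeal.ResidueField
  letI : Algebra R₁ L := ((algebraMap R L).comp (algebraMap R₁ R)).toAlgebra
  haveI : IsScalarTower R₁ R L := IsScalarTower.of_algebraMap_eq fun _ => rfl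
  let τ : B →ₐ[R] L := IsScalarTower.toAlgHom R B L
  let τ₁ : B₁ →ₐ[R₁] L :=
    ((τ.comp E.toAlgHom).restrictScalars R₁).comp (Algebra.TensorProduct.includeRight (R := R₁) (A := R) (B := B₁))
  rw [Set.mem_preimage, mem_compSet_iff σ₁ _ τ₁ fun b => by
    show algebraMap B L (E ((1 : R) ⊗ₜ b)) = 0 ↔ _
    rw [Ideal.algebraMap_residueField_eq_zero]
    rfl]
  show InComp σ L τ ↔ _
  let Ψ : L ⊗[R₁] B₁ ≃ₐ[L] L ⊗[R] B :=
    (Algebra.TensorProduct.cancelBaseChange R₁ R L L B₁).symm.trans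
      (Algebra.TensorProduct.congr AlgEquiv.refl E)
  have hΨ : ∀ (l : L) (b : B₁), Ψ (l ⊗ₜ b) = l ⊗ₜ E ((1 : R) ⊗ₜ b) := fun l b => by
    simp [Ψ]
  have hs : ∀ y, secMap σ L (Ψ y) = secMap σ₁ L y := fun y => by
    induction y using TensorProduct.induction_on with
    | zero => simp
    | tmul l b =>
      rw [hΨ, secMap_tmul, secMap_tmul, hσ, ← IsScalarTower.algebraMap_apply]
    | add y z hy hz => simp only [map_add, hy, hz]
  have hp : ∀ y, ptMap τ (Ψ y) = ptMap τ₁ y := fun y => by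
    induction y using TensorProduct.induction_on with
    | zero => simp
    | tmul l b => rw [hΨ, ptMap_tmul, ptMap_tmul]; rfl
    | add y z hy hz => simp only [map_add, hy, hz]
  obtain ⟨e, he⟩ := exists_isCompIdem_secMap σ₁ L
  have he' : IsCompIdem (secMap σ L).toRingHom (Ψ e) := he.of_ringEquiv Ψ.toRingEquiv _ hs
  constructor
  · intro h
    exact ⟨e, he, by rw [← hp]; exact h.eval he'⟩
  · intro h
    exact ⟨Ψ e, he', by rw [hp]; exact h.eval he⟩

/-- The component of a section of a smooth algebra is open. -/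
theorem compSet_isOpen (σ : B →ₐ[R] R) : IsOpen (compSet σ) := by
  classical
  obtain ⟨R₀, B₀, _, _, hR₀, hB₀, ⟨E₀⟩⟩ := Algebra.Smooth.exists_subalgebra_fg ℤ R B
  obtain ⟨s₀, hs₀⟩ := hR₀
  obtain ⟨gens, hgens⟩ := (inferInstance : Algebra.FiniteType R₀ B₀).out
  let f : B₀ →ₐ[R₀] R :=
    ((σ.comp E₀.symm.toAlgHom).restrictScalars R₀).comp (Algebra.TensorProduct.includeRight (R := R₀) (A := R) (B := B₀))
  let R₁ : Subalgebra ℤ R := Algebra.adjoin ℤ ((s₀ : Set R) ∪ f '' (gens : Set B₀))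
  haveI : Algebra.FiniteType ℤ R₁ := (Subalgebra.fg_iff_finiteType R₁).1
    (Subalgebra.fg_def.2 ⟨_, (s₀.finite_toSet).union (gens.finite_toSet.image f), rfl⟩)
  haveI : IsNoetherianRing R₁ := Algebra.FiniteType.isNoetherianRing ℤ R₁
  have hle : R₀ ≤ R₁ := by
    rw [← hs₀]
    exact Algebra.adjoin_mono Set.subset_union_left
  letI : Algebra R₀ R₁ := (Subalgebra.inclusion hle).toRingHom.toAlgebra
  haveI : IsScalarTower R₀ R₁ R := IsScalarTower.of_algebraMap_eq fun _ => rfl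
  have hf : ∀ b : B₀, f b ∈ R₁ := by
    intro b
    have hb : b ∈ Algebra.adjoin R₀ (gens : Set B₀) := by rw [hgens]; trivial
    induction hb using Algebra.adjoin_induction with
    | mem b hb => exact Algebra.subset_adjoin (Or.inr ⟨b, hb, rfl⟩)
    | algebraMap r => rw [AlgHom.commutes]; exact hle r.2
    | add x y _ _ hx hy => rw [map_add]; exact R₁.add_mem hx hy
    | mul x y _ _ hx hy => rw [map_mul]; exact R₁.mul_mem hx hy
  let f₁ : B₀ →ₐ[R₀] R₁ :=
    { f.toRingHom.codRestrict R₁ hf with commutes' := fun r => Subtype.ext (f.commutes r) }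
  let B₁ := R₁ ⊗[R₀] B₀
  let σ₁ : B₁ →ₐ[R₁] R₁ := Algebra.TensorProduct.lift (AlgHom.id R₁ R₁) f₁ fun _ _ => .all _ _
  let E : R ⊗[R₁] B₁ ≃ₐ[R] B := (Algebra.TensorProduct.cancelBaseChange R₀ R₁ R R B₀).trans E₀.symm
  have hσ : ∀ b, σ (E ((1 : R) ⊗ₜ b)) = algebraMap R₁ R (σ₁ b) := by
    intro b
    induction b using TensorProduct.induction_on with
    | zero => simp
    | tmul c b =>
      show σ (E₀.symm (Algebra.TensorProduct.cancelBaseChange R₀ R₁ R R B₀ ((1 : R) ⊗ₜ (c ⊗ₜ b)))) =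
        algebraMap R₁ R (c * f₁ b)
      rw [Algebra.TensorProduct.cancelBaseChange_tmul, Algebra.smul_def, mul_one, map_mul]
      show σ (E₀.symm (algebraMap R₁ R c ⊗ₜ b)) = _
      rw [show (algebraMap R₁ R c) ⊗ₜ[R₀] b = algebraMap R₁ R c • ((1 : R) ⊗ₜ[R₀] b) by
        rw [TensorProduct.smul_tmul', smul_eq_mul, mul_one], map_smul, map_smul]
      rfl
    | add x y hx hy => simp only [TensorProduct.tmul_add, map_add, hx, hy]
  rw [compSet_eq_preimage σ₁ σ E hσ]
  exact (compSet_isOpen_of_isNoetherianRing σ₁).preimage (PrimeSpectrum.continuous_comap _)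

end Groth.Agent.RG29
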